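import Groth.Agent.Hensel.Local
import Mathlib.RingTheory.Unramified.Finite
import Mathlib.RingTheory.Unramified.Field
import Mathlib.FieldTheory.IsSepClosed

/-!
# Lifting and rigidity for maps out of étale / unramified algebras
-/

set_option autoImplicit false

universe u v w

open TensorProduct IsLocalRing

namespace Groth.Agent.Hensel

section rigidity

variable {R : Type u} {S : Type v} {T : Type w} [CommRing R] [CommRing S] [CommRing T]
  [Algebra R S] [Algebra R T]

/-- Maps out of an unramified algebra agreeing modulo an ideal in the Jacobson radical are equal. -/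
theorem algHom_ext_of_unramified [Algebra.FormallyUnramified R S] [Algebra.EssFiniteType R S]
    {J : Ideal T} (hJ : J ≤ Ideal.jacobson ⊥) {f g : S →ₐ[R] T}
    (h : ∀ s, f s - g s ∈ J) : f = g := by
  set t := Algebra.FormallyUnramified.elem R S
  set L := Algebra.TensorProduct.lift f g fun _ _ ↦ .all _ _
  set π := Ideal.Quotient.mkₐ R J
  have hπ : π.comp g = π.comp f :=
    AlgHom.ext fun s ↦ (Ideal.Quotient.eq.mpr (h s)).symm
  have hL : π.comp L = (π.comp f).comp (Algebra.TensorProduct.lmul' R) := by
    refine Algebra.TensorProduct.ext' fun a b ↦ ?_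
    have := congr($hπ b)
    simp only [AlgHom.comp_apply] at this
    simp [L, this]
  have hu : IsUnit (L t) := by
    refine isUnit_of_sub_one_mem hJ ?_
    rw [← Ideal.Quotient.eq_zero_iff_mem, map_sub, map_one, sub_eq_zero]
    have := congr($hL t)
    simpa [π, t, Algebra.FormallyUnramified.lmul_elem] using this
  refine AlgHom.ext fun s ↦ (sub_eq_zero.mp (hu.mul_left_eq_zero.mp ?_)).symm
  have := congr(L $(Algebra.FormallyUnramified.one_tmul_sub_tmul_one_mul_elem (R := R) s))
  simpa [L, t] using this

end rigidity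

variable {R : Type u} [CommRing R]

/-- Lifting of points of an étale algebra along a henselian pair over the base. -/
theorem exists_algHom_lift_etale {A : Type u} [CommRing A] [Algebra R A] (I : Ideal A)
    (h : GabberRoot A I) (E : Type u) [CommRing E] [Algebra R E] [Algebra.Etale R E]
    (σ : E →ₐ[R] A ⧸ I) :
    ∃! τ : E →ₐ[R] A, (Ideal.Quotient.mkₐ R I).comp τ = σ := by
  obtain ⟨τ, hτ⟩ := exists_algHom_lift_of_etale h (A ⊗[R] E)
    (Algebra.TensorProduct.lift (Algebra.ofId A (A ⧸ I)) σ fun _ _ ↦ .all _ _)
  refine ⟨(τ.restrictScalars R).comp Algebra.TensorProduct.includeRight, ?_, fun τ' hτ' ↦ ?_⟩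
  · ext x
    simpa using congr($hτ (1 ⊗ₜ x))
  · refine algHom_ext_of_unramified h.jac fun s ↦ Ideal.Quotient.eq.mp ?_
    have h1 := congr($hτ' s)
    have h2 := congr($hτ (1 ⊗ₜ s))
    simp at h1 h2 ⊢
    rw [h1, h2]

/-- Point lifting at a prime. -/
theorem existsUnique_algHom_of_residueField {S : Type u} [CommRing S] [HenselianLocalRing S]
    [Algebra R S] (E : Type u) [CommRing E] [Algebra R E] [Algebra.Etale R E]
    (σ : E →ₐ[R] ResidueField S) :
    ∃! τ : E →ₐ[R] S, ∀ x, residue S (τ x) = σ x := by
  obtain ⟨τ, hτ, huniq⟩ := exists_algHom_lift_etale (maximalIdeal S)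
    gabberRoot_of_henselianLocalRing E σ
  exact ⟨τ, fun x ↦ congr($hτ x), fun τ' h' ↦ huniq τ' (AlgHom.ext h')⟩

/-- A local ring with the lifting property at rational points is henselian. -/
theorem henselianLocalRing_of_retraction [IsLocalRing R]
    (h : ∀ (E : Type u) [CommRing E] [Algebra R E] [Algebra.Etale R E],
      (E →ₐ[R] ResidueField R) → Nonempty (E →ₐ[R] R)) : HenselianLocalRing R := by
  refine ((HenselianLocalRing.TFAE R).out 0 1).mpr ?_
  intro f hf a₀ h₁ h₂
  open Polynomial in
  set F := f.map (residue R) with hF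
  have hroot : F.IsRoot a₀ := by
    rw [Polynomial.IsRoot, hF, Polynomial.eval_map]; simpa [Polynomial.aeval_def] using h₁
  set q₀ := F /ₘ (Polynomial.X - Polynomial.C a₀)
  have hfac : (Polynomial.X - Polynomial.C a₀) * q₀ = F :=
    Polynomial.mul_divByMonic_eq_iff_isRoot.mpr hroot
  have hd : F.derivative.eval a₀ = q₀.eval a₀ := by
    rw [← hfac]; simp [Polynomial.derivative_mul]
  have hd' : F.derivative.eval a₀ ≠ 0 := by
    rw [hF, Polynomial.derivative_map, Polynomial.eval_map]
    simpa [Polynomial.aeval_def] using h₂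
  obtain ⟨Q, hQ⟩ := Polynomial.map_surjective (residue R) residue_surjective q₀
  let P : StandardEtalePair R := ⟨f, hf, f.derivative * Q, ⟨Q, 0, 1, by ring⟩⟩
  have hP : P.HasMap a₀ := by
    refine ⟨h₁, ?_⟩
    rw [isUnit_iff_ne_zero, map_mul]
    refine mul_ne_zero h₂ ?_
    rw [Polynomial.aeval_def, show (algebraMap R (ResidueField R)) = residue R from rfl,
      ← Polynomial.eval_map, hQ, ← hd]
    exact hd'
  obtain ⟨τ⟩ := h P.Ring (P.lift _ hP)
  have hm := P.hasMap_X.map τ
  refine ⟨τ P.X, ?_, ?_⟩
  · rw [Polynomial.IsRoot, ← Polynomial.coe_aeval_eq_eval]; exact hm.1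
  · have hu := (hm.2.map (residue R)).ne_zero
    have h0 : F.eval (residue R (τ P.X)) = 0 := by
      rw [hF, Polynomial.eval_map, Polynomial.eval₂_at_apply, ← Polynomial.coe_aeval_eq_eval, hm.1,
        map_zero]
    rw [← hfac, Polynomial.eval_mul, mul_eq_zero] at h0
    refine h0.elim (fun h0 ↦ by simpa [sub_eq_zero] using h0) fun h0 ↦ absurd ?_ hu
    have hQ0 : residue R (Q.eval (τ P.X)) = 0 := by
      rw [← Polynomial.eval_map_apply, hQ, h0]
    rw [map_mul, map_mul, Polynomial.coe_aeval_eq_eval, hQ0, mul_zero]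

/-- A field-valued point of an unramified algebra over a separably closed field is rational. -/
theorem exists_algebraMap_eq_of_unramified {k E K : Type*} [Field k] [IsSepClosed k] [CommRing E]
    [Algebra k E] [Algebra.FormallyUnramified k E] [Algebra.EssFiniteType k E] [Field K]
    [Algebra k K] (σ : E →ₐ[k] K) (x : E) : ∃ c, algebraMap k K c = σ x := by
  let L := σ.range
  have hs : Function.Surjective σ.rangeRestrict := σ.rangeRestrict_surjective
  have : Algebra.FormallyUnramified k L := .of_surjective σ.rangeRestrict hs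
  have : Algebra.EssFiniteType k L := Algebra.EssFiniteType.of_surjective σ.rangeRestrict hs
  have : Module.Finite k L := Algebra.FormallyUnramified.finite_of_free k L
  let := (isField_of_isIntegral_of_isField' (R := k) (S := L) (Field.toIsField k)).toField
  have : Algebra.IsSeparable k L := Algebra.FormallyUnramified.isSeparable k L
  obtain ⟨c, hc⟩ := IsSepClosed.algebraMap_surjective k L ⟨σ x, x, rfl⟩
  exact ⟨c, congrArg Subtype.val hc⟩

end Groth.Agent.Hensel
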