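import Groth.Agent.Hensel.Main
import Mathlib.RingTheory.Smooth.StandardSmooth
import Mathlib.RingTheory.Smooth.StandardSmoothCotangent

/-!
# Multivariable Hensel lemma for henselian pairs, and monic factors of arbitrary polynomials
-/

set_option autoImplicit false

universe u v

open Polynomial

namespace Groth.Agent.Hensel

variable {A : Type u} [CommRing A] {I : Ideal A}

/-- Newton-Hensel for square systems over a henselian pair. -/
theorem exists_common_zero_of_isUnit_jacobian (h : GabberRoot A I) {n : ℕ}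
    (P : Fin n → MvPolynomial (Fin n) A) (a₀ : Fin n → A)
    (h₀ : ∀ i, MvPolynomial.eval a₀ (P i) ∈ I)
    (hJ : IsUnit (Ideal.Quotient.mk I
      (Matrix.of (fun i j => MvPolynomial.eval a₀ (MvPolynomial.pderiv j (P i)))).det)) :
    ∃ a : Fin n → A, (∀ i, MvPolynomial.eval a (P i) = 0) ∧ ∀ j, a j - a₀ j ∈ I := by
  classical
  let S₀ := MvPolynomial (Fin n) A ⧸ Ideal.span (Set.range P)
  let pre : Algebra.PreSubmersivePresentation A S₀ (Fin n) (Fin n) :=
    .naive id Function.injective_id
  let Δ : S₀ := pre.jacobian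
  have hΔ : IsUnit (algebraMap S₀ (Localization.Away Δ) Δ) :=
    IsLocalization.Away.algebraMap_isUnit _
  let Q : Algebra.SubmersivePresentation A (Localization.Away Δ) _ _ :=
    { toPreSubmersivePresentation :=
        .comp (.localizationAway (Localization.Away Δ) Δ) pre,
      jacobian_isUnit := by simpa [Algebra.smul_def, -isUnit_map_iff, Δ, hΔ] }
  have : Algebra.IsStandardSmoothOfRelativeDimension 0 A (Localization.Away Δ) :=
    ⟨_, _, _, inferInstance, Q, by
      simp only [Algebra.PreSubmersivePresentation.dimension_comp_eq_dimension_add_dimension, Q]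
      simp [Algebra.Presentation.dimension]⟩
  have : Algebra.Etale A (Localization.Away Δ) := inferInstance
  let q : MvPolynomial (Fin n) A →ₐ[A] A ⧸ I :=
    MvPolynomial.aeval fun j ↦ Ideal.Quotient.mk I (a₀ j)
  have hq : ∀ r, q r = Ideal.Quotient.mk I (MvPolynomial.eval a₀ r) := fun r ↦ by
    induction r using MvPolynomial.induction_on with
    | C a => simp [q]
    | add p r hp hr => simp [hp, hr]
    | mul_X p i hp => rw [map_mul, hp, MvPolynomial.eval_mul, map_mul]; simp [q]
  let q₀ : S₀ →ₐ[A] A ⧸ I := Ideal.Quotient.liftₐ _ q (fun r hr ↦ by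
    have hle : Ideal.span (Set.range P) ≤ RingHom.ker q.toRingHom := by
      rw [Ideal.span_le]
      rintro _ ⟨i, rfl⟩
      simp [hq, Ideal.Quotient.eq_zero_iff_mem, h₀]
    exact hle hr)
  have hu : IsUnit (q₀ Δ) := by
    have hdet : Δ = Ideal.Quotient.mk _
        (Matrix.of (fun i j ↦ MvPolynomial.pderiv i (P j))).det := by
      rw [show Δ = pre.jacobian from rfl,
        Algebra.PreSubmersivePresentation.jacobian_eq_jacobiMatrix_det,
        Algebra.Generators.algebraMap_eq]
      have : pre.jacobiMatrix = Matrix.of fun i j ↦ MvPolynomial.pderiv i (P j) :=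
        Matrix.ext fun i j ↦ Algebra.PreSubmersivePresentation.jacobiMatrix_naive _ _ _ _ i j
      rw [this]
      exact congrFun (congrArg DFunLike.coe (MvPolynomial.algHom_ext
        (f := MvPolynomial.aeval pre.val) (g := Ideal.Quotient.mkₐ A _) fun i ↦ by
          rw [MvPolynomial.aeval_X]; rfl)) _
    rw [hdet]
    change IsUnit (q _)
    rw [hq, RingHom.map_det]
    convert hJ using 2
    rw [← Matrix.det_transpose]
    rfl
  obtain ⟨τ, hτ⟩ := exists_algHom_lift_of_etale h (Localization.Away Δ)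
    (IsLocalization.Away.liftAlgHom Δ (f := q₀) hu)
  let ψ : MvPolynomial (Fin n) A →ₐ[A] A :=
    τ.comp ((IsScalarTower.toAlgHom A S₀ (Localization.Away Δ)).comp (Ideal.Quotient.mkₐ A _))
  have hψ : ∀ r, MvPolynomial.eval (fun j ↦ ψ (MvPolynomial.X j)) r = ψ r := fun r ↦ by
    rw [← MvPolynomial.coe_aeval_eq_eval]
    exact congrFun (congrArg DFunLike.coe
      (MvPolynomial.algHom_ext (f := MvPolynomial.aeval fun j ↦ ψ (MvPolynomial.X j)) (g := ψ)
        fun i ↦ by simp)) r
  refine ⟨fun j ↦ ψ (MvPolynomial.X j), fun i ↦ ?_, fun j ↦ ?_⟩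
  · rw [hψ]
    have : Ideal.Quotient.mkₐ A (Ideal.span (Set.range P)) (P i) = 0 :=
      Ideal.Quotient.eq_zero_iff_mem.mpr (Ideal.subset_span ⟨i, rfl⟩)
    simp only [ψ, AlgHom.comp_apply, this, map_zero]
  · rw [← Ideal.Quotient.eq]
    have := congr($hτ (algebraMap S₀ (Localization.Away Δ) (Ideal.Quotient.mk _ (MvPolynomial.X j))))
    have hq₀ : q₀ (Ideal.Quotient.mk _ (MvPolynomial.X j)) = Ideal.Quotient.mk I (a₀ j) := by
      change q (MvPolynomial.X j) = _
      simp [q]
    simp only [AlgHom.comp_apply, Ideal.Quotient.mkₐ_eq_mk] at this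
    rw [IsLocalization.Away.liftAlgHom] at this
    simpa [ψ, hq₀, Ideal.Quotient.mkₐ_eq_mk] using! this

/-- A monic factor with coprime complement lifts, for an arbitrary polynomial. -/
theorem exists_monic_dvd_lift (h : GabberRoot A I) (f : A[X]) (g₀ h₀ : (A ⧸ I)[X]) (hg : g₀.Monic)
    (hc : IsCoprime g₀ h₀) (he : f.map (Ideal.Quotient.mk I) = g₀ * h₀) :
    ∃ g q : A[X], g.Monic ∧ f = g * q ∧
      g.map (Ideal.Quotient.mk I) = g₀ ∧ q.map (Ideal.Quotient.mk I) = h₀ := by
  classical
  cases subsingleton_or_nontrivial (A ⧸ I)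
  · have := subsingleton_of_quotient_subsingleton h.jac
    exact ⟨1, 1, monic_one, Subsingleton.elim _ _, Subsingleton.elim _ _, Subsingleton.elim _ _⟩
  have : Nontrivial A := (Ideal.Quotient.mk I).domain_nontrivial
  set m := g₀.natDegree with hm
  have hGdeg : (∑ i : Fin m, C (MvPolynomial.X i : (MvPolynomial (Fin m) A)) * X ^ (i : ℕ)).degree < (m : WithBot ℕ) :=
    degree_sum_fin_lt _
  let G : (MvPolynomial (Fin m) A)[X] := X ^ m + ∑ i : Fin m, C (MvPolynomial.X i : (MvPolynomial (Fin m) A)) * X ^ (i : ℕ)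
  have hGm : G.Monic := monic_X_pow_add hGdeg
  have hGnat : G.natDegree = m := natDegree_eq_of_degree_eq_some (by
    rw [degree_add_eq_left_of_degree_lt (by rwa [degree_X_pow]), degree_X_pow])
  let F : (MvPolynomial (Fin m) A)[X] := f.map MvPolynomial.C
  let P : Fin m → (MvPolynomial (Fin m) A) := fun i ↦ (F %ₘ G).coeff i
  choose a₀ ha₀ using fun i : Fin m ↦ Ideal.Quotient.mk_surjective (g₀.coeff i)
  let ev : (MvPolynomial (Fin m) A) →+* A ⧸ I := (Ideal.Quotient.mk I).comp (MvPolynomial.eval a₀)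
  have hGev : G.map ev = g₀ := by
    refine .trans ?_ hg.as_sum.symm
    simp [G, ev, ← hm, ha₀, Polynomial.map_sum, ← Fin.sum_univ_eq_sum_range]
  have hFev : F.map ev = g₀ * h₀ := by
    rw [← he, Polynomial.map_map]
    congr 1
    ext x; simp [ev]
  have hQev : (F /ₘ G).map ev = h₀ := by
    rw [map_divByMonic _ hGm, hGev, hFev, mul_divByMonic_cancel_left _ hg]
  have hRev : (F %ₘ G).map ev = 0 := by
    rw [map_modByMonic _ hGm, hGev, hFev, (modByMonic_eq_zero_iff_dvd hg).mpr (Dvd.intro _ rfl)]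
  have hP0 : ∀ i, MvPolynomial.eval a₀ (P i) ∈ I := fun i ↦ by
    rw [← Ideal.Quotient.eq_zero_iff_mem]
    change ev ((F %ₘ G).coeff i) = 0
    rw [← coeff_map, hRev, coeff_zero]
  -- derivative of the remainder
  let D : Fin m → (MvPolynomial (Fin m) A)[X] →+ (MvPolynomial (Fin m) A)[X] := fun j ↦
    { toFun := fun p ↦ p.sum fun k c ↦ monomial k (MvPolynomial.pderiv j c)
      map_zero' := by simp
      map_add' := fun p q ↦ sum_add_index p q _ (fun k ↦ by simp) (fun k a b ↦ by simp) }
  have hDc : ∀ j p k, (D j p).coeff k = MvPolynomial.pderiv j (p.coeff k) := by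
    intro j p k
    simp only [D, AddMonoidHom.coe_mk, ZeroHom.coe_mk, sum_def, finsetSum_coeff, coeff_monomial,
      Finset.sum_ite_eq']
    split_ifs with hk
    · rfl
    · rw [notMem_support_iff.mp hk, map_zero]
  have hDmul : ∀ j p q, D j (p * q) = D j p * q + p * D j q := by
    intro j p q
    refine Polynomial.ext fun k ↦ ?_
    simp only [hDc, coeff_add, coeff_mul, map_sum, Derivation.leibniz, Finset.sum_add_distrib,
      smul_eq_mul]
    rw [← Finset.sum_add_distrib, ← Finset.sum_add_distrib]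
    exact Finset.sum_congr rfl fun x _ ↦ by ring
  have hDF : ∀ j, D j F = 0 := fun j ↦ by refine Polynomial.ext fun k ↦ ?_; simp [hDc, F, coeff_map]
  have hDG : ∀ j : Fin m, D j G = X ^ (j : ℕ) := by
    intro j
    refine Polynomial.ext fun k ↦ ?_
    simp only [hDc, G, coeff_add, map_add, coeff_X_pow, finsetSum_coeff, map_sum,
      coeff_C_mul_X_pow]
    rw [Finset.sum_eq_single j]
    · split_ifs <;> simp
    · intro b _ hb
      split_ifs <;> simp [MvPolynomial.pderiv_X_of_ne hb]
    · simp
  have hkey : ∀ j : Fin m, (D j (F %ₘ G)).map ev =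
      -(X ^ (j : ℕ) * h₀) - g₀ * (D j (F /ₘ G)).map ev := by
    intro j
    have h1 := congr(D j $(modByMonic_add_div F G))
    rw [map_add, hDmul, hDG, hDF] at h1
    have h2 := congr(Polynomial.map ev $h1)
    simp only [Polynomial.map_add, Polynomial.map_mul, Polynomial.map_pow, map_X, hQev, hGev,
      Polynomial.map_zero] at h2
    linear_combination h2
  have hJ : IsUnit (Ideal.Quotient.mk I
      (Matrix.of (fun i j => MvPolynomial.eval a₀ (MvPolynomial.pderiv j (P i)))).det) := by
    set M := (Matrix.of (fun i j => MvPolynomial.eval a₀ (MvPolynomial.pderiv j (P i)))).map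
      (Ideal.Quotient.mk I) with hM
    rw [RingHom.map_det]
    change IsUnit M.det
    have hMij : ∀ i j : Fin m, M i j = ((D j (F %ₘ G)).map ev).coeff i := fun i j ↦ by
      rw [coeff_map, hDc]; rfl
    have hmul : ∀ v : Fin m → A ⧸ I, ∀ i : Fin m, M.mulVec v i =
        ((∑ j : Fin m, C (v j) * (D j (F %ₘ G)).map ev)).coeff i := fun v i ↦ by
      simp [Matrix.mulVec, dotProduct, hMij, mul_comm]
    obtain ⟨c, d, hcd⟩ := hc
    rw [← Matrix.isUnit_iff_isUnit_det, ← Matrix.mulVec_surjective_iff_isUnit]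
    intro w
    -- solve `-(v · h₀) ≡ w (mod g₀)`
    let W : (A ⧸ I)[X] := ∑ i : Fin m, C (w i) * X ^ (i : ℕ)
    let V := (-(d * W)) %ₘ g₀
    have hV : V.degree < (m : WithBot ℕ) :=
      (degree_modByMonic_lt _ hg).trans_eq (degree_eq_natDegree hg.ne_zero)
    refine ⟨fun j ↦ V.coeff j, funext fun i ↦ ?_⟩
    rw [hmul]
    have hVsum : ∑ j : Fin m, C (V.coeff j) * X ^ (j : ℕ) = V := by
      rw [Fin.sum_univ_eq_sum_range (fun i ↦ C (V.coeff i) * X ^ i)]
      by_cases hV0 : V = 0
      · simp [hV0]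
      exact (as_sum_range_C_mul_X_pow' V ((natDegree_lt_iff_degree_lt hV0).mpr hV)).symm
    set T := ∑ j : Fin m, C (V.coeff j) * (D j (F %ₘ G)).map ev with hT
    have hTdeg : T.degree < (m : WithBot ℕ) := by
      refine (degree_sum_le _ _).trans_lt ((Finset.sup_lt_iff (WithBot.bot_lt_coe _)).mpr fun j _ ↦ ?_)
      refine lt_of_le_of_lt ((degree_mul_le _ _).trans (by simpa using add_le_add degree_C_le le_rfl)) (?_ : ((D j (F %ₘ G)).map ev).degree < _)
      rw [degree_lt_iff_coeff_zero]
      intro k hk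
      rw [coeff_map, hDc, coeff_eq_zero_of_degree_lt ((degree_modByMonic_lt _ hGm).trans_le ?_),
        map_zero, map_zero]
      rw [degree_eq_natDegree hGm.ne_zero, hGnat]
      exact_mod_cast hk
    have hdvd : g₀ ∣ T - W := by
      have h1 : T = -(V * h₀) - g₀ * ∑ j : Fin m, C (V.coeff j) * (D j (F /ₘ G)).map ev := by
        conv_rhs => rw [← hVsum, Finset.sum_mul, Finset.mul_sum, ← Finset.sum_neg_distrib,
          ← Finset.sum_sub_distrib]
        refine Finset.sum_congr rfl fun j _ ↦ ?_
        rw [hVsum, hkey]; ring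
      have h2 : V = -(d * W) - g₀ * ((-(d * W)) /ₘ g₀) :=
        eq_sub_of_add_eq (modByMonic_add_div _ _)
      refine ⟨((-(d * W)) /ₘ g₀) * h₀ - (∑ j : Fin m, C (V.coeff j) * (D j (F /ₘ G)).map ev)
        - c * W, ?_⟩
      rw [h1]
      linear_combination -h₀ * h2 + W * hcd
    have h0 : T - W = 0 := by
      by_contra hne
      have h3 : (T - W).degree < g₀.degree := by
        rw [degree_eq_natDegree hg.ne_zero, ← hm]
        exact (degree_sub_le _ _).trans_lt (max_lt hTdeg (degree_sum_fin_lt _))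
      obtain ⟨z, hz⟩ := hdvd
      rw [hz, mul_comm, degree_mul' (by
        rw [hg.leadingCoeff, mul_one, leadingCoeff_ne_zero]
        rintro rfl; exact hne (by simp [hz]))] at h3
      have hz0 : z ≠ 0 := by rintro rfl; exact hne (by simp [hz])
      rw [degree_eq_natDegree hz0, degree_eq_natDegree hg.ne_zero] at h3
      norm_cast at h3; omega
    rw [sub_eq_zero.mp h0]
    simp [W, finsetSum_coeff, coeff_X_pow, Fin.val_inj]
  obtain ⟨a, ha, ha'⟩ := exists_common_zero_of_isUnit_jacobian h P a₀ hP0 hJ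
  let ea : (MvPolynomial (Fin m) A) →+* A := MvPolynomial.eval a
  have hga : (F %ₘ G).map ea = 0 := by
    ext k
    rw [coeff_map, coeff_zero]
    by_cases hk : k < m
    · exact ha ⟨k, hk⟩
    · rw [coeff_eq_zero_of_degree_lt ((degree_modByMonic_lt _ hGm).trans_le ?_), map_zero]
      rw [degree_eq_natDegree hGm.ne_zero, hGnat]
      exact_mod_cast not_lt.mp hk
  have hfa : F.map ea = f := by
    rw [Polynomial.map_map]
    have : ea.comp MvPolynomial.C = RingHom.id A := RingHom.ext fun x ↦ MvPolynomial.eval_C x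
    rw [this, Polynomial.map_id]
  have hev : (Ideal.Quotient.mk I).comp ea = ev :=
    MvPolynomial.ringHom_ext (fun x ↦ by simp [ea, ev]) fun i ↦ by
      simpa [ea, ev, Ideal.Quotient.eq] using ha' i
  refine ⟨G.map ea, (F /ₘ G).map ea, hGm.map _, ?_, ?_, ?_⟩
  · have := congr(Polynomial.map ea $(modByMonic_add_div F G))
    rw [Polynomial.map_add, Polynomial.map_mul, hga, zero_add, hfa] at this
    exact this.symm
  · rw [Polynomial.map_map, hev, hGev]
  · rw [Polynomial.map_map, hev, hQev]

end Groth.Agent.Hensel
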