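import Groth.Agent.Hensel.Pairs
import Groth.Agent.Hensel.Jacobian
import Mathlib.RingTheory.Valuation.ValuationRing

/-!
# Henselian local rings
-/

set_option autoImplicit false

universe u v

open Polynomial IsLocalRing

namespace Groth.Agent.Hensel

variable {R : Type u} [CommRing R]

theorem henselianLocalRing_iff_henselianRing [IsLocalRing R] :
    HenselianLocalRing R ↔ HenselianRing R (maximalIdeal R) :=
  ⟨fun _ ↦ inferInstance, fun h ↦
    { is_henselian := fun f hf a₀ h₁ h₂ ↦
        h.is_henselian f hf a₀ h₁ (h₂.map (Ideal.Quotient.mk _)) }⟩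

theorem gabberRoot_of_henselianLocalRing [HenselianLocalRing R] :
    GabberRoot R (maximalIdeal R) :=
  gabberRoot_of_henselianRing

theorem henselianRing_of_ringEquiv {S : Type v} [CommRing S] (e : R ≃+* S) (I : Ideal R)
    [HenselianRing R I] : HenselianRing S (I.map (e : R →+* S)) := by
  let := (e : R →+* S).toAlgebra
  have : Module.Finite R S := Module.Finite.of_surjective (Algebra.linearMap R S) e.surjective
  exact henselianRing_of_isIntegral S

/-- A local ring integral over a henselian local ring is henselian. -/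
theorem henselianLocalRing_of_isIntegral [HenselianLocalRing R] (S : Type v) [CommRing S]
    [IsLocalRing S] [Algebra R S] [Algebra.IsIntegral R S] : HenselianLocalRing S := by
  rw [henselianLocalRing_iff_henselianRing]
  set J := (maximalIdeal R).map (algebraMap R S)
  have : HenselianRing S J := henselianRing_of_isIntegral S
  have hJ : J ≤ maximalIdeal S :=
    (HenselianRing.jac (R := S) (I := J)).trans (jacobson_eq_maximalIdeal ⊥ bot_ne_top).le
  have : HenselianRing (S ⧸ J) ((maximalIdeal S).map (Ideal.Quotient.mk J)) := by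
    refine henselianRing_of_locally_nilpotent fun x hx ↦ ?_
    rw [← mem_nilradical, nilradical_eq_sInf, Submodule.mem_sInf]
    intro q (hq : Ideal.IsPrime q)
    set Q : Ideal S := Ideal.comap (Ideal.Quotient.mk J) q with hQ
    have : Q.IsPrime := Ideal.comap_isPrime _ _
    have hQJ : J ≤ Q := fun y hy ↦ by
      simp [hQ, Ideal.Quotient.eq_zero_iff_mem.mpr hy]
    have hmax : (Q.comap (algebraMap R S)).IsMaximal := by
      have hle : maximalIdeal R ≤ Q.comap (algebraMap R S) :=
        Ideal.map_le_iff_le_comap.mp hQJ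
      have hne : Q.comap (algebraMap R S) ≠ ⊤ := (Ideal.comap_isPrime _ _).ne_top
      rw [← le_antisymm hle (le_maximalIdeal hne)]
      exact maximalIdeal.isMaximal R
    have hQmax : Q = maximalIdeal S :=
      eq_maximalIdeal (Ideal.isMaximal_of_isIntegral_of_isMaximal_comap Q hmax)
    have : q = (maximalIdeal S).map (Ideal.Quotient.mk J) := by
      rw [← hQmax, hQ, Ideal.map_comap_of_surjective _ Ideal.Quotient.mk_surjective]
    rw [this]; exact hx
  exact henselianRing_of_quotient hJ

theorem henselianLocalRing_of_ringEquiv {S : Type v} [CommRing S] (e : R ≃+* S)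
    [HenselianLocalRing R] : HenselianLocalRing S := by
  have : IsLocalRing S := e.isLocalRing
  let := (e : R →+* S).toAlgebra
  have : Module.Finite R S := Module.Finite.of_surjective (Algebra.linearMap R S) e.surjective
  exact henselianLocalRing_of_isIntegral (R := R) S

theorem henselianLocalRing_of_dim_zero [IsLocalRing R] (h : ringKrullDim R = 0) :
    HenselianLocalRing R := by
  have : Ring.KrullDimLE 0 R := by rw [Ring.krullDimLE_iff, h]; rfl
  rw [henselianLocalRing_iff_henselianRing]
  refine henselianRing_of_locally_nilpotent fun x hx ↦ ?_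
  rw [← mem_nilradical, nilradical_eq_sInf, Submodule.mem_sInf]
  intro q (hq : Ideal.IsPrime q)
  rw [eq_maximalIdeal (Ideal.IsPrime.isMaximal' hq)]
  exact hx

/-- Simple roots of arbitrary polynomials lift. -/
theorem exists_root_lift [HenselianLocalRing R] (f : R[X]) (a₀ : ResidueField R)
    (h₁ : f.eval₂ (residue R) a₀ = 0) (h₂ : f.derivative.eval₂ (residue R) a₀ ≠ 0) :
    ∃ a : R, f.IsRoot a ∧ residue R a = a₀ := by
  set F := f.map (residue R) with hF
  have hroot : F.IsRoot a₀ := by rw [IsRoot, hF, eval_map]; exact h₁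
  have hfac : (X - C a₀) * (F /ₘ (X - C a₀)) = F := mul_divByMonic_eq_iff_isRoot.mpr hroot
  have hq : (F /ₘ (X - C a₀)).eval a₀ ≠ 0 := by
    have e := congr(eval a₀ (derivative $hfac))
    simp only [derivative_mul, eval_add, eval_mul, derivative_sub, derivative_X, derivative_C,
      sub_zero, one_mul, eval_sub, eval_X, eval_C, sub_self, zero_mul, add_zero] at e
    rw [e, hF, derivative_map, eval_map]
    exact h₂
  have hc : IsCoprime (X - C a₀) (F /ₘ (X - C a₀)) :=
    (irreducible_X_sub_C a₀).coprime_iff_not_dvd.mpr fun h ↦ hq ((dvd_iff_isRoot).mp h).eq_zero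
  obtain ⟨g, q, hg, hgq, hgm, -⟩ := exists_monic_dvd_lift gabberRoot_of_henselianLocalRing f
    (X - C a₀) (F /ₘ (X - C a₀)) (monic_X_sub_C a₀) hc hfac.symm
  have hdeg : g.natDegree = 1 := by
    rw [← hg.natDegree_map (residue R), show g.map (residue R) = X - C a₀ from hgm,
      natDegree_X_sub_C]
  refine ⟨-g.coeff 0, ?_, ?_⟩
  · rw [IsRoot, hgq, eval_mul]
    conv_lhs => enter [1, 2]; rw [hg.eq_X_add_C hdeg]
    simp
  · rw [map_neg, ← coeff_map, show g.map (residue R) = X - C a₀ from hgm]
    simp

/-- Lifting arbitrary coprime factorizations gives henselianity. -/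
theorem henselianLocalRing_of_factor_lift [IsLocalRing R]
    (h : ∀ f : R[X], f.Monic → ∀ g₀ h₀ : (ResidueField R)[X], IsCoprime g₀ h₀ →
      f.map (residue R) = g₀ * h₀ →
      ∃ g h : R[X], f = g * h ∧ g.map (residue R) = g₀ ∧ h.map (residue R) = h₀) :
    HenselianLocalRing R := by
  refine ((HenselianLocalRing.TFAE R).out 0 1).mpr ?_
  intro f hf a₀ h₁ h₂
  set F := f.map (residue R) with hF
  have hroot : F.IsRoot a₀ := by
    rw [IsRoot, hF, eval_map]; simpa [aeval_def] using h₁
  have hfac : (X - C a₀) * (F /ₘ (X - C a₀)) = F := mul_divByMonic_eq_iff_isRoot.mpr hroot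
  have hq : (F /ₘ (X - C a₀)).eval a₀ ≠ 0 := by
    have e := congr(eval a₀ (derivative $hfac))
    simp only [derivative_mul, eval_add, eval_mul, derivative_sub, derivative_X, derivative_C,
      sub_zero, one_mul, eval_sub, eval_X, eval_C, sub_self, zero_mul, add_zero] at e
    rw [e, hF, derivative_map, eval_map]
    simpa [aeval_def] using h₂
  have hc : IsCoprime (X - C a₀) (F /ₘ (X - C a₀)) :=
    (irreducible_X_sub_C a₀).coprime_iff_not_dvd.mpr fun h ↦ hq ((dvd_iff_isRoot).mp h).eq_zero
  obtain ⟨g, q, hgq, hgm, -⟩ := h f hf _ _ hc hfac.symm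
  -- modulo every prime `g` is linear, so `-g₀ / g₁` is a root of `f` up to a nilpotent
  have hg1 : IsUnit (g.coeff 1) := by
    have : residue R (g.coeff 1) = 1 := by rw [← coeff_map, hgm]; simp
    exact (residue_ne_zero_iff_isUnit _).mp (by rw [this]; exact one_ne_zero)
  obtain ⟨w, hw⟩ := hg1.exists_left_inv
  set a₁ := -(w * g.coeff 0)
  have hnil : IsNilpotent (g.eval a₁) := by
    rw [← mem_nilradical, nilradical_eq_sInf, Submodule.mem_sInf]
    intro P (hP : Ideal.IsPrime P)
    rw [← Ideal.Quotient.eq_zero_iff_mem, ← eval₂_at_apply, ← eval_map]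
    set π := Ideal.Quotient.mk P
    let τ : R ⧸ P →+* ResidueField R := Ideal.Quotient.factor (le_maximalIdeal hP.ne_top)
    have hτ : τ.comp π = residue R := rfl
    have h1 := congr(natDegree (Polynomial.map π $hgq))
    have hq' : q.map (residue R) = F /ₘ (X - C a₀) := by
      have e := congr(Polynomial.map (residue R) $hgq)
      rw [Polynomial.map_mul, hgm, ← hF] at e
      exact mul_left_cancel₀ (X_sub_C_ne_zero a₀) (e.symm.trans hfac.symm)
    have hqd : f.natDegree ≤ 1 + (q.map π).natDegree := by
      calc f.natDegree = F.natDegree := (hf.natDegree_map _).symm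
        _ = 1 + (q.map (residue R)).natDegree := by
          rw [← hfac, hq', natDegree_mul (X_sub_C_ne_zero a₀), natDegree_X_sub_C]
          rintro h0; exact hq (by rw [h0, eval_zero])
        _ ≤ 1 + (q.map π).natDegree := by
          rw [← hτ, ← Polynomial.map_map]; exact Nat.add_le_add_left natDegree_map_le _
    have hne : g.map π ≠ 0 := by
      intro h0
      have := congr(coeff $h0 1)
      rw [coeff_map, coeff_zero, Ideal.Quotient.eq_zero_iff_mem] at this
      exact hP.ne_top (Ideal.eq_top_of_isUnit_mem _ this hg1)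
    have hne' : q.map π ≠ 0 := by
      intro h0
      have e := congr(Polynomial.map π $hgq)
      rw [Polynomial.map_mul, h0, mul_zero] at e
      exact (hf.map π).ne_zero e
    rw [Polynomial.map_mul, natDegree_mul hne hne', hf.natDegree_map π] at h1
    have hlin := eq_X_add_C_of_natDegree_le_one (p := g.map π) (by omega)
    rw [hlin]
    simp only [eval_add, eval_mul, eval_C, eval_X, coeff_map, a₁, map_neg, map_mul]
    have hπw : π w * π (g.coeff 1) = 1 := by rw [← map_mul, hw, map_one]
    linear_combination (-(π (g.coeff 0))) * hπw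
  have hres : residue R a₁ = a₀ := by
    have h1 : residue R (g.coeff 1) = 1 := by rw [← coeff_map, hgm]; simp
    have h0 : residue R (g.coeff 0) = -a₀ := by rw [← coeff_map, hgm]; simp
    have := congr(residue R $hw)
    rw [map_mul, h1, mul_one, map_one] at this
    simp [a₁, this, h0]
  have : HenselianRing R (nilradical R) := henselianRing_of_locally_nilpotent fun x hx ↦ hx
  obtain ⟨a, ha, haa⟩ := HenselianRing.is_henselian (I := nilradical R) f hf a₁
    (by rw [hgq, eval_mul]; exact Ideal.mul_mem_right _ _ hnil) (by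
      have hu : IsUnit (f.derivative.eval a₁) := by
        refine (residue_ne_zero_iff_isUnit _).mp ?_
        rw [← eval₂_at_apply, hres]
        simpa [aeval_def] using h₂
      exact hu.map _)
  refine ⟨a, ha, ?_⟩
  rw [← hres, ← sub_eq_zero, ← map_sub, residue_eq_zero_iff]
  exact nilradical_le_prime _ haa

theorem henselianLocalRing_localization_of_valuationRing [IsDomain R] [ValuationRing R]
    [HenselianLocalRing R] (p : Ideal R) [p.IsPrime] :
    HenselianLocalRing (Localization.AtPrime p) := by
  have : HenselianRing R p := henselianRing_of_le (le_maximalIdeal (Ideal.IsPrime.ne_top ‹_›))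
  let S := Localization.AtPrime p
  have key : ∀ x ∈ maximalIdeal S, ∃ y ∈ p, algebraMap R S y = x := by
    intro x hx
    obtain ⟨a, ⟨s, hs⟩, rfl⟩ := IsLocalization.exists_mk'_eq p.primeCompl x
    rw [IsLocalization.AtPrime.mk'_mem_maximal_iff S p] at hx
    rcases ValuationRing.dvd_total s a with ⟨c, rfl⟩ | ⟨c, rfl⟩
    · refine ⟨c, ((Ideal.IsPrime.mem_or_mem ‹_› hx).resolve_left hs), ?_⟩
      rw [eq_comm, IsLocalization.mk'_eq_iff_eq_mul, ← map_mul, mul_comm]
    · exact absurd (p.mul_mem_right c hx) hs
  rw [henselianLocalRing_iff_henselianRing]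
  refine GabberRoot.henselianRing ⟨(jacobson_eq_maximalIdeal ⊥ bot_ne_top).ge, ?_⟩
  intro n hn q hq hqI
  choose y hy hy' using fun i ↦ key (q.coeff i) (hqI i)
  let q' : R[X] := ∑ i ∈ Finset.range (n + 1), monomial i (y i)
  have hc : ∀ i, q'.coeff i = if i < n + 1 then y i else 0 := fun i ↦ by
    simp [q', coeff_monomial]
  obtain ⟨α, hα, hr⟩ := (gabberRoot_of_henselianRing (I := p)).root n hn q'
    (natDegree_le_iff_coeff_eq_zero.mpr fun i hi ↦ by rw [hc, if_neg (by omega)])
    fun i ↦ by rw [hc]; split_ifs <;> simp [hy]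
  refine ⟨algebraMap R S α, ?_, ?_⟩
  · rw [← map_one (algebraMap R S), ← map_sub, IsLocalization.AtPrime.to_map_mem_maximal_iff S p]
    exact hα
  · have hq' : q'.map (algebraMap R S) = q := by
      ext i
      rw [coeff_map, hc]
      split_ifs with h
      · exact hy' i
      · rw [map_zero, coeff_eq_zero_of_natDegree_lt (by omega)]
    have := hr.map (f := algebraMap R S)
    simpa [hq'] using this

end Groth.Agent.Hensel
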