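import Groth.Agent.Hensel.Main
import Mathlib.Algebra.Group.Pi.Units

/-!
# Henselian pairs: permanence properties
-/

set_option autoImplicit false

universe u v

open Polynomial

namespace Groth.Agent.Hensel

variable {A : Type u} [CommRing A] {I J : Ideal A}

/-- A usable form of the idempotent criterion. -/
theorem henselianRing_iff_exists_idem (I : Ideal A) :
    HenselianRing A I ↔ (I ≤ Ideal.jacobson ⊥ ∧ ∀ (B : Type u) [CommRing B] [Algebra A B],
      Module.Finite A B → ∀ b : B, b * b - b ∈ I.map (algebraMap A B) →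
        ∃ e : B, IsIdempotentElem e ∧ e - b ∈ I.map (algebraMap A B)) := by
  refine ⟨fun h ↦ ⟨h.jac, fun B _ _ _ b hb ↦ exists_idem_lift_of_finite gabberRoot_of_henselianRing b hb⟩, ?_⟩
  rintro ⟨hI, h⟩
  refine (gabberRoot_of_adjoinRoot_idem_lift hI fun m p hp _ x hx ↦ ?_).henselianRing
  obtain ⟨b, rfl⟩ := Ideal.Quotient.mk_surjective x
  obtain ⟨e, he, heb⟩ := h (AdjoinRoot p) hp.finite_adjoinRoot b
    (Ideal.Quotient.eq.mp ((map_mul _ _ _).trans hx))
  exact ⟨e, he, Ideal.Quotient.eq.mpr heb⟩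

theorem henselianRing_of_isIntegral [h : HenselianRing A I] (B : Type v) [CommRing B] [Algebra A B]
    [Algebra.IsIntegral A B] : HenselianRing B (I.map (algebraMap A B)) := by
  refine (henselianRing_iff_exists_idem _).mpr ⟨map_le_jacobson_of_isIntegral h.jac, ?_⟩
  intro C _ _ _ c hc
  let : Algebra A C := Algebra.compHom C (algebraMap A B)
  have : IsScalarTower A B C := .of_algebraMap_eq' rfl
  have : Algebra.IsIntegral A C := Algebra.IsIntegral.trans B
  have hmap : (I.map (algebraMap A B)).map (algebraMap B C) = I.map (algebraMap A C) := by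
    rw [Ideal.map_map, ← IsScalarTower.algebraMap_eq]
  rw [hmap] at hc ⊢
  exact exists_idem_lift_of_isIntegral gabberRoot_of_henselianRing c hc

theorem henselianRing_quotient [HenselianRing A I] (K : Ideal A) :
    HenselianRing (A ⧸ K) (I.map (Ideal.Quotient.mk K)) :=
  henselianRing_of_isIntegral (A ⧸ K)

/-- Lift an idempotent through a nilpotent thickening. -/
theorem exists_mul_self_sub_mem {B : Type*} [CommRing B] {K L : Ideal B} (hKL : K ≤ L)
    (hnil : ∀ x ∈ L, ∃ n : ℕ, x ^ n ∈ K) {b : B} (hb : b * b - b ∈ L) :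
    ∃ c : B, c * c - c ∈ K ∧ c - b ∈ L := by
  let π := Ideal.Quotient.factor hKL
  obtain ⟨e, he, hπ⟩ := exists_isIdempotentElem_eq_of_ker_isNilpotent π (fun x hx ↦ by
    obtain ⟨y, rfl⟩ := Ideal.Quotient.mk_surjective x
    obtain ⟨n, hn⟩ := hnil y (Ideal.Quotient.eq_zero_iff_mem.mp hx)
    exact ⟨n, by rw [← map_pow]; exact Ideal.Quotient.eq_zero_iff_mem.mpr hn⟩)
    (Ideal.Quotient.mk L b) ⟨Ideal.Quotient.mk K b, rfl⟩
    (by unfold IsIdempotentElem; rw [← map_mul, Ideal.Quotient.eq]; exact hb)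
  obtain ⟨c, rfl⟩ := Ideal.Quotient.mk_surjective e
  exact ⟨c, Ideal.Quotient.eq.mp ((map_mul _ _ _).trans he), Ideal.Quotient.eq.mp hπ⟩

theorem henselianRing_of_le [h : HenselianRing A J] (hIJ : I ≤ J) : HenselianRing A I := by
  refine (henselianRing_iff_exists_idem _).mpr ⟨hIJ.trans h.jac, fun B _ _ _ b hb ↦ ?_⟩
  obtain ⟨e, he, heb⟩ := exists_idem_lift_of_finite (gabberRoot_of_henselianRing (I := J)) b
    (Ideal.map_mono hIJ hb)
  refine ⟨e, he, Ideal.Quotient.eq.mp ?_⟩
  let π := Ideal.Quotient.mk (I.map (algebraMap A B))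
  refine idem_eq_of_sub_mem_jacobson (he.map π) ?_ ?_
  · unfold IsIdempotentElem
    rw [← map_mul, Ideal.Quotient.eq]; exact hb
  · have h1 : J.map (algebraMap A B) ≤ Ideal.jacobson (⊥ : Ideal B) :=
      map_le_jacobson_of_isIntegral h.jac
    rw [← map_sub]
    have h2 := Ideal.mem_jacobson_bot.mp (h1 heb)
    refine Ideal.mem_jacobson_bot.mpr fun y ↦ ?_
    obtain ⟨y, rfl⟩ := Ideal.Quotient.mk_surjective y
    rw [← map_mul, ← map_one π, ← map_add]
    exact (h2 y).map π

theorem henselianRing_of_quotient (hIJ : I ≤ J) [h : HenselianRing A I]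
    [h' : HenselianRing (A ⧸ I) (J.map (Ideal.Quotient.mk I))] : HenselianRing A J := by
  refine (henselianRing_iff_exists_idem _).mpr ⟨?_, fun B _ _ _ b hb ↦ ?_⟩
  · intro x hx
    rw [Ideal.mem_jacobson_bot]
    intro y
    have := Ideal.mem_jacobson_bot.mp (h'.jac (Ideal.mem_map_of_mem _ hx)) (Ideal.Quotient.mk I y)
    have hl := isLocalHom_of_le_jacobson_bot I h.jac
    exact IsUnit.of_map (Ideal.Quotient.mk I) _ (by simpa using this)
  let B' := B ⧸ I.map (algebraMap A B)
  let : Algebra (A ⧸ I) B' :=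
    (Ideal.quotientMap _ (algebraMap A B) Ideal.le_comap_map).toAlgebra
  have : IsScalarTower A (A ⧸ I) B' := .of_algebraMap_eq fun x ↦ rfl
  have : Module.Finite (A ⧸ I) B' := Module.Finite.of_restrictScalars_finite A _ _
  have hmap : (J.map (Ideal.Quotient.mk I)).map (algebraMap (A ⧸ I) B') =
      (J.map (algebraMap A B)).map (Ideal.Quotient.mk _) := by
    rw [Ideal.map_map, Ideal.map_map]; rfl
  obtain ⟨e, he, heb⟩ := exists_idem_lift_of_finite (gabberRoot_of_henselianRing
    (I := J.map (Ideal.Quotient.mk I))) (Ideal.Quotient.mk _ b : B') (by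
      rw [hmap, ← map_mul, ← map_sub]
      exact Ideal.mem_map_of_mem _ hb)
  obtain ⟨c, rfl⟩ := Ideal.Quotient.mk_surjective e
  rw [hmap, ← map_sub, Ideal.mem_quotient_iff_mem (Ideal.map_mono hIJ)] at heb
  obtain ⟨e, he', hec⟩ := exists_idem_lift_of_finite (gabberRoot_of_henselianRing (I := I)) c
    (Ideal.Quotient.eq.mp ((map_mul _ _ _).trans he))
  refine ⟨e, he', ?_⟩
  simpa using add_mem (Ideal.map_mono hIJ hec) heb

theorem henselianRing_of_locally_nilpotent (hI : ∀ x ∈ I, IsNilpotent x) : HenselianRing A I := by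
  have hnil : I ≤ nilradical A := fun x hx ↦ hI x hx
  refine (henselianRing_iff_exists_idem _).mpr
    ⟨hnil.trans (Ideal.radical_le_jacobson), fun B _ _ _ b hb ↦ ?_⟩
  have hK : ∀ x ∈ I.map (algebraMap A B), IsNilpotent x := by
    intro x hx
    have : I.map (algebraMap A B) ≤ nilradical B := by
      rw [Ideal.map_le_iff_le_comap]
      exact fun i hi ↦ (hI i hi).map _
    exact this hx
  obtain ⟨c, hc, hcb⟩ := exists_mul_self_sub_mem (K := ⊥) bot_le
    (fun x hx ↦ (hK x hx).imp fun n hn ↦ by simp [hn]) hb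
  exact ⟨c, sub_eq_zero.mp (by simpa using hc), hcb⟩

theorem henselianRing_radical_iff : HenselianRing A I.radical ↔ HenselianRing A I := by
  refine ⟨fun _ ↦ henselianRing_of_le Ideal.le_radical, fun _ ↦ ?_⟩
  have : HenselianRing (A ⧸ I) (I.radical.map (Ideal.Quotient.mk I)) := by
    refine henselianRing_of_locally_nilpotent fun x hx ↦ ?_
    obtain ⟨y, hy, rfl⟩ := (Ideal.mem_map_iff_of_surjective _ Ideal.Quotient.mk_surjective).mp hx
    obtain ⟨n, hn⟩ := hy
    exact ⟨n, by rw [← map_pow]; exact Ideal.Quotient.eq_zero_iff_mem.mpr hn⟩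
  exact henselianRing_of_quotient Ideal.le_radical

theorem henselianRing_sup [HenselianRing A I] [HenselianRing A J] : HenselianRing A (I ⊔ J) := by
  have : HenselianRing (A ⧸ I) ((I ⊔ J).map (Ideal.Quotient.mk I)) := by
    rw [Ideal.map_sup, Ideal.map_quotient_self, bot_sup_eq]
    exact henselianRing_quotient (I := J) I
  exact henselianRing_of_quotient le_sup_left

theorem exists_largest_henselian_ideal (A : Type u) [CommRing A] :
    ∃ I : Ideal A, HenselianRing A I ∧ ∀ J : Ideal A, HenselianRing A J → J ≤ I := by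
  have hbot : HenselianRing A (⊥ : Ideal A) := henselianRing_of_locally_nilpotent fun x hx ↦ by
    rw [Ideal.mem_bot] at hx; simp [hx]
  let S := {J : Ideal A // HenselianRing A J}
  have : Nonempty S := ⟨⟨⊥, hbot⟩⟩
  have hdir : Directed (· ≤ ·) (fun J : S ↦ J.1) := fun J K ↦
    ⟨⟨J.1 ⊔ K.1, by have := J.2; have := K.2; exact henselianRing_sup⟩, le_sup_left, le_sup_right⟩
  refine ⟨⨆ J : S, J.1, GabberRoot.henselianRing ⟨iSup_le fun J ↦ J.2.jac, fun n hn p hp hpI ↦ ?_⟩,
    fun J hJ ↦ le_iSup (fun J : S ↦ J.1) ⟨J, hJ⟩⟩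
  have hfin : ∀ s : Finset ℕ, ∃ K : S, ∀ i ∈ s, p.coeff i ∈ K.1 := by
    intro s
    induction s using Finset.cons_induction with
    | empty => exact ⟨⟨⊥, hbot⟩, by simp⟩
    | cons i s hi ih =>
      obtain ⟨K, hK⟩ := ih
      obtain ⟨L, hL⟩ := (Submodule.mem_iSup_of_directed _ hdir).mp (hpI i)
      obtain ⟨N, hKN, hLN⟩ := hdir K L
      exact ⟨N, fun j hj ↦ by
        rcases Finset.mem_cons.mp hj with rfl | hj
        exacts [hLN hL, hKN (hK j hj)]⟩
  obtain ⟨K, hK⟩ := hfin p.support
  have := K.2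
  have hcoeff : ∀ i, p.coeff i ∈ K.1 := fun i ↦ by
    by_cases hi : i ∈ p.support
    · exact hK i hi
    · rw [notMem_support_iff.mp hi]; exact K.1.zero_mem
  obtain ⟨α, h1, h2⟩ := (gabberRoot_of_henselianRing (I := K.1)).root n hn p hp hcoeff
  exact ⟨α, le_iSup (fun J : S ↦ J.1) K h1, h2⟩

theorem gabber_root_unique (h : GabberRoot A I) {n : ℕ} (hn : 0 < n) {p : A[X]}
    (hpI : ∀ i, p.coeff i ∈ I) {α β : A} (hα : α - 1 ∈ I) (hβ : β - 1 ∈ I)
    (hα' : (X ^ n * (X - 1) + p).IsRoot α) (hβ' : (X ^ n * (X - 1) + p).IsRoot β) : α = β := by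
  set f := X ^ n * (X - 1) + p with hf
  obtain ⟨c, hc⟩ := exists_mul_sq_add_linear_part_eq_eval_add f α (β - α)
  rw [show α + (β - α) = β by ring, hα'.eq_zero, hβ'.eq_zero] at hc
  have hu : IsUnit (c * (β - α) + f.derivative.eval α) := by
    refine isUnit_of_sub_one_mem h.jac ?_
    rw [← Ideal.Quotient.eq_zero_iff_mem]
    have hp0 : p.map (Ideal.Quotient.mk I) = 0 := by
      ext i; simpa [Ideal.Quotient.eq_zero_iff_mem] using hpI i
    have h1 : Ideal.Quotient.mk I α = 1 := by rw [← map_one (Ideal.Quotient.mk I), Ideal.Quotient.eq]; exact hα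
    have h2 : Ideal.Quotient.mk I β = 1 := by rw [← map_one (Ideal.Quotient.mk I), Ideal.Quotient.eq]; exact hβ
    rw [map_sub, map_add, map_mul, map_sub, ← eval_map_apply, ← derivative_map, hf,
      Polynomial.map_add, hp0, h1, h2]
    simp [derivative_pow]
  have h0 : (β - α) * (c * (β - α) + f.derivative.eval α) = 0 := by linear_combination hc
  exact (sub_eq_zero.mp (hu.mul_left_eq_zero.mp h0)).symm

theorem henselianRing_pi_iff {J : Type u} {R : J → Type v} [∀ j, CommRing (R j)]
    (I : ∀ j, Ideal (R j)) :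
    HenselianRing (∀ j, R j) (⨅ j, Ideal.comap (Pi.evalRingHom R j) (I j)) ↔
      ∀ j, HenselianRing (R j) (I j) := by
  classical
  have hmem : ∀ x : (∀ j, R j), x ∈ (⨅ j, Ideal.comap (Pi.evalRingHom R j) (I j)) ↔ ∀ j, x j ∈ I j := by
    intro x; simp
  constructor
  · intro h j
    refine GabberRoot.henselianRing ⟨fun x hx ↦ ?_, fun n hn p hp hpI ↦ ?_⟩
    · rw [Ideal.mem_jacobson_bot]
      intro y
      have := Ideal.mem_jacobson_bot.mp (h.jac ((hmem (Pi.single j x)).mpr fun k ↦ by
        by_cases hk : k = j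
        · subst hk; simpa using hx
        · simp [hk])) (Pi.single j y)
      simpa using this.map (Pi.evalRingHom R j)
    · let P : (∀ j, R j)[X] := ∑ i ∈ Finset.range (n + 1), monomial i (Pi.single j (p.coeff i))
      have hPc : ∀ i, P.coeff i = if i < n + 1 then Pi.single j (p.coeff i) else 0 := fun i ↦ by
        simp [P, coeff_monomial, Finset.sum_ite_eq']
      obtain ⟨α, hα, hr⟩ := (gabberRoot_of_henselianRing (A := ∀ j, R j)).root n hn P
        (natDegree_le_iff_coeff_eq_zero.mpr fun i hi ↦ by rw [hPc, if_neg (by omega)]) (fun i ↦ by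
          rw [hmem]; intro k; rw [hPc]
          split_ifs with hi
          · by_cases hk : k = j
            · subst hk; simpa using hpI i
            · simp [hk]
          · simp)
      refine ⟨α j, by simpa using (hmem _).mp hα j, ?_⟩
      have hPj : P.map (Pi.evalRingHom R j) = p := by
        ext i
        rw [coeff_map, hPc]
        split_ifs with hi
        · simp
        · rw [coeff_eq_zero_of_natDegree_lt (by omega)]; simp
      have := hr.map (f := Pi.evalRingHom R j)
      simpa [hPj] using this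
  · intro h
    refine GabberRoot.henselianRing ⟨fun x hx ↦ ?_, fun n hn p hp hpI ↦ ?_⟩
    · rw [Ideal.mem_jacobson_bot]
      intro y
      exact Pi.isUnit_iff.2 fun j ↦ Ideal.mem_jacobson_bot.mp ((h j).jac ((hmem x).mp hx j)) (y j)
    · have hr : ∀ j, ∃ α, α - 1 ∈ I j ∧
          (X ^ n * (X - 1) + p.map (Pi.evalRingHom R j)).IsRoot α := fun j ↦
        (gabberRoot_of_henselianRing (h := h j)).root n hn _ (natDegree_map_le.trans hp) fun i ↦ by
          simpa using (hmem _).mp (hpI i) j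
      choose α hα hr using hr
      refine ⟨α, (hmem _).mpr fun j ↦ hα j, funext fun j ↦ ?_⟩
      change Pi.evalRingHom R j ((X ^ n * (X - 1) + p).eval α) = 0
      rw [← eval_map_apply]
      simpa using (hr j).eq_zero

theorem connectedSpace_zeroLocus [HenselianRing A I] (p : Ideal A) [hp : p.IsPrime] :
    ConnectedSpace (PrimeSpectrum (A ⧸ p ⊔ I)) := by
  have hjac : I ≤ Ideal.jacobson ⊥ := HenselianRing.jac
  have hne : p ⊔ I ≠ ⊤ := by
    intro htop
    obtain ⟨m, hm, hpm⟩ := Ideal.exists_le_maximal p hp.ne_top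
    have : I ≤ m := hjac.trans (sInf_le ⟨bot_le, hm⟩)
    exact hm.ne_top (top_unique (htop ▸ sup_le hpm this))
  have : Nontrivial (A ⧸ p ⊔ I) := Ideal.Quotient.nontrivial_iff.mpr hne
  have key : ∀ e : A ⧸ p ⊔ I, IsIdempotentElem e → e = 0 ∨ e = 1 := by
    intro e he
    obtain ⟨b, rfl⟩ := Ideal.Quotient.mk_surjective e
    have h1 : b * b - b ∈ p ⊔ I := Ideal.Quotient.eq.mp ((map_mul _ _ _).trans he)
    have h2 : (Ideal.Quotient.mk p b) * (Ideal.Quotient.mk p b) - Ideal.Quotient.mk p b ∈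
        I.map (algebraMap A (A ⧸ p)) := by
      rw [← map_mul, ← map_sub]
      have := Ideal.mem_map_of_mem (Ideal.Quotient.mk p) h1
      rwa [Ideal.map_sup, Ideal.map_quotient_self, bot_sup_eq] at this
    obtain ⟨ε, hε, hεb⟩ := exists_idem_lift_of_finite (gabberRoot_of_henselianRing (I := I)) _ h2
    let π : A ⧸ p →+* A ⧸ p ⊔ I := Ideal.Quotient.factor le_sup_left
    have hle : I.map (algebraMap A (A ⧸ p)) ≤ RingHom.ker π := by
      rw [Ideal.map_le_iff_le_comap]
      intro x hx
      exact Ideal.Quotient.eq_zero_iff_mem.mpr (Ideal.mem_sup_right hx)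
    have := hle hεb
    rw [RingHom.mem_ker, map_sub, sub_eq_zero] at this
    rcases IsIdempotentElem.iff_eq_zero_or_one.mp hε with rfl | rfl
    · left; rw [map_zero] at this; exact this.symm
    · right; rw [map_one] at this; exact this.symm
  have : PreconnectedSpace (PrimeSpectrum (A ⧸ p ⊔ I)) := by
    rw [preconnectedSpace_iff_clopen]
    intro s hs
    obtain ⟨⟨e, he⟩, hes⟩ :=
      PrimeSpectrum.isIdempotentElemEquivClopens.surjective ⟨s, hs⟩
    have hs' : s = (PrimeSpectrum.basicOpen e : Set _) := by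
      rw [← PrimeSpectrum.coe_isIdempotentElemEquivClopens_apply ⟨e, he⟩, hes]; rfl
    rcases key e he with rfl | rfl
    · left; rw [hs', PrimeSpectrum.basicOpen_zero]; rfl
    · right; rw [hs', PrimeSpectrum.basicOpen_one]; rfl
  exact { toPreconnectedSpace := this, toNonempty := inferInstance }

end Groth.Agent.Hensel
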