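import Groth.Agent.Hensel.Basic

/-!
# Henselian pairs: equivalent conditions

* `exists_monic_factor_lift` : coprime monic factorizations lift;
* `exists_idem_lift_of_isIntegral` : idempotents lift for integral algebras;
* `GabberRoot.henselianRing`, `gabberRoot_of_adjoinRoot_idem_lift` : converses.
-/

set_option autoImplicit false

universe u v

open Polynomial TensorProduct

namespace Groth.Agent.Hensel

variable {A : Type u} [CommRing A] {I : Ideal A}

theorem subsingleton_of_quotient_subsingleton (hI : I ≤ Ideal.jacobson ⊥)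
    [Subsingleton (A ⧸ I)] : Subsingleton A := by
  have h1 : (1 : A) ∈ I := Ideal.Quotient.eq_zero_iff_mem.mp (Subsingleton.elim _ _)
  have := isUnit_of_sub_one_mem (x := 0) hI (by simpa using neg_mem h1)
  exact isUnit_zero_iff.mp this |> fun h ↦ subsingleton_of_zero_eq_one h

theorem natDegree_map_of_monic {p : A[X]} (hp : p.Monic) [Nontrivial (A ⧸ I)] :
    (p.map (Ideal.Quotient.mk I)).natDegree = p.natDegree :=
  hp.natDegree_map _

/-- Coprime monic factorizations lift along a henselian pair. -/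
theorem exists_monic_factor_lift (h : GabberRoot A I) (f : A[X]) (hf : f.Monic)
    (g₀ h₀ : (A ⧸ I)[X]) (hg : g₀.Monic) (hh : h₀.Monic) (hc : IsCoprime g₀ h₀)
    (he : f.map (Ideal.Quotient.mk I) = g₀ * h₀) :
    ∃ g q : A[X], g.Monic ∧ q.Monic ∧ IsCoprime g q ∧ f = g * q ∧
      g.map (Ideal.Quotient.mk I) = g₀ ∧ q.map (Ideal.Quotient.mk I) = h₀ := by
  cases subsingleton_or_nontrivial (A ⧸ I)
  · have := subsingleton_of_quotient_subsingleton h.jac
    exact ⟨1, 1, monic_one, monic_one, isCoprime_one_left, Subsingleton.elim _ _,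
      Subsingleton.elim _ _, Subsingleton.elim _ _⟩
  have : Nontrivial A := (Ideal.Quotient.mk I).domain_nontrivial
  have hn : f.natDegree = g₀.natDegree + h₀.natDegree := by
    rw [← natDegree_map_of_monic (I := I) hf, he, hg.natDegree_mul hh]
  let p := MonicDegreeEq.mk f hf rfl
  let q₀ : MonicDegreeEq (A ⧸ I) g₀.natDegree × MonicDegreeEq (A ⧸ I) h₀.natDegree :=
    (MonicDegreeEq.mk g₀ hg rfl, MonicDegreeEq.mk h₀ hh rfl)
  let σ := (UniversalCoprimeFactorizationRing.homEquiv (A ⧸ I) g₀.natDegree h₀.natDegree hn p).symm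
    ⟨q₀, by simpa [q₀, p, MonicDegreeEq.mk] using he.symm, by simpa [q₀, MonicDegreeEq.mk] using hc⟩
  obtain ⟨τ, hτ⟩ := exists_algHom_lift_of_etale h _ σ
  set F := UniversalCoprimeFactorizationRing.homEquiv A g₀.natDegree h₀.natDegree hn p τ with hF
  have h₁ := UniversalCoprimeFactorizationRing.homEquiv_comp_fst (S := A) g₀.natDegree
    h₀.natDegree hn p τ (Ideal.Quotient.mkₐ A I)
  have h₂ := UniversalCoprimeFactorizationRing.homEquiv_comp_snd (S := A) g₀.natDegree
    h₀.natDegree hn p τ (Ideal.Quotient.mkₐ A I)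
  rw [hτ, Equiv.apply_symm_apply, ← hF] at h₁ h₂
  refine ⟨F.1.1.1, F.1.2.1, F.1.1.monic, F.1.2.monic, F.2.2, ?_,
    (congr(Subtype.val $h₁)).symm, (congr(Subtype.val $h₂)).symm⟩
  simpa [p, MonicDegreeEq.mk] using F.2.1.symm

/-- Gabber's condition implies `HenselianRing`. -/
theorem GabberRoot.henselianRing (h : GabberRoot A I) : HenselianRing A I := by
  refine ⟨h.jac, fun f hf a₀ h₁ h₂ ↦ ?_⟩
  cases subsingleton_or_nontrivial (A ⧸ I)
  · have := subsingleton_of_quotient_subsingleton h.jac
    exact ⟨a₀, Subsingleton.elim _ _, by simp⟩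
  set fb := f.map (Ideal.Quotient.mk I) with hfb
  set a := Ideal.Quotient.mk I a₀
  have hroot : fb.IsRoot a := by
    rw [IsRoot, hfb, eval_map_apply]; exact Ideal.Quotient.eq_zero_iff_mem.mpr h₁
  set q := fb /ₘ (X - C a)
  have hfac : (X - C a) * q = fb := mul_divByMonic_eq_iff_isRoot.mpr hroot
  have hqa : IsUnit (q.eval a) := by
    have e := congr(eval a (derivative $hfac))
    simp only [derivative_mul, eval_add, eval_mul, derivative_sub, derivative_X, derivative_C,
      sub_zero, one_mul, eval_sub, eval_X, eval_C, sub_self, zero_mul, add_zero] at e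
    rwa [e, hfb, derivative_map, eval_map_apply]
  have hqm : q.Monic := (monic_X_sub_C a).of_mul_monic_left (hfac ▸ hf.map _)
  have hc : IsCoprime (X - C a) q := by
    obtain ⟨w, hw⟩ := X_sub_C_dvd_sub_C_eval (p := q) (a := a)
    obtain ⟨v, hv⟩ := hqa.exists_left_inv
    refine ⟨-(C v * w), C v, ?_⟩
    have : (C v * C (q.eval a) : (A ⧸ I)[X]) = 1 := by rw [← C_mul, hv, C_1]
    linear_combination C v * hw + this
  obtain ⟨g, p, hg, -, -, hgp, hgm, -⟩ :=
    exists_monic_factor_lift h f hf _ q (monic_X_sub_C a) hqm hc hfac.symm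
  have hdeg : g.natDegree = 1 := by
    rw [← natDegree_map_of_monic (I := I) hg, hgm, natDegree_X_sub_C]
  refine ⟨-g.coeff 0, ?_, ?_⟩
  · rw [IsRoot, hgp, eval_mul]
    conv_lhs => enter [1, 2]; rw [hg.eq_X_add_C hdeg]
    simp
  · rw [← Ideal.Quotient.eq_zero_iff_mem, map_sub, map_neg, ← coeff_map, hgm]
    simp [a]

theorem henselianRing_iff_gabberRoot : HenselianRing A I ↔ GabberRoot A I :=
  ⟨fun _ ↦ gabberRoot_of_henselianRing, fun h ↦ h.henselianRing⟩

theorem coprime_X_pow_X_sub_one_pow {R : Type*} [CommRing R] (n : ℕ) :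
    IsCoprime ((X : R[X]) ^ n) ((X - 1) ^ n) :=
  IsCoprime.pow (show IsCoprime (X : R[X]) (X - 1) from ⟨1, -1, by ring⟩)

/-- Idempotents lift for finite algebras. -/
theorem exists_idem_lift_of_finite (h : GabberRoot A I) {B : Type v} [CommRing B] [Algebra A B]
    [Module.Finite A B] (b : B) (hb : b * b - b ∈ I.map (algebraMap A B)) :
    ∃ e : B, IsIdempotentElem e ∧ e - b ∈ I.map (algebraMap A B) := by
  cases subsingleton_or_nontrivial A
  · have := Module.subsingleton A B
    exact ⟨b, Subsingleton.elim _ _, by simp⟩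
  obtain ⟨p, hpm, -, hpc, hp⟩ :=
    LinearMap.exists_monic_and_natDegree_eq_and_coeff_mem_pow_and_aeval_eq_zero A
      (LinearMap.mulLeft A (b * b - b)) I (by
        rintro _ ⟨x, rfl⟩
        rw [Ideal.smul_top_eq_map]
        exact Ideal.mul_mem_right x _ hb)
  have hp0 : aeval (b * b - b) p = 0 := by
    have h₃ := aeval_algHom_apply (Algebra.lmul A B) (b * b - b) p
    rw [show Algebra.lmul A B (b * b - b) = LinearMap.mulLeft A (b * b - b) from rfl, hp] at h₃
    simpa using congr($h₃.symm 1)
  have hpmap : p.map (Ideal.Quotient.mk I) = X ^ p.natDegree := by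
    ext i
    rw [coeff_map, coeff_X_pow]
    split_ifs with hi
    · rw [hi, hpm.coeff_natDegree, map_one]
    rcases lt_or_gt_of_ne hi with hi | hi
    · rw [Ideal.Quotient.eq_zero_iff_mem]
      exact Ideal.pow_le_self (by omega) (hpc i)
    · rw [coeff_eq_zero_of_natDegree_lt hi, map_zero]
  set m := p.natDegree + 1 with hm
  let f : A[X] := (p * X).comp (X * X - X)
  have hfmap : f.map (Ideal.Quotient.mk I) = X ^ m * (X - 1) ^ m := by
    simp only [f, Polynomial.map_comp, Polynomial.map_mul, hpmap, map_X, ← pow_succ, pow_comp, X_comp,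
      Polynomial.map_sub, ← mul_pow, mul_sub, mul_one, hm]
  have hfm : f.Monic := by
    have hXX : (X * X - X : A[X]) = X * (X - 1) := by ring
    have hd : (X * (X - 1) : A[X]).Monic := monic_X.mul (monic_X_sub_C 1)
    refine (hpm.mul monic_X).comp (hXX ▸ hd) ?_
    rw [hXX, monic_X.natDegree_mul (by simpa using monic_X_sub_C (1 : A))]
    simp
  obtain ⟨g, q, -, -, ⟨u, w, huw⟩, hgq, hgm, hqm⟩ := exists_monic_factor_lift h f hfm
    (X ^ m) ((X - 1) ^ m) (monic_X_pow m) ((monic_X_sub_C 1).pow m)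
    (coprime_X_pow_X_sub_one_pow m) hfmap
  have hfb : aeval b g * aeval b q = 0 := by
    rw [← map_mul, ← hgq]
    simp [f, aeval_comp, hp0]
  have huw' := congr(aeval b $huw)
  simp only [map_add, map_mul, map_one] at huw'
  refine ⟨aeval b (u * g), ?_, ?_⟩
  · unfold IsIdempotentElem
    simp only [map_mul]
    linear_combination (aeval b u * aeval b g) * huw' - (aeval b u * aeval b w) * hfb
  rw [← Ideal.Quotient.eq_zero_iff_mem, map_sub, sub_eq_zero]
  let π := Ideal.Quotient.mk (I.map (algebraMap A B))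
  let φ : A ⧸ I →+* B ⧸ I.map (algebraMap A B) :=
    Ideal.quotientMap _ (algebraMap A B) Ideal.le_comap_map
  have hev : ∀ r : A[X], π (aeval b r) = (r.map (Ideal.Quotient.mk I)).eval₂ φ (π b) := fun r ↦ by
    rw [aeval_def, hom_eval₂, eval₂_map]; rfl
  change π _ = π b
  have hidem : IsIdempotentElem (π b) := by
    unfold IsIdempotentElem
    rw [← map_mul, Ideal.Quotient.eq]; exact hb
  have hpow : π b ^ m = π b := hidem.pow_eq (Nat.succ_ne_zero _)
  have hg' : π (aeval b g) = π b := by rw [hev, hgm]; simp [hpow]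
  have hq' : π (aeval b q) * π b = 0 := by
    rw [hev, hqm, eval₂_pow, eval₂_sub, eval₂_X, eval₂_one, hm, pow_succ, mul_assoc, sub_mul,
      hidem.eq, one_mul, sub_self, mul_zero]
  have := congr(π $huw')
  rw [map_add, map_mul, map_mul, map_one, hg'] at this
  rw [map_mul, map_mul, hg']
  linear_combination (π b) * this - π (aeval b w) * hq' - π (aeval b u) * hidem.eq

/-- Idempotents lift for integral algebras. -/
theorem exists_idem_lift_of_isIntegral (h : GabberRoot A I) {B : Type v} [CommRing B] [Algebra A B]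
    [Algebra.IsIntegral A B] (b : B) (hb : b * b - b ∈ I.map (algebraMap A B)) :
    ∃ e : B, IsIdempotentElem e ∧ e - b ∈ I.map (algebraMap A B) := by
  obtain ⟨T, hT⟩ : ∃ T : Finset B, b * b - b ∈ I • Submodule.span A (T : Set B) := by
    have hb' : b * b - b ∈ I • (⊤ : Submodule A B) := by rw [Ideal.smul_top_eq_map]; exact hb
    clear hb
    generalize b * b - b = z at hb' ⊢
    induction hb' using Submodule.smul_induction_on' with
    | smul r hr x hx =>
      exact ⟨{x}, Submodule.smul_mem_smul hr (Submodule.subset_span (by simp))⟩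
    | add x _ y _ hx hy =>
      classical
      obtain ⟨T₁, h₁⟩ := hx
      obtain ⟨T₂, h₂⟩ := hy
      refine ⟨T₁ ∪ T₂, add_mem ?_ ?_⟩
      · exact smul_mono_right _ (Submodule.span_mono (by simp)) h₁
      · exact smul_mono_right _ (Submodule.span_mono (by simp)) h₂
  let B' : Subalgebra A B := Algebra.adjoin A (insert b (T : Set B))
  have : Module.Finite A B' :=
    ⟨(Submodule.fg_top _).mpr (fg_adjoin_of_finite (T.finite_toSet.insert b)
      fun x _ ↦ Algebra.IsIntegral.isIntegral x)⟩
  let b' : B' := ⟨b, Algebra.subset_adjoin (Set.mem_insert _ _)⟩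
  have hb' : b' * b' - b' ∈ I.map (algebraMap A B') := by
    have hle : Submodule.span A (T : Set B) ≤ B'.toSubmodule :=
      Submodule.span_le.mpr fun x hx ↦ Algebra.subset_adjoin (Set.mem_insert_of_mem b hx)
    have h2 : b * b - b ∈ Submodule.map B'.val.toLinearMap (I • ⊤) := by
      rw [Submodule.map_smul'', Submodule.map_top]
      refine (smul_mono_right I ?_ : I • Submodule.span A (T : Set B) ≤ _) hT
      intro x hx
      exact ⟨⟨x, hle hx⟩, rfl⟩
    obtain ⟨z, hz, hz'⟩ := h2
    rw [Ideal.smul_top_eq_map] at hz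
    rwa [show b' * b' - b' = z from Subtype.ext hz'.symm]
  obtain ⟨e, he, heb⟩ := exists_idem_lift_of_finite h b' hb'
  refine ⟨e.1, congr(Subtype.val $he.eq), ?_⟩
  have : I.map (algebraMap A B') ≤ (I.map (algebraMap A B)).comap B'.val.toRingHom := by
    rw [Ideal.map_le_iff_le_comap, Ideal.comap_comap]
    exact Ideal.le_comap_map
  exact this heb

theorem idempotents_bijOn (h : GabberRoot A I) (B : Type v) [CommRing B] [Algebra A B]
    [Algebra.IsIntegral A B] :
    Set.BijOn (Ideal.Quotient.mk (Ideal.map (algebraMap A B) I))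
      {e : B | IsIdempotentElem e} {e | IsIdempotentElem e} := by
  refine ⟨fun e he ↦ he.map _, fun e he e' he' hee ↦ ?_, fun x hx ↦ ?_⟩
  · exact idem_eq_of_sub_mem_jacobson he he'
      (map_le_jacobson_of_isIntegral h.jac (Ideal.Quotient.eq.mp hee))
  · obtain ⟨b, rfl⟩ := Ideal.Quotient.mk_surjective x
    obtain ⟨e, he, heb⟩ := exists_idem_lift_of_isIntegral h b
      (Ideal.Quotient.eq.mp ((map_mul _ _ _).trans hx))
    exact ⟨e, he, Ideal.Quotient.eq.mpr heb⟩

theorem aeval_mem_map {B : Type v} [CommRing B] [Algebra A B] (x : B) {p : A[X]}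
    (hp : ∀ i, p.coeff i ∈ I) : aeval x p ∈ I.map (algebraMap A B) := by
  rw [aeval_eq_sum_range]
  exact sum_mem fun i _ ↦ by
    rw [Algebra.smul_def]
    exact Ideal.mul_mem_right _ _ (Ideal.mem_map_of_mem _ (hp i))

/-- Converse: idempotent lifting for special monogenic algebras gives Gabber's condition. -/
theorem gabberRoot_of_adjoinRoot_idem_lift (hI : I ≤ Ideal.jacobson ⊥)
    (h : ∀ (m : ℕ) (p : A[X]), p.Monic →
      p.map (Ideal.Quotient.mk I) = ((X ^ 2 - X) ^ m : A[X]).map (Ideal.Quotient.mk I) →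
      Set.SurjOn (Ideal.Quotient.mk (Ideal.map (algebraMap A (AdjoinRoot p)) I))
        {e : AdjoinRoot p | IsIdempotentElem e} {e | IsIdempotentElem e}) :
    GabberRoot A I := by
  refine ⟨hI, fun n hn r hr hrI ↦ ?_⟩
  cases subsingleton_or_nontrivial A
  · exact ⟨1, by simp, Subsingleton.elim _ _⟩
  set f := X ^ n * (X - 1) + r with hf
  have hmain : (X ^ n * (X - 1) : A[X]).Monic := (monic_X_pow n).mul (monic_X_sub_C 1)
  have hfm : f.Monic := by
    refine hmain.add_of_left (lt_of_le_of_lt degree_le_natDegree ?_)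
    rw [degree_eq_natDegree hmain.ne_zero, natDegree_X_pow_mul_X_sub_one]
    exact_mod_cast Nat.lt_succ_of_le hr
  have hrmap : r.map (Ideal.Quotient.mk I) = 0 := by
    ext i; simpa [Ideal.Quotient.eq_zero_iff_mem] using hrI i
  obtain ⟨k, rfl⟩ : ∃ k, n = k + 1 := ⟨n - 1, by omega⟩
  set p := f * (X - 1) ^ k with hp
  have hpm : p.Monic := hfm.mul ((monic_X_sub_C 1).pow k)
  have hpmap : p.map (Ideal.Quotient.mk I) =
      ((X ^ 2 - X) ^ (k + 1) : A[X]).map (Ideal.Quotient.mk I) := by
    simp only [hp, hf, Polynomial.map_mul, Polynomial.map_add, hrmap, add_zero,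
      Polynomial.map_pow, map_X, Polynomial.map_sub, Polynomial.map_one]
    rw [show (X ^ 2 - X : (A ⧸ I)[X]) = X * (X - 1) by ring, mul_pow, pow_succ (X - 1) k]
    ring
  obtain ⟨u, w, huw⟩ := coprime_X_pow_X_sub_one_pow (R := A) (k + 1)
  set P := AdjoinRoot p
  set J := Ideal.map (algebraMap A P) I
  let φ : A ⧸ I →+* P ⧸ J := Ideal.quotientMap _ (algebraMap A P) Ideal.le_comap_map
  let e₀ : P := aeval (AdjoinRoot.root p) (u * X ^ (k + 1))
  have he₀ : IsIdempotentElem (Ideal.Quotient.mk J e₀) := by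
    unfold IsIdempotentElem
    rw [← map_mul, Ideal.Quotient.eq]
    have hkey : aeval (AdjoinRoot.root p) ((X ^ 2 - X) ^ (k + 1) : A[X]) ∈ J := by
      have hmem : ∀ i, (((X ^ 2 - X) ^ (k + 1) : A[X]) - p).coeff i ∈ I := fun i ↦ by
        rw [← Ideal.Quotient.eq_zero_iff_mem, coeff_sub, map_sub, sub_eq_zero, ← coeff_map,
          ← coeff_map, hpmap]
      have := aeval_mem_map (AdjoinRoot.root p) hmem
      rwa [map_sub, show aeval (AdjoinRoot.root p) p = 0 by rw [AdjoinRoot.aeval_eq, AdjoinRoot.mk_self],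
        sub_zero] at this
    have huw' := congr(aeval (AdjoinRoot.root p) $huw)
    simp only [map_add, map_mul, map_pow, map_sub, aeval_X, map_one] at huw'
    have hsplit : ((AdjoinRoot.root p) ^ 2 - AdjoinRoot.root p) ^ (k + 1) =
        AdjoinRoot.root p ^ (k + 1) * (AdjoinRoot.root p - 1) ^ (k + 1) := by
      rw [← mul_pow]; ring
    simp only [map_sub, map_pow, aeval_X] at hkey
    rw [hsplit] at hkey
    have : e₀ * e₀ - e₀ = -(aeval (AdjoinRoot.root p) u * aeval (AdjoinRoot.root p) w) *
        (AdjoinRoot.root p ^ (k + 1) * (AdjoinRoot.root p - 1) ^ (k + 1)) := by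
      simp only [e₀, map_mul, map_pow, aeval_X]
      linear_combination (aeval (AdjoinRoot.root p) u * AdjoinRoot.root p ^ (k + 1)) * huw'
    rw [this]
    exact J.mul_mem_left _ hkey
  obtain ⟨e, he, hee⟩ := h (k + 1) p hpm hpmap he₀
  let B := AdjoinRoot f
  let ψ : P →ₐ[A] B := AdjoinRoot.liftAlgHom p (Algebra.ofId A B) (AdjoinRoot.root f) (by
    change aeval (AdjoinRoot.root f) p = 0
    rw [AdjoinRoot.aeval_eq, AdjoinRoot.mk_eq_zero]
    exact Dvd.intro _ rfl)
  set JB := Ideal.map (algebraMap A B) I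
  set x := AdjoinRoot.root f with hx
  let ε := ψ e
  have hε : IsIdempotentElem ε := he.map ψ
  have hψroot : ψ (AdjoinRoot.root p) = x := AdjoinRoot.liftAlgHom_root _ _ _ _
  have hεe₀ : ε - aeval x u * x ^ (k + 1) ∈ JB := by
    have h1 : ψ (e - e₀) ∈ JB := by
      have hle : J ≤ JB.comap ψ.toRingHom := by
        rw [Ideal.map_le_iff_le_comap, Ideal.comap_comap, show ψ.toRingHom.comp (algebraMap A P) = algebraMap A B from ψ.comp_algebraMap]
        exact Ideal.le_comap_map
      exact hle (Ideal.Quotient.eq.mp hee)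
    rwa [map_sub, show ψ e₀ = aeval x u * x ^ (k + 1) by
      rw [show e₀ = aeval (AdjoinRoot.root p) (u * X ^ (k + 1)) from rfl, ← aeval_algHom_apply,
        hψroot, map_mul, map_pow, aeval_X]] at h1
  have hxk : x ^ (k + 1) * (x - 1) ∈ JB := by
    have hmem : ∀ i, ((X ^ (k + 1) * (X - 1) : A[X]) - f).coeff i ∈ I := fun i ↦ by
      simpa [hf] using hrI i
    have := aeval_mem_map x hmem
    rw [map_sub, show aeval x f = 0 by rw [hx, AdjoinRoot.aeval_eq, AdjoinRoot.mk_self], sub_zero,
      map_mul, map_pow, aeval_X, map_sub, aeval_X, map_one] at this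
    exact this
  have hεx : (x - 1) * ε ∈ JB := by
    have : (x - 1) * ε = (x - 1) * (ε - aeval x u * x ^ (k + 1)) +
        aeval x u * (x ^ (k + 1) * (x - 1)) := by ring
    rw [this]
    exact add_mem (JB.mul_mem_left _ hεe₀) (JB.mul_mem_left _ hxk)
  have : Module.Free A B := hfm.free_adjoinRoot
  have : Module.Finite A B := hfm.finite_adjoinRoot
  let L : B →ₗ[A] B := LinearMap.mulLeft A ε
  have hle : LinearMap.range L ≤ (A ∙ ε) ⊔ I • LinearMap.range L := by
    rintro _ ⟨z, rfl⟩
    obtain ⟨g, rfl⟩ := AdjoinRoot.mk_surjective z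
    rw [← AdjoinRoot.aeval_eq, ← hx]
    obtain ⟨g₁, hg₁⟩ := X_sub_C_dvd_sub_C_eval (p := g) (a := (1 : A))
    have hgx := congr(aeval x $hg₁)
    simp only [map_sub, map_mul, aeval_X, aeval_C, map_one] at hgx
    have hmem : L (aeval x g - algebraMap A B (g.eval 1)) ∈ I • LinearMap.range L := by
      have h2 : L (aeval x g - algebraMap A B (g.eval 1)) = L (aeval x g₁ * ((x - 1) * ε)) := by
        rw [LinearMap.mulLeft_apply, LinearMap.mulLeft_apply]
        have hgx' : aeval x g - algebraMap A B (g.eval 1) = (x - 1) * aeval x g₁ := hgx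
        rw [hgx']
        linear_combination -((x - 1) * aeval x g₁) * hε.eq
      rw [h2, LinearMap.range_eq_map, ← Submodule.map_smul'', Ideal.smul_top_eq_map]
      exact Submodule.mem_map_of_mem (JB.mul_mem_left _ hεx)
    have : L (aeval x g) = (g.eval 1) • ε + L (aeval x g - algebraMap A B (g.eval 1)) := by
      simp [L, Algebra.smul_def]; ring
    rw [this]
    exact Submodule.add_mem_sup (Submodule.smul_mem _ _ (Submodule.mem_span_singleton_self _)) hmem
  have hrange := Submodule.le_of_le_smul_of_le_jacobson_bot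
    (by rw [LinearMap.range_eq_map]; exact Module.Finite.fg_top.map L) hI hle
  obtain ⟨α, hα⟩ := Submodule.mem_span_singleton.mp (hrange ⟨x, rfl⟩)
  replace hα : ε * x = algebraMap A B α * ε := by rw [← Algebra.smul_def]; exact hα.symm
  have hmemI : ∀ z ∈ JB, Algebra.trace A B z ∈ I := by
    intro z hz
    have hz' : z ∈ I • (⊤ : Submodule A B) := by rw [Ideal.smul_top_eq_map]; exact hz
    clear hz
    induction hz' using Submodule.smul_induction_on' with
    | smul r hr y _ => rw [map_smul]; exact I.mul_mem_right _ hr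
    | add y _ z _ hy hz => rw [map_add]; exact I.add_mem hy hz
  have htr : IsUnit (Algebra.trace A B ε) := by
    have hall : ∀ z, ∃ c : A, c • ε = L z := fun z ↦
      Submodule.mem_span_singleton.mp (hrange ⟨z, rfl⟩)
    choose c hc using hall
    let bas := Module.Free.chooseBasis A B
    let ℓ : B →ₗ[A] A := bas.constr A fun i ↦ c (bas i)
    have hL : L = LinearMap.smulRight ℓ ε := bas.ext fun i ↦ by simp [ℓ, hc]
    have ht : Algebra.trace A B ε = ℓ ε := by
      rw [Algebra.trace_apply, show Algebra.lmul A B ε = L from rfl, hL, LinearMap.trace_smulRight]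
    have h1 : (ℓ ε - 1) • ε = 0 := by
      rw [sub_smul, one_smul, ← LinearMap.smulRight_apply, ← hL]
      simp [L, hε.eq]
    let ev : B →ₐ[A] A ⧸ I := AdjoinRoot.liftAlgHom f (Algebra.ofId A (A ⧸ I)) 1 (by
      rw [show f.eval₂ (Algebra.ofId A (A ⧸ I) : A →+* A ⧸ I) 1 =
        (f.map (Ideal.Quotient.mk I)).eval 1 from (eval_map _ _).symm, hf, Polynomial.map_add,
        hrmap]
      simp)
    have hevε : ev ε = 1 := by
      have hJB : JB ≤ RingHom.ker ev.toRingHom := by
        rw [Ideal.map_le_iff_le_comap]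
        intro i hi
        simp [RingHom.mem_ker, Ideal.Quotient.eq_zero_iff_mem.mpr hi]
      have e1 : ev (ε - aeval x u * x ^ (k + 1)) = 0 := hJB hεe₀
      have evx : ev x = 1 := AdjoinRoot.liftAlgHom_root _ _ _ _
      rw [map_sub, sub_eq_zero, map_mul, map_pow, ← aeval_algHom_apply, evx, one_pow, mul_one] at e1
      have e2 := congr(aeval (1 : A ⧸ I) $huw)
      simp [zero_pow] at e2
      rw [e1, e2]
    have h2 := congr(ev $h1)
    rw [map_smul, hevε, map_zero, Algebra.smul_def, mul_one] at h2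
    rw [ht]
    exact isUnit_of_sub_one_mem hI (Ideal.Quotient.eq_zero_iff_mem.mp h2)
  have hev : ∀ g : A[X], ε * aeval x g = algebraMap A B (g.eval α) * ε := by
    intro g
    induction g using Polynomial.induction_on with
    | C a => rw [aeval_C, eval_C, mul_comm]
    | add p q hp hq => rw [map_add, mul_add, hp, hq, eval_add, map_add, add_mul]
    | monomial n a ih =>
      have hC : aeval x (C a * X ^ (n + 1)) = aeval x (C a * X ^ n) * x := by
        rw [map_mul, map_mul, map_pow, map_pow, aeval_X, pow_succ, mul_assoc]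
      rw [hC, ← mul_assoc, ih, mul_assoc, hα, ← mul_assoc, ← map_mul]
      congr 2
      rw [eval_mul, eval_mul, eval_C, eval_pow, eval_pow, eval_X, pow_succ, mul_assoc]
  refine ⟨α, ?_, ?_⟩
  · have h1 : (α - 1) • ε ∈ JB := by
      rw [Algebra.smul_def, map_sub, map_one, sub_mul, ← hα, one_mul,
        show ε * x - ε = (x - 1) * ε by ring]
      exact hεx
    have h2 := hmemI _ h1
    rw [map_smul, smul_eq_mul] at h2
    exact (I.mul_unit_mem_iff_mem htr).mp h2
  · change f.eval α = 0
    have h1 : (f.eval α) • ε = 0 := by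
      rw [Algebra.smul_def, ← hev, hx, AdjoinRoot.aeval_eq, AdjoinRoot.mk_self, mul_zero]
    have h2 := congr(Algebra.trace A B $h1)
    rw [map_smul, map_zero, smul_eq_mul] at h2
    exact htr.mul_left_eq_zero.mp h2

theorem henselianRing_of_finite_idem_lift
    (h : ∀ (B : Type u) [CommRing B] [Algebra A B], Module.Finite A B →
      Set.BijOn (Ideal.Quotient.mk (Ideal.map (algebraMap A B) I))
        {e : B | IsIdempotentElem e} {e | IsIdempotentElem e}) :
    HenselianRing A I := by
  have hI : I ≤ Ideal.jacobson ⊥ := by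
    intro x hx
    rw [Ideal.mem_jacobson_bot]
    intro y
    set J := Ideal.span {x * y + 1}
    have hbij := h (A ⧸ J) inferInstance
    have htop : Ideal.map (algebraMap A (A ⧸ J)) I = ⊤ := by
      rw [Ideal.eq_top_iff_one]
      have h1 := Ideal.mem_map_of_mem (algebraMap A (A ⧸ J)) (I.mul_mem_right (-y) hx)
      have : algebraMap A (A ⧸ J) (x * -y) = 1 := by
        rw [← map_one (Ideal.Quotient.mk J), Ideal.Quotient.algebraMap_eq, eq_comm,
          Ideal.Quotient.eq, show 1 - x * -y = x * y + 1 by ring]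
        exact Ideal.mem_span_singleton_self _
      rwa [this] at h1
    have h01 : (1 : A ⧸ J) = 0 := by
      refine hbij.injOn IsIdempotentElem.one IsIdempotentElem.zero ?_
      rw [Ideal.Quotient.eq, htop]; trivial
    have hJ : J = ⊤ := by
      rw [Ideal.eq_top_iff_one, ← Ideal.Quotient.eq_zero_iff_mem, map_one]; exact h01
    exact Ideal.span_singleton_eq_top.mp hJ
  exact (gabberRoot_of_adjoinRoot_idem_lift hI fun m p hp _ ↦
    (h (AdjoinRoot p) hp.finite_adjoinRoot).surjOn).henselianRing

end Groth.Agent.Hensel
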