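import Groth.Agent.Hensel.Local
import Mathlib.RingTheory.Artinian.Module
import Mathlib.RingTheory.Localization.AtPrime.Basic

/-!
# Finite algebras over henselian local rings are products of local rings
-/

set_option autoImplicit false

universe u v w

open IsLocalRing

namespace Groth.Agent.Hensel

variable {B : Type v} [CommRing B]

section idem

variable [Finite (MaximalSpectrum B)]

theorem idem_notMem_iff {e : MaximalSpectrum B → B} [Fintype (MaximalSpectrum B)]
    (he : CompleteOrthogonalIdempotents e) (hne : ∀ m, e m ∉ m.asIdeal)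
    (m n : MaximalSpectrum B) : e m ∈ n.asIdeal ↔ m ≠ n := by
  constructor
  · rintro h rfl; exact hne m h
  · intro h
    classical
    have : e m * e n ∈ n.asIdeal := by rw [he.ortho h]; exact zero_mem _
    exact (n.isMaximal.isPrime.mem_or_mem this).resolve_right (hne n)

theorem isLocalRing_quotient_one_sub {e : MaximalSpectrum B → B} [Fintype (MaximalSpectrum B)]
    (he : CompleteOrthogonalIdempotents e) (hne : ∀ m, e m ∉ m.asIdeal) (m : MaximalSpectrum B) :
    IsLocalRing (B ⧸ Ideal.span {1 - e m}) := by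
  have hmem : ∀ n : MaximalSpectrum B, 1 - e m ∈ n.asIdeal ↔ n = m := by
    intro n
    constructor
    · intro h
      by_contra hn
      refine n.isMaximal.ne_top ((Ideal.eq_top_iff_one _).mpr ?_)
      simpa using add_mem h ((idem_notMem_iff he hne m n).mpr (Ne.symm hn))
    · rintro rfl
      have h0 : (1 - e n) * e n ∈ n.asIdeal := by
        rw [sub_mul, one_mul, (he.idem n).eq, sub_self]; exact zero_mem _
      exact (n.isMaximal.isPrime.mem_or_mem h0).resolve_right (hne n)
  have hle : Ideal.span {1 - e m} ≤ m.asIdeal :=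
    (Ideal.span_singleton_le_iff_mem _).mpr ((hmem m).mpr rfl)
  refine .of_unique_max_ideal ⟨m.asIdeal.map (Ideal.Quotient.mk _),
    Ideal.IsMaximal.map_of_surjective_of_ker_le Ideal.Quotient.mk_surjective
      (by rw [Ideal.mk_ker]; exact hle), fun q hq ↦ ?_⟩
  set Q := q.comap (Ideal.Quotient.mk (Ideal.span {1 - e m})) with hQ
  have hQmax : Q.IsMaximal := Ideal.comap_isMaximal_of_surjective _ Ideal.Quotient.mk_surjective
  have h1 : 1 - e m ∈ Q := by
    simp [hQ, Ideal.Quotient.eq_zero_iff_mem.mpr (Ideal.mem_span_singleton_self (1 - e m))]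
  have h2 : (⟨Q, hQmax⟩ : MaximalSpectrum B) = m := (hmem ⟨Q, hQmax⟩).mp h1
  have h3 : Q = m.asIdeal := congrArg MaximalSpectrum.asIdeal h2
  change q = m.asIdeal.map _
  rw [← h3, hQ, Ideal.map_comap_of_surjective _ Ideal.Quotient.mk_surjective]

theorem bijective_pi_localization {e : MaximalSpectrum B → B} [Fintype (MaximalSpectrum B)]
    (he : CompleteOrthogonalIdempotents e) (hne : ∀ m, e m ∉ m.asIdeal) :
    Function.Bijective
      (RingHom.pi fun n : MaximalSpectrum B ↦ algebraMap B (Localization.AtPrime n.asIdeal)) := by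
  have hu : ∀ m : MaximalSpectrum B, algebraMap B (Localization.AtPrime m.asIdeal) (e m) = 1 := by
    intro m
    refine ((IsLocalization.map_units (M := m.asIdeal.primeCompl) _ ⟨e m, hne m⟩).mul_left_cancel ?_)
    rw [mul_one, ← map_mul, (he.idem m).eq]
  constructor
  · rw [injective_iff_map_eq_zero]
    intro x hx
    rw [← one_mul x, ← he.complete, Finset.sum_mul]
    refine Finset.sum_eq_zero fun m _ ↦ ?_
    obtain ⟨⟨s, hs⟩, h⟩ := (IsLocalization.map_eq_zero_iff m.asIdeal.primeCompl _ x).mp
      (congrFun hx m)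
    have := isLocalRing_quotient_one_sub he hne m
    obtain ⟨y, hy⟩ : IsUnit (Ideal.Quotient.mk (Ideal.span {1 - e m}) s) := by
      by_contra hns
      rw [← mem_nonunits_iff, ← IsLocalRing.mem_maximalIdeal] at hns
      have hcomap : (maximalIdeal _).comap (Ideal.Quotient.mk (Ideal.span {1 - e m})) =
          m.asIdeal := by
        have hQmax : ((maximalIdeal _).comap
            (Ideal.Quotient.mk (Ideal.span {1 - e m}))).IsMaximal :=
          Ideal.comap_isMaximal_of_surjective _ Ideal.Quotient.mk_surjective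
        by_contra hn
        have h1 : 1 - e m ∈ (maximalIdeal _).comap (Ideal.Quotient.mk (Ideal.span {1 - e m})) := by
          simp [Ideal.Quotient.eq_zero_iff_mem.mpr (Ideal.mem_span_singleton_self (1 - e m))]
        refine hQmax.ne_top ((Ideal.eq_top_iff_one _).mpr ?_)
        simpa using add_mem h1 ((idem_notMem_iff he hne m ⟨_, hQmax⟩).mpr
          fun h' ↦ hn (congrArg MaximalSpectrum.asIdeal h').symm)
      exact hs (hcomap ▸ hns)
    obtain ⟨z, hz⟩ := Ideal.Quotient.mk_surjective (y⁻¹).1
    have h2 : Ideal.Quotient.mk (Ideal.span {1 - e m}) (z * s) = 1 := by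
      rw [map_mul, hz, ← hy, Units.inv_mul]
    rw [← map_one (Ideal.Quotient.mk (Ideal.span {1 - e m})), Ideal.Quotient.eq,
      Ideal.mem_span_singleton] at h2
    obtain ⟨c, hc⟩ := h2
    linear_combination e m * z * h - (e m * x) * hc + x * c * (he.idem m).eq
  · intro y
    choose x hx using fun m ↦ show ∃ x : B, algebraMap B _ x = y m from by
      obtain ⟨a, ⟨s, hs⟩, ha⟩ := IsLocalization.exists_mk'_eq m.asIdeal.primeCompl (y m)
      have := isLocalRing_quotient_one_sub he hne m
      obtain ⟨z, hz⟩ : ∃ z, z * s - 1 ∈ Ideal.span {1 - e m} := by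
        have hmax : ∀ t, t ∉ m.asIdeal → IsUnit (Ideal.Quotient.mk (Ideal.span {1 - e m}) t) := by
          intro t ht
          by_contra hns
          rw [← mem_nonunits_iff, ← IsLocalRing.mem_maximalIdeal] at hns
          have hQmax : ((maximalIdeal _).comap
              (Ideal.Quotient.mk (Ideal.span {1 - e m}))).IsMaximal :=
            Ideal.comap_isMaximal_of_surjective _ Ideal.Quotient.mk_surjective
          have hne' : (⟨_, hQmax⟩ : MaximalSpectrum B) ≠ m := fun h' ↦
            ht ((congrArg MaximalSpectrum.asIdeal h') ▸ hns)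
          refine hQmax.ne_top ((Ideal.eq_top_iff_one _).mpr ?_)
          have h1 : 1 - e m ∈ (maximalIdeal _).comap (Ideal.Quotient.mk (Ideal.span {1 - e m})) := by
            simp [Ideal.Quotient.eq_zero_iff_mem.mpr (Ideal.mem_span_singleton_self (1 - e m))]
          simpa using add_mem h1 ((idem_notMem_iff he hne m ⟨_, hQmax⟩).mpr hne'.symm)
        obtain ⟨u, hu'⟩ := hmax s hs
        obtain ⟨z, hz⟩ := Ideal.Quotient.mk_surjective (u⁻¹).1
        exact ⟨z, by rw [← Ideal.Quotient.eq, map_mul, hz, ← hu', Units.inv_mul, map_one]⟩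
      refine ⟨a * z, ?_⟩
      rw [← ha, eq_comm, IsLocalization.mk'_eq_iff_eq_mul, ← map_mul]
      obtain ⟨c, hc⟩ := Ideal.mem_span_singleton.mp hz
      rw [← one_mul (algebraMap B _ a), ← hu m, ← one_mul (algebraMap B _ (a * z * s)), ← hu m,
        ← map_mul, ← map_mul]
      congr 1
      linear_combination -(e m * a) * hc + a * c * (he.idem m).eq
    refine ⟨∑ m, e m * x m, funext fun n ↦ ?_⟩
    change algebraMap B _ (∑ m, e m * x m) = y n
    rw [map_sum, Finset.sum_eq_single n]
    · rw [map_mul, hu, one_mul, hx]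
    · intro m _ hmn
      classical
      refine ((IsLocalization.map_units (M := n.asIdeal.primeCompl) _ ⟨e n, hne n⟩).mul_left_cancel ?_)
      rw [mul_zero, ← map_mul, ← mul_assoc, he.ortho (Ne.symm hmn), zero_mul, map_zero]
    · simp

end idem

variable {A : Type u} [CommRing A]

/-- Idempotents separating the maximal ideals of a finite algebra over a local ring. -/
theorem exists_idem_of_surjOn [IsLocalRing A] [Algebra A B] [Module.Finite A B]
    (h : Set.SurjOn (Ideal.Quotient.mk (Ideal.map (algebraMap A B) (maximalIdeal A)))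
      {e : B | IsIdempotentElem e} {e | IsIdempotentElem e}) :
    Finite (MaximalSpectrum B) ∧ ∀ [Fintype (MaximalSpectrum B)],
      ∃ e : MaximalSpectrum B → B, CompleteOrthogonalIdempotents e ∧ ∀ m, e m ∉ m.asIdeal := by
  classical
  set J := Ideal.map (algebraMap A B) (maximalIdeal A) with hJ
  have hjac : J ≤ Ideal.jacobson (⊥ : Ideal B) :=
    map_le_jacobson_of_isIntegral (jacobson_eq_maximalIdeal ⊥ bot_ne_top).ge
  have hm : ∀ m : MaximalSpectrum B, J ≤ m.asIdeal := fun m ↦
    hjac.trans (sInf_le ⟨bot_le, m.isMaximal⟩)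
  let : Algebra (ResidueField A) (B ⧸ J) :=
    (Ideal.quotientMap J (algebraMap A B) Ideal.le_comap_map).toAlgebra
  have : IsScalarTower A (ResidueField A) (B ⧸ J) := .of_algebraMap_eq fun x ↦ rfl
  have : Module.Finite (ResidueField A) (B ⧸ J) := Module.Finite.of_restrictScalars_finite A _ _
  have : IsArtinianRing (B ⧸ J) := .of_finite (ResidueField A) _
  let toBar : MaximalSpectrum B → MaximalSpectrum (B ⧸ J) := fun m ↦
    ⟨m.asIdeal.map (Ideal.Quotient.mk J),
      Ideal.IsMaximal.map_of_surjective_of_ker_le Ideal.Quotient.mk_surjective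
        (by rw [Ideal.mk_ker]; exact hm m)⟩
  have hinj : Function.Injective toBar := fun m n hmn ↦ by
    have := congrArg (fun q : MaximalSpectrum (B ⧸ J) ↦ q.asIdeal.comap (Ideal.Quotient.mk J)) hmn
    simp only [toBar, Ideal.comap_map_of_surjective _ Ideal.Quotient.mk_surjective,
      ← RingHom.ker_eq_comap_bot, Ideal.mk_ker, sup_eq_left.mpr (hm _)] at this
    exact MaximalSpectrum.ext this
  have hfin : Finite (MaximalSpectrum B) := Finite.of_injective _ hinj
  refine ⟨hfin, fun {_} ↦ ?_⟩
  let π : (B ⧸ J) →+* ∀ m : MaximalSpectrum B, (B ⧸ J) ⧸ (toBar m).asIdeal :=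
    RingHom.pi fun m ↦ Ideal.Quotient.mk _
  have hπ : Function.Surjective π := by
    intro y
    choose y' hy' using fun m ↦ Ideal.Quotient.mk_surjective (y m)
    obtain ⟨x, hx⟩ := Ideal.exists_forall_sub_mem_ideal
      (I := fun m : MaximalSpectrum B ↦ (toBar m).asIdeal) (fun m n hmn ↦
        Ideal.isCoprime_iff_sup_eq.mpr ((toBar m).isMaximal.coprime_of_ne (toBar n).isMaximal
          fun h' ↦ hinj.ne hmn (MaximalSpectrum.ext h'))) y'
    exact ⟨x, funext fun m ↦ (Ideal.Quotient.eq.mpr (hx m)).trans (hy' m)⟩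
  have hker : ∀ x ∈ RingHom.ker π, IsNilpotent x := by
    intro x hx
    rw [← mem_nilradical, nilradical_eq_sInf, Submodule.mem_sInf]
    intro q (hq : Ideal.IsPrime q)
    have hq' : (Ideal.comap (Ideal.Quotient.mk J) q).IsMaximal := by
      have : Ideal.IsMaximal q := IsArtinianRing.isMaximal_of_isPrime q
      exact Ideal.comap_isMaximal_of_surjective _ Ideal.Quotient.mk_surjective
    have h2 := Ideal.Quotient.eq_zero_iff_mem.mp (congrFun (RingHom.mem_ker.mp hx) ⟨_, hq'⟩)
    simpa [toBar, Ideal.map_comap_of_surjective _ Ideal.Quotient.mk_surjective] using h2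
  obtain ⟨ē, hē, hπe⟩ := CompleteOrthogonalIdempotents.lift_of_isNilpotent_ker π hker
    (CompleteOrthogonalIdempotents.single fun m : MaximalSpectrum B ↦ (B ⧸ J) ⧸ (toBar m).asIdeal)
    (fun m ↦ hπ _)
  choose e he hee using fun m ↦ h (hē.idem m : ē m ∈ {e | IsIdempotentElem e})
  have huniq : ∀ {x y : B}, IsIdempotentElem x → IsIdempotentElem y →
      Ideal.Quotient.mk J x = Ideal.Quotient.mk J y → x = y := fun hx hy hxy ↦
    idem_eq_of_sub_mem_jacobson hx hy (hjac (Ideal.Quotient.eq.mp hxy))
  have hortho : OrthogonalIdempotents e := ⟨he, fun m n hmn ↦ by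
    refine huniq ((he m).mul (he n)) IsIdempotentElem.zero ?_
    rw [map_mul, hee, hee, hē.ortho hmn, map_zero]⟩
  refine ⟨e, ⟨hortho, huniq hortho.isIdempotentElem_sum IsIdempotentElem.one ?_⟩, fun m hmem ↦ ?_⟩
  · rw [map_sum, map_one]
    simp_rw [hee]
    exact hē.complete
  · have h1 : Ideal.Quotient.mk (toBar m).asIdeal (ē m) = 1 := by
      have := congrFun (congrFun hπe m) m
      simpa [π] using this
    have h2 : ē m ∈ (toBar m).asIdeal := hee m ▸ Ideal.mem_map_of_mem _ hmem
    rw [Ideal.Quotient.eq_zero_iff_mem.mpr h2] at h1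
    have := Ideal.Quotient.nontrivial_iff.mpr (toBar m).isMaximal.ne_top
    exact zero_ne_one h1

theorem exists_ringEquiv_pi_of_surjOn {A B : Type u} [CommRing A] [CommRing B] [IsLocalRing A]
    [Algebra A B] [Module.Finite A B]
    (h : Set.SurjOn (Ideal.Quotient.mk (Ideal.map (algebraMap A B) (maximalIdeal A)))
      {e : B | IsIdempotentElem e} {e | IsIdempotentElem e}) :
    ∃ (ι : Type u) (_ : Fintype ι) (C : ι → Type u) (_ : ∀ j, CommRing (C j)),
      (∀ j, IsLocalRing (C j)) ∧ Nonempty (B ≃+* (∀ j, C j)) := by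
  obtain ⟨hfin, h'⟩ := exists_idem_of_surjOn h
  let := Fintype.ofFinite (MaximalSpectrum B)
  obtain ⟨e, he, hne⟩ := h'
  exact ⟨MaximalSpectrum B, inferInstance, fun m ↦ B ⧸ Ideal.span {1 - e m}, fun m ↦ inferInstance,
    fun m ↦ isLocalRing_quotient_one_sub he hne m,
    ⟨RingEquiv.ofBijective _ he.bijective_pi⟩⟩

theorem bijective_pi_localization_of_surjOn [IsLocalRing A] [Algebra A B] [Module.Finite A B]
    (h : Set.SurjOn (Ideal.Quotient.mk (Ideal.map (algebraMap A B) (maximalIdeal A)))
      {e : B | IsIdempotentElem e} {e | IsIdempotentElem e}) :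
    Finite (MaximalSpectrum B) ∧ Function.Bijective
      (RingHom.pi fun n : MaximalSpectrum B ↦ algebraMap B (Localization.AtPrime n.asIdeal)) := by
  obtain ⟨hfin, h'⟩ := exists_idem_of_surjOn h
  let := Fintype.ofFinite (MaximalSpectrum B)
  obtain ⟨e, he, hne⟩ := h'
  exact ⟨hfin, bijective_pi_localization he hne⟩

/-- Conversely, a finite product of local rings has idempotent lifting modulo any extended ideal. -/
theorem surjOn_of_ringEquiv_pi [Algebra A B] (I : Ideal A) {ι : Type w} [Finite ι]
    {C : ι → Type v} [∀ j, CommRing (C j)] [∀ j, IsLocalRing (C j)] (φ : B ≃+* ∀ j, C j) :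
    Set.SurjOn (Ideal.Quotient.mk (Ideal.map (algebraMap A B) I))
      {e : B | IsIdempotentElem e} {e | IsIdempotentElem e} := by
  classical
  have := Fintype.ofFinite ι
  intro x hx
  obtain ⟨b, rfl⟩ := Ideal.Quotient.mk_surjective x
  have hb : b * b - b ∈ Ideal.map (algebraMap A B) I :=
    Ideal.Quotient.eq.mp ((map_mul _ _ _).trans hx)
  let p : ∀ j, B →+* C j := fun j ↦ (Pi.evalRingHom C j).comp φ
  have hp : ∀ j, Function.Surjective (p j) := fun j z ↦ ⟨φ.symm (Pi.single j z), by simp [p]⟩
  set J := Ideal.map (algebraMap A B) I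
  let e : B := φ.symm fun j ↦ if IsUnit (p j b) then 1 else 0
  have he : IsIdempotentElem e := IsIdempotentElem.map (show IsIdempotentElem
    (fun j ↦ if IsUnit (p j b) then (1 : C j) else 0) from funext fun j ↦ by
      by_cases hh : IsUnit (p j b) <;> simp [hh]) φ.symm
  refine ⟨e, he, Ideal.Quotient.eq.mpr ?_⟩
  have hcomp : ∀ j, ∃ y ∈ J, p j y = p j (e - b) := by
    intro j
    refine (Ideal.mem_map_iff_of_surjective (p j) (hp j)).mp ?_
    have hbj : p j b * p j b - p j b ∈ J.map (p j) := by
      rw [← map_mul, ← map_sub]; exact Ideal.mem_map_of_mem _ hb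
    have hej : p j e = if IsUnit (p j b) then 1 else 0 := by simp [p, e]
    rw [map_sub, hej]
    split_ifs with hu
    · have : (hu.unit⁻¹).1 * (p j b * p j b - p j b) ∈ J.map (p j) := by
        exact Ideal.mul_mem_left _ _ hbj
      have e1 : (hu.unit⁻¹).1 * p j b = 1 := hu.val_inv_mul
      have e2 : (1 - p j b) = -((hu.unit⁻¹).1 * (p j b * p j b - p j b)) := by
        linear_combination (p j b - 1) * e1
      rw [e2]; exact neg_mem this
    · have hu' : IsUnit (p j b - 1) :=
        (IsLocalRing.isUnit_or_isUnit_of_add_one (a := p j b) (b := 1 - p j b) (by ring)).resolve_left hu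
          |>.neg |> fun h ↦ by rwa [neg_sub] at h
      have e2 : (0 - p j b) = -((hu'.unit⁻¹).1 * (p j b * p j b - p j b)) := by
        linear_combination (p j b) * hu'.val_inv_mul
      rw [e2]; exact neg_mem (Ideal.mul_mem_left _ _ hbj)
  choose y hy hyp using hcomp
  have hsum : e - b = ∑ j, φ.symm (Pi.single j 1) * y j := by
    apply φ.injective
    ext k
    have := hyp k
    simp only [p, RingHom.coe_comp, RingHom.coe_coe, Function.comp_apply,
      Pi.evalRingHom_apply] at this
    simp only [map_sum, map_mul, RingEquiv.apply_symm_apply, Finset.sum_apply, Pi.mul_apply]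
    rw [Finset.sum_eq_single k (fun x _ hx ↦ by simp [Pi.single_eq_of_ne' hx]) (by simp),
      Pi.single_eq_same, one_mul, this]
  rw [hsum]
  exact sum_mem fun j _ ↦ J.mul_mem_left _ (hy j)

end Groth.Agent.Hensel
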