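import Groth.Agent.Hensel.HfpFlat

/-!
# Principal open neighbourhoods of `V(J)` as trivial étale neighbourhoods
-/

set_option autoImplicit false

universe u

namespace Groth.Agent.Hensel

variable {R : Type u} [CommRing R] {J : Ideal R}

theorem quotientMap_away_bijective (f : R) (hf : f - 1 ∈ J) :
    Function.Bijective (Ideal.quotientMap (J.map (algebraMap R (Localization.Away f)))
      (algebraMap R (Localization.Away f)) Ideal.le_comap_map) := by
  have hu : IsUnit (Ideal.Quotient.mk J f) := by
    rw [show Ideal.Quotient.mk J f = 1 from Ideal.Quotient.eq.mpr hf]; exact isUnit_one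
  let φ : Localization.Away f →+* R ⧸ J := IsLocalization.Away.lift f hu
  have hφ : ∀ r, φ (algebraMap R _ r) = Ideal.Quotient.mk J r := IsLocalization.Away.lift_eq f hu
  let ψ : Localization.Away f ⧸ J.map (algebraMap R (Localization.Away f)) →+* R ⧸ J :=
    Ideal.Quotient.lift _ φ fun z hz ↦ (Ideal.map_le_iff_le_comap.mpr fun r hr ↦ by
      rw [Ideal.mem_comap, RingHom.mem_ker, hφ]
      exact Ideal.Quotient.eq_zero_iff_mem.mpr hr :
        J.map (algebraMap R (Localization.Away f)) ≤ RingHom.ker φ) hz
  set θ := Ideal.quotientMap (J.map (algebraMap R (Localization.Away f)))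
    (algebraMap R (Localization.Away f)) Ideal.le_comap_map
  have h1 : ψ.comp θ = RingHom.id _ := Ideal.Quotient.ringHom_ext (RingHom.ext hφ)
  have h2 : θ.comp ψ = RingHom.id _ := by
    refine Ideal.Quotient.ringHom_ext (IsLocalization.ringHom_ext (Submonoid.powers f) (RingHom.ext fun r ↦ ?_))
    change θ (φ (algebraMap R _ r)) = _
    rw [hφ]
    rfl
  exact Function.bijective_iff_has_inverse.mpr ⟨ψ, fun x ↦ DFunLike.congr_fun h1 x, fun x ↦ DFunLike.congr_fun h2 x⟩

theorem exists_etale_away {U : Set (PrimeSpectrum R)} (hU : IsOpen U)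
    (hJ : PrimeSpectrum.zeroLocus (J : Set R) ⊆ U) :
    ∃ f : R, Algebra.Etale R (Localization.Away f) ∧
      Function.Bijective (Ideal.quotientMap (J.map (algebraMap R (Localization.Away f)))
        (algebraMap R (Localization.Away f)) Ideal.le_comap_map) ∧
      (PrimeSpectrum.basicOpen f : Set (PrimeSpectrum R)) ⊆ U ∧
      ∀ P : PrimeSpectrum (Localization.Away f), PrimeSpectrum.comap (algebraMap R (Localization.Away f)) P ∈ U := by
  obtain ⟨f, hf, hfU⟩ := exists_basicOpen_subset_of_zeroLocus_subset U hU hJ
  refine ⟨f, Algebra.Etale.of_isLocalizationAway f, quotientMap_away_bijective f hf, hfU, fun P ↦ hfU ?_⟩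
  intro h
  exact P.isPrime.ne_top (P.asIdeal.eq_top_of_isUnit_mem h (IsLocalization.Away.algebraMap_isUnit f))

theorem flat_away_of_forall {A : Type u} [CommRing A] [Algebra A R] (f : R)
    (h : ∀ P : PrimeSpectrum (Localization.Away f),
      Module.Flat A (Localization.AtPrime (P.asIdeal.comap (algebraMap R (Localization.Away f))))) :
    Module.Flat A (Localization.Away f) := by
  let S := Localization.Away f
  refine Module.flat_of_isLocalized_maximal S S (fun P ↦ Localization.AtPrime P)
    (fun P _ ↦ Algebra.linearMap S (Localization.AtPrime P)) fun P _ ↦ ?_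
  let q := P.comap (algebraMap R S)
  have : IsLocalization.AtPrime (Localization.AtPrime P) q :=
    IsLocalization.isLocalization_isLocalization_atPrime_isLocalization (Submonoid.powers f) _ P
  have := h ⟨P, inferInstance⟩
  exact Module.Flat.of_linearEquiv
    ((IsLocalization.algEquiv q.primeCompl (Localization.AtPrime P) (Localization.AtPrime q)).restrictScalars A).toLinearEquiv

end Groth.Agent.Hensel

namespace Groth.Agent.Hensel

variable {A R : Type u} [CommRing A] [CommRing R] [Algebra A R]

theorem isOpen_quasiFiniteAt [Algebra.FiniteType A R] :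
    IsOpen {q : PrimeSpectrum R | Algebra.QuasiFiniteAt A q.asIdeal} := by
  refine isOpen_iff_forall_mem_open.mpr fun q hq ↦ ?_
  have : Algebra.QuasiFiniteAt A q.asIdeal := hq
  obtain ⟨S', hS', r, hr, H⟩ :=
    Algebra.QuasiFiniteAt.exists_fg_and_exists_notMem_and_awayMap_bijective (R := A) q.asIdeal
  have : Module.Finite A S' := ⟨(Submodule.fg_top _).mpr hS'⟩
  have : Algebra.QuasiFinite A (Localization.Away r) := .trans _ S' _
  have : Algebra.QuasiFinite A (Localization.Away r.1) :=
    .of_surjective_algHom (Localization.awayMapₐ S'.val r) H.2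
  refine ⟨PrimeSpectrum.basicOpen r.1, fun q' hq' ↦ ?_, (PrimeSpectrum.basicOpen r.1).isOpen, hr⟩
  let f : Localization.Away r.1 →ₐ[R] Localization.AtPrime q'.asIdeal :=
    IsLocalization.Away.liftAlgHom r.1 (f := Algebra.ofId _ _) <|
      IsLocalization.map_units (M := q'.asIdeal.primeCompl) (Localization.AtPrime q'.asIdeal) ⟨r, hq'⟩
  refine .of_forall_exists_mul_mem_range (f.restrictScalars A) fun x ↦ ?_
  obtain ⟨x, ⟨s, hs⟩, rfl⟩ := IsLocalization.exists_mk'_eq q'.asIdeal.primeCompl x
  exact ⟨algebraMap _ _ s, by simpa using IsLocalization.map_units _ ⟨s, hs⟩,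
    algebraMap _ _ x, by simp⟩

theorem quasiFinite_away_of_forall [Algebra.FiniteType A R] (f : R)
    (h : ∀ P : PrimeSpectrum (Localization.Away f),
      Algebra.QuasiFiniteAt A (P.asIdeal.comap (algebraMap R (Localization.Away f)))) :
    Algebra.QuasiFinite A (Localization.Away f) := by
  let S := Localization.Away f
  have : Algebra.FiniteType R S := IsLocalization.finiteType_of_monoid_fg (Submonoid.powers f) _
  have : Algebra.FiniteType A S := Algebra.FiniteType.trans (S := R) inferInstance this
  rw [Algebra.QuasiFinite.iff_finite_comap_preimage_singleton]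
  intro p
  let e := PrimeSpectrum.preimageHomeomorphFiber A S p
  have : CompactSpace (PrimeSpectrum.comap (algebraMap A S) ⁻¹' {p}) := e.symm.compactSpace
  have hd : DiscreteTopology (PrimeSpectrum.comap (algebraMap A S) ⁻¹' {p}) := by
    rw [discreteTopology_iff_isOpen_singleton]
    rintro ⟨P, hP⟩
    let q := P.asIdeal.comap (algebraMap R S)
    have : IsLocalization.AtPrime (Localization.AtPrime P.asIdeal) q :=
      IsLocalization.isLocalization_isLocalization_atPrime_isLocalization (Submonoid.powers f) _ P.asIdeal
    have hq : Algebra.QuasiFiniteAt A q := h P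
    have : Algebra.QuasiFiniteAt A P.asIdeal :=
      (Algebra.QuasiFinite.iff_of_algEquiv
        ((IsLocalization.algEquiv q.primeCompl (Localization.AtPrime P.asIdeal) (Localization.AtPrime q)).restrictScalars A)).mpr hq
    have hopen := (Algebra.quasiFiniteAt_iff_isOpen_singleton_fiber (R := A) P).mp this
    subst hP
    exact hopen
  exact Set.finite_coe_iff.mp (finite_of_compact_of_discrete (X := _))

end Groth.Agent.Hensel
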