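import Groth.Agent.Hensel.Ascent
import Groth.Agent.CAlgReg.Basic
import Mathlib.RingTheory.DiscreteValuationRing.TFAE

/-!
# Regularity along a flat local map with trivial closed fibre
-/

set_option autoImplicit false

universe u

open IsLocalRing

namespace Groth.Agent.Hensel

theorem exists_subset_span_maximalIdeal {S : Type u} [CommRing S] [IsLocalRing S] [IsNoetherianRing S]
    (G : Set S) (hG : Ideal.span G = maximalIdeal S) :
    ∃ G' ⊆ G, G'.Finite ∧ G'.ncard ≤ (maximalIdeal S).spanFinrank ∧ Ideal.span G' = maximalIdeal S := by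
  let G₀ : Set (maximalIdeal S) := Subtype.val ⁻¹' G
  have hGm : G ⊆ maximalIdeal S := fun x hx ↦ hG ▸ Ideal.subset_span hx
  have himg : Subtype.val '' G₀ = G := by
    rw [Set.image_preimage_eq_inter_range, Subtype.range_coe_subtype]
    exact Set.inter_eq_left.mpr hGm
  have hspan : Submodule.span S G₀ = ⊤ := by
    apply Submodule.map_injective_of_injective (maximalIdeal S).injective_subtype
    rw [Submodule.map_span, Submodule.map_top, Submodule.range_subtype]
    exact (congrArg (Submodule.span S) himg).trans hG
  have hspan' := CotangentSpace.span_image_eq_top_iff.mpr hspan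
  obtain ⟨b, hb, hbspan, hli⟩ := exists_linearIndependent (ResidueField S)
    ((maximalIdeal S).toCotangent '' G₀)
  have : Finite b := hli.finite
  have := Fintype.ofFinite b
  choose c hcG hc using fun x : b ↦ hb x.2
  refine ⟨Set.range fun x ↦ (c x : S), ?_, Set.finite_range _, ?_, ?_⟩
  · rintro _ ⟨x, rfl⟩
    exact hcG x
  · rw [spanFinrank_maximalIdeal_eq_finrank_cotangentSpace]
    have h1 : (Set.range fun x ↦ (c x : S)).ncard ≤ Nat.card b := by
      rw [← Nat.card_coe_set_eq]
      exact Finite.card_range_le _
    refine h1.trans ?_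
    rw [Nat.card_eq_fintype_card]
    exact hli.fintype_card_le_finrank
  · have h2 : Submodule.span S (Set.range c) = ⊤ := by
      rw [← CotangentSpace.span_image_eq_top_iff, ← Set.range_comp, Function.comp_def, funext hc,
        Subtype.range_coe, hbspan,
        hspan']
    have h3 := congrArg (Submodule.map (maximalIdeal S).subtype) h2
    rw [Submodule.map_span, Submodule.map_top, Submodule.range_subtype, ← Set.range_comp] at h3
    exact h3

variable {R S : Type u} [CommRing R] [IsLocalRing R] [CommRing S] [IsLocalRing S] [Algebra R S]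
  [Module.FaithfullyFlat R S]

theorem spanFinrank_maximalIdeal_map [IsNoetherianRing R] [IsNoetherianRing S]
    (h : (maximalIdeal R).map (algebraMap R S) = maximalIdeal S) :
    (maximalIdeal S).spanFinrank = (maximalIdeal R).spanFinrank := by
  refine le_antisymm (h ▸ Ideal.spanFinrank_map_le_of_fg _ (maximalIdeal R).fg_of_isNoetherianRing) ?_
  let G : Set R := (maximalIdeal R : Set R)
  have hG : Ideal.span (algebraMap R S '' G) = maximalIdeal S := by
    rw [← Ideal.map_span]
    simpa [G] using h
  obtain ⟨G', hsub, hfin, hcard, hspan⟩ := exists_subset_span_maximalIdeal _ hG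
  choose pre hpre hpre' using fun x : G' ↦ hsub x.2
  have := hfin.to_subtype
  have hR : Ideal.span (Set.range pre) = maximalIdeal R := by
    rw [← Ideal.comap_map_eq_self_of_faithfullyFlat (B := S) (Ideal.span (Set.range pre)),
      Ideal.map_span, ← Set.range_comp, Function.comp_def, funext hpre', Subtype.range_coe,
      hspan, ← h,
      Ideal.comap_map_eq_self_of_faithfullyFlat]
  calc (maximalIdeal R).spanFinrank = (Ideal.span (Set.range pre)).spanFinrank := by rw [hR]
    _ ≤ (Set.range pre).ncard := Submodule.spanFinrank_span_le_ncard_of_finite (Set.finite_range _)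
    _ ≤ G'.ncard := by
      rw [← Nat.card_coe_set_eq, ← Nat.card_coe_set_eq]
      exact Finite.card_range_le _
    _ ≤ _ := hcard

theorem isRegularLocalRing_iff_of_map_maximalIdeal [IsNoetherianRing R] [IsNoetherianRing S]
    (h : (maximalIdeal R).map (algebraMap R S) = maximalIdeal S)
    (hdim : ringKrullDim S = ringKrullDim R) :
    IsRegularLocalRing R ↔ IsRegularLocalRing S := by
  rw [isRegularLocalRing_iff, isRegularLocalRing_iff, spanFinrank_maximalIdeal_map h, hdim]

theorem dvr_iff_isRegularLocalRing {A : Type u} [CommRing A] [IsLocalRing A] [IsNoetherianRing A] :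
    (∃ _ : IsDomain A, IsDiscreteValuationRing A) ↔ IsRegularLocalRing A ∧ ringKrullDim A = 1 := by
  refine ⟨fun ⟨_, _⟩ ↦ ⟨inferInstance, IsPrincipalIdealRing.ringKrullDim_eq_one A
    (IsDiscreteValuationRing.not_isField A)⟩, fun ⟨hr, hd⟩ ↦ ?_⟩
  have := CAlgReg.isDomain (R := A)
  refine ⟨this, IsLocalRing.finrank_CotangentSpace_eq_one_iff.mp ?_⟩
  have := (IsRegularLocalRing.iff_finrank_cotangentSpace (R := A)).mp hr
  rw [hd] at this
  exact_mod_cast this

end Groth.Agent.Hensel
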