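import Groth.Agent.Hensel.TrivialFibres
import Mathlib.RingTheory.Ideal.AssociatedPrime.Localization

/-!
# Flat maps with trivial fibres: comparison at every prime
-/

set_option autoImplicit false

universe u

open IsLocalRing

namespace Groth.Agent.Hensel

theorem ringKrullDim_eq_of_faithfullyFlat {R S : Type u} [CommRing R] [IsLocalRing R] [CommRing S]
    [IsLocalRing S] [Algebra R S] [Module.FaithfullyFlat R S] [IsNoetherianRing R] [IsNoetherianRing S]
    (h : (maximalIdeal R).map (algebraMap R S) = maximalIdeal S) :
    ringKrullDim S = ringKrullDim R := by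
  have : (maximalIdeal S).LiesOver (maximalIdeal R) := ⟨(maximalIdeal.isMaximal R).eq_of_le
    (Ideal.comap_ne_top _ (maximalIdeal.isMaximal S).ne_top) (Ideal.map_le_iff_le_comap.mp h.le)⟩
  rw [← IsLocalRing.maximalIdeal_height_eq_ringKrullDim,
    ← IsLocalRing.maximalIdeal_height_eq_ringKrullDim,
    Ideal.height_eq_height_add_of_liesOver_of_hasGoingDown (maximalIdeal R) (maximalIdeal S)]
  have : Nontrivial (S ⧸ (maximalIdeal R).map (algebraMap R S)) :=
    Ideal.Quotient.nontrivial_iff.mpr (h ▸ (maximalIdeal.isMaximal S).ne_top)
  have : IsLocalRing (S ⧸ (maximalIdeal R).map (algebraMap R S)) :=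
    .of_surjective' _ Ideal.Quotient.mk_surjective
  have h0 : ((maximalIdeal S).map (Ideal.Quotient.mk ((maximalIdeal R).map (algebraMap R S)))) = ⊥ := by
    rw [eq_bot_iff, Ideal.map_le_iff_le_comap, ← RingHom.ker_eq_comap_bot, Ideal.mk_ker, h]
  simp [h0]

theorem localization_ff_data {R S : Type u} [CommRing R] [CommRing S] [Algebra R S]
    (h : TrivialFibres R S) (P : Ideal S) [P.IsPrime] :
    letI := Localization.AtPrime.algebraOfLiesOver (P.under R) P
    Module.FaithfullyFlat (Localization.AtPrime (P.under R)) (Localization.AtPrime P) ∧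
      (maximalIdeal (Localization.AtPrime (P.under R))).map
        (algebraMap (Localization.AtPrime (P.under R)) (Localization.AtPrime P)) =
          maximalIdeal (Localization.AtPrime P) := by
  let := Localization.AtPrime.algebraOfLiesOver (P.under R) P
  have := h.flat
  have : Module.Flat (Localization.AtPrime (P.under R)) (Localization.AtPrime P) :=
    (Module.flat_iff_of_isLocalization _ (P.under R).primeCompl _).mpr inferInstance
  have hmap : (maximalIdeal (Localization.AtPrime (P.under R))).map
      (algebraMap (Localization.AtPrime (P.under R)) (Localization.AtPrime P)) =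
        maximalIdeal (Localization.AtPrime P) := by
    rw [← IsLocalization.AtPrime.map_eq_maximalIdeal (P.under R) (Localization.AtPrime (P.under R)),
      Ideal.map_map, ← IsScalarTower.algebraMap_eq]
    exact h.map_eq P
  have : IsLocalHom (algebraMap (Localization.AtPrime (P.under R)) (Localization.AtPrime P)) :=
    ((local_hom_TFAE _).out 2 0 rfl rfl).mp hmap.le
  exact ⟨Module.FaithfullyFlat.of_flat_of_isLocalHom, hmap⟩

theorem depth_localizedModule_self {R : Type u} [CommRing R] (P : Ideal R) [P.IsPrime] :
    LocCoh.depth (Localization.AtPrime P) (LocalizedModule P.primeCompl R) =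
      LocCoh.depth (Localization.AtPrime P) (Localization.AtPrime P) :=
  Depth.depth_congr (Depth.localizedSelfEquiv P.primeCompl)

theorem supportDim_localizedModule_self {R : Type u} [CommRing R] (P : Ideal R) [P.IsPrime] :
    Module.supportDim (Localization.AtPrime P) (LocalizedModule P.primeCompl R) =
      ringKrullDim (Localization.AtPrime P) :=
  (Module.supportDim_eq_of_equiv (Depth.localizedSelfEquiv P.primeCompl)).trans
    (Module.supportDim_self_eq_ringKrullDim _)

theorem mem_associatedPrimes_iff_depth_eq_zero {R : Type u} [CommRing R] [IsNoetherianRing R]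
    (P : Ideal R) [P.IsPrime] :
    P ∈ associatedPrimes R R ↔
      LocCoh.depth (Localization.AtPrime P) (Localization.AtPrime P) = 0 := by
  rw [Depth.depth_eq_zero_iff]
  have e := Module.associatedPrimes.preimage_comap_associatedPrimes_eq_associatedPrimes_of_isLocalizedModule
    (R := R) (M := R) P.primeCompl (Localization.AtPrime P)
    (Algebra.linearMap R (Localization.AtPrime P))
  rw [← e, Set.mem_preimage, ← Ideal.under_def,
    IsLocalization.AtPrime.under_maximalIdeal (Localization.AtPrime P) P]

variable {R S : Type u} [CommRing R] [CommRing S] [Algebra R S] (h : TrivialFibres R S)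
  [IsNoetherianRing R] [IsNoetherianRing S]

include h

theorem depth_atPrime_eq (P : Ideal S) [P.IsPrime] :
    LocCoh.depth (Localization.AtPrime P) (Localization.AtPrime P) =
      LocCoh.depth (Localization.AtPrime (P.under R)) (Localization.AtPrime (P.under R)) := by
  let := Localization.AtPrime.algebraOfLiesOver (P.under R) P
  obtain ⟨_, hm⟩ := localization_ff_data h P
  exact depth_eq_of_faithfullyFlat hm

theorem ringKrullDim_atPrime_eq (P : Ideal S) [P.IsPrime] :
    ringKrullDim (Localization.AtPrime P) = ringKrullDim (Localization.AtPrime (P.under R)) := by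
  let := Localization.AtPrime.algebraOfLiesOver (P.under R) P
  obtain ⟨_, hm⟩ := localization_ff_data h P
  exact ringKrullDim_eq_of_faithfullyFlat hm

theorem isRegularLocalRing_atPrime_iff (P : Ideal S) [P.IsPrime] :
    IsRegularLocalRing (Localization.AtPrime (P.under R)) ↔
      IsRegularLocalRing (Localization.AtPrime P) := by
  let := Localization.AtPrime.algebraOfLiesOver (P.under R) P
  obtain ⟨_, hm⟩ := localization_ff_data h P
  exact isRegularLocalRing_iff_of_map_maximalIdeal hm (ringKrullDim_eq_of_faithfullyFlat hm)

theorem height_eq_height_under (P : Ideal S) [P.IsPrime] : P.height = (P.under R).height := by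
  have := ringKrullDim_atPrime_eq h P
  rw [IsLocalization.AtPrime.ringKrullDim_eq_height P, IsLocalization.AtPrime.ringKrullDim_eq_height (P.under R)] at this
  exact_mod_cast this

theorem mem_associatedPrimes_iff_under (P : Ideal S) [P.IsPrime] :
    P ∈ associatedPrimes S S ↔ P.under R ∈ associatedPrimes R R := by
  rw [mem_associatedPrimes_iff_depth_eq_zero, mem_associatedPrimes_iff_depth_eq_zero,
    depth_atPrime_eq h P]

theorem hasRk_iff [Module.FaithfullyFlat R S] (k : ℕ) :
    LocCoh.HasRk k S ↔ LocCoh.HasRk k R := by
  constructor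
  · intro hS p _ hp
    obtain ⟨⟨P, hP⟩, hPp⟩ := PrimeSpectrum.comap_surjective_of_faithfullyFlat (B := S) ⟨p, ‹_›⟩
    obtain rfl : P.under R = p := congrArg PrimeSpectrum.asIdeal hPp
    exact (isRegularLocalRing_atPrime_iff h P).mpr (hS P ((height_eq_height_under h P).le.trans hp))
  · intro hR P _ hP
    exact (isRegularLocalRing_atPrime_iff h P).mp (hR _ ((height_eq_height_under h P).ge.trans hP))

theorem hasSk_iff [Module.FaithfullyFlat R S] (k : ℕ) :
    LocCoh.HasSk k S S ↔ LocCoh.HasSk k R R := by
  have key : ∀ (P : Ideal S) [P.IsPrime],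
      (min (k : WithBot ℕ∞) (Module.supportDim (Localization.AtPrime P)
          (LocalizedModule P.primeCompl S)) ≤
        ((LocCoh.depth (Localization.AtPrime P) (LocalizedModule P.primeCompl S) : ℕ∞) : WithBot ℕ∞)) ↔
      (min (k : WithBot ℕ∞) (Module.supportDim (Localization.AtPrime (P.under R))
          (LocalizedModule (P.under R).primeCompl R)) ≤
        ((LocCoh.depth (Localization.AtPrime (P.under R))
          (LocalizedModule (P.under R).primeCompl R) : ℕ∞) : WithBot ℕ∞)) := fun P _ ↦ by
    rw [depth_localizedModule_self, supportDim_localizedModule_self, depth_localizedModule_self,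
      supportDim_localizedModule_self, depth_atPrime_eq h P, ringKrullDim_atPrime_eq h P]
  constructor
  · intro hS p _
    obtain ⟨⟨P, hP⟩, hPp⟩ := PrimeSpectrum.comap_surjective_of_faithfullyFlat (B := S) ⟨p, ‹_›⟩
    obtain rfl : P.under R = p := congrArg PrimeSpectrum.asIdeal hPp
    exact (key P).mp (hS P)
  · intro hR P _
    exact (key P).mpr (hR _)

end Groth.Agent.Hensel

namespace Groth.Agent.Hensel

theorem isCohenMacaulayLocalRing_iff {R S : Type u} [CommRing R] [IsLocalRing R] [CommRing S]
    [IsLocalRing S] [Algebra R S] [Module.FaithfullyFlat R S] [IsNoetherianRing R] [IsNoetherianRing S]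
    (hm : (maximalIdeal R).map (algebraMap R S) = maximalIdeal S) :
    LocCoh.IsCohenMacaulayLocalRing S ↔ LocCoh.IsCohenMacaulayLocalRing R := by
  have e1 := Module.supportDim_self_eq_ringKrullDim R
  have e2 := Module.supportDim_self_eq_ringKrullDim S
  have e3 := ringKrullDim_eq_of_faithfullyFlat hm
  have e4 := depth_eq_of_faithfullyFlat hm
  constructor
  · intro hS
    exact ⟨by rw [e1, ← e3, ← e2, ← e4]; exact hS.supportDim_eq_depth⟩
  · intro hR
    exact ⟨by rw [e2, e3, ← e1, e4]; exact hR.supportDim_eq_depth⟩

section henselizations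

variable {R S : Type u} [CommRing R] [IsLocalRing R] [CommRing S] [IsLocalRing S] [Algebra R S]
  [IsLocalHom (algebraMap R S)]

theorem henselization_trivialFibres [Hensel.IsHenselization R S] : TrivialFibres R S := by
  obtain ⟨e⟩ := exists_algEquiv_hens (R := R) (S := S)
  exact trivialFibres_of_algEquiv_hens e

theorem strictHenselization_trivialFibres [Hensel.IsStrictHenselization R S] : TrivialFibres R S := by
  have : IsScalarTower R (ResidueField R) (ResidueField S) := .of_algebraMap_eq fun r ↦ rfl
  obtain ⟨e, -⟩ := exists_algEquiv_hens_strict (R := R) (S := S)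
  exact trivialFibres_of_algEquiv_hens e

end henselizations

end Groth.Agent.Hensel
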