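import Groth.Agent.Hensel.NormalAscent
import Groth.Agent.S7128
import Mathlib.RingTheory.Flat.FaithfullyFlat.Algebra

/-!
# Reducedness and normality of (strict) henselizations
-/

set_option autoImplicit false

universe u

open IsLocalRing

namespace Groth.Agent.Hensel

theorem algebraMap_injective_of_faithfullyFlat (R S : Type u) [CommRing R] [CommRing S] [Algebra R S]
    [Module.FaithfullyFlat R S] : Function.Injective (algebraMap R S) := by
  rw [RingHom.injective_iff_ker_eq_bot, RingHom.ker_eq_comap_bot, ← Ideal.map_bot (f := algebraMap R S)]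
  exact Ideal.comap_map_eq_self_of_faithfullyFlat _

theorem isNormal_of_faithfullyFlat (R S : Type u) [CommRing R] [CommRing S] [Algebra R S]
    [Module.FaithfullyFlat R S] [IsDomain S] [IsIntegrallyClosed S] :
    IsDomain R ∧ IsIntegrallyClosed R := by
  have hinj := algebraMap_injective_of_faithfullyFlat R S
  have : IsDomain R := hinj.isDomain _
  refine ⟨this, (isIntegrallyClosed_iff (FractionRing R)).mpr fun {x} hx ↦ ?_⟩
  obtain ⟨a, b, hb, rfl⟩ := IsFractionRing.div_surjective (A := R) x
  have hcomp : Function.Injective ((algebraMap S (FractionRing S)).comp (algebraMap R S)) :=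
    (IsFractionRing.injective S (FractionRing S)).comp hinj
  obtain ⟨ψ, hψ⟩ : ∃ ψ : FractionRing R →+* FractionRing S, ψ.comp (algebraMap R (FractionRing R)) =
      (algebraMap S (FractionRing S)).comp (algebraMap R S) :=
    ⟨IsLocalization.lift (M := nonZeroDivisors R) (S := FractionRing R)
      (g := (algebraMap S (FractionRing S)).comp (algebraMap R S))
      (fun y ↦ isUnit_iff_ne_zero.mpr ((map_ne_zero_iff _ hcomp).mpr (nonZeroDivisors.ne_zero y.2))),
      IsLocalization.lift_comp _⟩
  have hz : IsIntegral S (ψ (algebraMap R _ a / algebraMap R _ b)) := by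
    obtain ⟨P, hPm, hP⟩ := hx
    refine ⟨P.map (algebraMap R S), hPm.map _, ?_⟩
    rw [Polynomial.eval₂_map, ← hψ, ← Polynomial.hom_eval₂, hP, map_zero]
  obtain ⟨s, hs⟩ := IsIntegrallyClosed.algebraMap_eq_of_integral hz
  have hψ' : ∀ r, ψ (algebraMap R _ r) = algebraMap S _ (algebraMap R S r) := DFunLike.congr_fun hψ
  have hb' : algebraMap S (FractionRing S) (algebraMap R S b) ≠ 0 := by
    rw [map_ne_zero_iff _ (IsFractionRing.injective S _), map_ne_zero_iff _ hinj]
    exact nonZeroDivisors.ne_zero hb
  rw [map_div₀, hψ', hψ', eq_div_iff hb', ← map_mul,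
    (IsFractionRing.injective S (FractionRing S)).eq_iff] at hs
  have hmem : a ∈ Ideal.span {b} := by
    rw [← Ideal.comap_map_eq_self_of_faithfullyFlat (B := S) (Ideal.span {b}), Ideal.mem_comap, ← hs,
      Ideal.map_span, Set.image_singleton]
    exact Ideal.mem_span_singleton'.mpr ⟨s, rfl⟩
  obtain ⟨c, rfl⟩ := Ideal.mem_span_singleton'.mp hmem
  refine ⟨c, ?_⟩
  rw [map_mul, mul_div_assoc, div_self
    ((map_ne_zero_iff _ (IsFractionRing.injective R _)).mpr (nonZeroDivisors.ne_zero hb)), mul_one]

theorem isReduced_of_algEquiv_hens {R K S : Type u} [CommRing R] [CommRing K] [Algebra R K]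
    [CommRing S] [Algebra R S] [IsReduced R] (e : Hens R K ≃ₐ[R] S) : IsReduced S := by
  have : IsReduced (Hens R K) := isReduced_hens fun E _ _ _ ↦ Groth.Agent.S7128.result R E
  exact isReduced_of_injective e.symm e.symm.injective

theorem isNormal_of_algEquiv_hens {R K S : Type u} [CommRing R] [Field K] [Algebra R K]
    [CommRing S] [Algebra R S] [IsDomain R] [IsIntegrallyClosed R] (e : Hens R K ≃ₐ[R] S) :
    IsDomain S ∧ IsIntegrallyClosed S := by
  obtain ⟨_, _⟩ := isDomain_and_isIntegrallyClosed_hens (R := R) (K := K)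
  have : IsDomain S := e.toMulEquiv.isDomain_iff.mp inferInstance
  exact ⟨this, .of_equiv e.toRingEquiv⟩

variable {R S : Type u} [CommRing R] [IsLocalRing R] [CommRing S] [IsLocalRing S] [Algebra R S]
  [IsLocalHom (algebraMap R S)]

theorem henselization_isReduced_iff [Hensel.IsHenselization R S] : IsReduced R ↔ IsReduced S := by
  have := henselization_faithfullyFlat (R := R) (S := S)
  refine ⟨fun _ ↦ ?_, fun _ ↦ isReduced_of_injective _ (algebraMap_injective_of_faithfullyFlat R S)⟩
  obtain ⟨e⟩ := exists_algEquiv_hens (R := R) (S := S)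
  exact isReduced_of_algEquiv_hens e

theorem strictHenselization_isReduced_iff [Hensel.IsStrictHenselization R S] :
    IsReduced R ↔ IsReduced S := by
  have := strictHenselization_faithfullyFlat (R := R) (S := S)
  refine ⟨fun _ ↦ ?_, fun _ ↦ isReduced_of_injective _ (algebraMap_injective_of_faithfullyFlat R S)⟩
  obtain ⟨e, -⟩ := exists_algEquiv_hens_strict (R := R) (S := S)
  exact isReduced_of_algEquiv_hens e

theorem henselization_isNormal_iff [Hensel.IsHenselization R S] :
    (IsDomain R ∧ IsIntegrallyClosed R) ↔ (IsDomain S ∧ IsIntegrallyClosed S) := by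
  have := henselization_faithfullyFlat (R := R) (S := S)
  refine ⟨fun ⟨_, _⟩ ↦ ?_, fun ⟨_, _⟩ ↦ isNormal_of_faithfullyFlat R S⟩
  obtain ⟨e⟩ := exists_algEquiv_hens (R := R) (S := S)
  exact isNormal_of_algEquiv_hens e

theorem strictHenselization_isNormal_iff [Hensel.IsStrictHenselization R S] :
    (IsDomain R ∧ IsIntegrallyClosed R) ↔ (IsDomain S ∧ IsIntegrallyClosed S) := by
  have := strictHenselization_faithfullyFlat (R := R) (S := S)
  refine ⟨fun ⟨_, _⟩ ↦ ?_, fun ⟨_, _⟩ ↦ isNormal_of_faithfullyFlat R S⟩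
  obtain ⟨e, -⟩ := exists_algEquiv_hens_strict (R := R) (S := S)
  exact isNormal_of_algEquiv_hens e

end Groth.Agent.Hensel
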