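import Groth.Agent.Hensel.HenselizationBasic
import Mathlib.RingTheory.Flat.FaithfullyFlat.Algebra
import Mathlib.RingTheory.Flat.Localization
import Mathlib.RingTheory.Ideal.GoingDown

/-!
# Henselizations and strict henselizations of local rings

Existence, uniqueness, and the first properties of `Hensel.IsHenselization` and
`Hensel.IsStrictHenselization`, by comparison with `Hens R K`.
-/

set_option autoImplicit false

universe u

open IsLocalRing

namespace Groth.Agent.Hensel

theorem isSepClosed_of_ringEquiv {k K : Type u} [Field k] [Field K] (e : k ≃+* K) [IsSepClosed k] :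
    IsSepClosed K := by
  refine IsSepClosed.of_exists_root _ fun p hm hi hs ↦ ?_
  have hd : (p.map e.symm.toRingHom).degree ≠ 0 := by
    rw [Polynomial.degree_map]
    exact (Polynomial.degree_pos_of_irreducible hi).ne'
  obtain ⟨x, hx⟩ := IsSepClosed.exists_root _ hd hs.map
  refine ⟨e x, e.symm.injective ?_⟩
  rw [map_zero, ← hx.eq_zero]
  exact (Polynomial.eval_map_apply (f := e.symm.toRingHom) (e x)).symm.trans (by simp)

/-- The point `K` is reached: `K` is separable algebraic over the residue field. -/
theorem π_surjective_of_isSeparable {R K : Type u} [CommRing R] [IsLocalRing R] [Field K] [Algebra R K]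
    [Algebra (ResidueField R) K] [IsScalarTower R (ResidueField R) K]
    [Algebra.IsSeparable (ResidueField R) K] : Function.Surjective (Hens.π R K) := by
  intro a
  have hsep : (minpoly (ResidueField R) a).Separable := Algebra.IsSeparable.isSeparable _ a
  have hint : IsIntegral (ResidueField R) a := Algebra.IsSeparable.isIntegral _ a
  obtain ⟨f, hf, -, hfm⟩ := Polynomial.lifts_and_degree_eq_and_monic
    ((Polynomial.lifts_iff_coeff_lifts _).mpr fun n ↦ residue_surjective _) (minpoly.monic hint)
  let P : StandardEtalePair R := ⟨f, hfm, Polynomial.derivative f, ⟨1, 0, 1, by simp⟩⟩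
  have haev : ∀ g : Polynomial R, Polynomial.aeval a g =
      Polynomial.aeval a (g.map (residue R)) := fun g ↦
    (Polynomial.aeval_map_algebraMap (ResidueField R) a g).symm
  have hP : P.HasMap a := by
    refine ⟨?_, ?_⟩
    · rw [haev, hf, minpoly.aeval]
    · rw [haev, ← Polynomial.derivative_map, hf, isUnit_iff_ne_zero]
      exact hsep.aeval_derivative_ne_zero (minpoly.aeval _ _)
  obtain ⟨φ, hφ⟩ := Hens.exists_algHom P.Ring (P.lift a hP)
  exact ⟨φ P.X, (DFunLike.congr_fun hφ P.X).trans (by simp)⟩

/-! ### Henselization -/

section henselization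

variable {A R : Type u} [CommRing A] [CommRing R] [IsLocalRing R] [Algebra A R]

/-- local maps `R → T` from `A`-algebra maps of residue fields -/
theorem residue_comp_eq {T : Type u} [CommRing T] [IsLocalRing T] (f : R →+* T) [IsLocalHom f] (r : R) :
    ResidueField.map f (residue R r) = residue T (f r) := rfl

theorem algebraMap_residueField_eq (a : A) :
    algebraMap A (ResidueField R) a = residue R (algebraMap A R a) := rfl

variable (p : Ideal A) [p.IsPrime] [IsLocalization.AtPrime R p]

include p in
/-- `Hens A (ResidueField R)` is a henselization of `R = A_p`. -/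
theorem isHenselization_hens :
    ∃ (_ : Algebra R (Hens A (ResidueField R))) (_ : IsLocalHom (algebraMap R (Hens A (ResidueField R))))
      (_ : IsScalarTower A R (Hens A (ResidueField R))),
      Hensel.IsHenselization R (Hens A (ResidueField R)) ∧
      (maximalIdeal R).map (algebraMap R (Hens A (ResidueField R))) =
        maximalIdeal (Hens A (ResidueField R)) ∧
      ∀ r, Hens.π A (ResidueField R) (algebraMap R _ r) = residue R r := by
  set K := ResidueField R
  set H := Hens A K
  have hu : ∀ y : p.primeCompl, IsUnit (algebraMap A H y) := fun y ↦ by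
    refine Hens.isUnit_of_isUnit_π ?_
    rw [AlgHom.commutes, algebraMap_residueField_eq]
    exact (IsLocalization.map_units R y).map _
  let inst : Algebra R H := (IsLocalization.lift (M := p.primeCompl) hu).toAlgebra
  have hT : IsScalarTower A R H := .of_algebraMap_eq fun a ↦ (IsLocalization.lift_eq hu a).symm
  have hπ : ∀ r, Hens.π A K (algebraMap R H r) = residue R r := by
    have : (Hens.π A K).toRingHom.comp (algebraMap R H) = residue R := by
      refine IsLocalization.ringHom_ext p.primeCompl (RingHom.ext fun a ↦ ?_)
      simp only [RingHom.comp_apply, ← IsScalarTower.algebraMap_apply]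
      exact ((Hens.π A K).commutes a).trans (algebraMap_residueField_eq a)
    exact DFunLike.congr_fun this
  have hker : RingHom.ker (algebraMap A K) = p := by
    ext a
    rw [RingHom.mem_ker, algebraMap_residueField_eq, residue_eq_zero_iff,
      IsLocalization.AtPrime.to_map_mem_maximal_iff R p]
  have hmap : (maximalIdeal R).map (algebraMap R H) = maximalIdeal H := by
    rw [maximalIdeal_hens_eq_map, hker, IsScalarTower.algebraMap_eq A R H, ← Ideal.map_map,
      IsLocalization.AtPrime.map_eq_maximalIdeal p R]
  have hloc : IsLocalHom (algebraMap R H) :=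
    ((local_hom_TFAE _).out 2 0 rfl rfl).mp hmap.le
  refine ⟨inst, hloc, hT, ⟨inferInstance, fun T _ _ f hf ↦ ?_⟩, hmap, hπ⟩
  let := (f.comp (algebraMap A R)).toAlgebra
  let ρ : K →ₐ[A] ResidueField T :=
    { toRingHom := ResidueField.map f
      commutes' := fun a ↦ rfl }
  obtain ⟨g, hg, hu⟩ := existsUnique_lift_residue ρ
  refine ⟨g.toRingHom, IsLocalization.ringHom_ext p.primeCompl ?_, fun g' hg' ↦ ?_⟩
  · rw [RingHom.comp_assoc, ← IsScalarTower.algebraMap_eq, AlgHom.toRingHom_eq_coe,
      AlgHom.comp_algebraMap]
    rfl
  · have hc : ∀ a, g' (algebraMap A H a) = algebraMap A T a := fun a ↦ by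
      change g' _ = f (algebraMap A R a)
      rw [← hg', RingHom.comp_apply, ← IsScalarTower.algebraMap_apply]
    let g₁ : H →ₐ[A] T := { toRingHom := g', commutes' := hc }
    refine congrArg AlgHom.toRingHom (hu g₁ fun z ↦ ?_)
    obtain ⟨r, hr⟩ := residue_surjective (Hens.π A K z)
    have hz : z - algebraMap R H r ∈ (maximalIdeal R).map (algebraMap R H) := by
      rw [hmap, maximalIdeal_hens, RingHom.mem_ker, map_sub, sub_eq_zero]
      exact hr.symm.trans (hπ r).symm
    have h1 : g' (z - algebraMap R H r) ∈ maximalIdeal T := by
      have := Ideal.mem_map_of_mem g' hz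
      rw [Ideal.map_map, hg'] at this
      exact map_maximalIdeal_le f this
    rw [← residue_eq_zero_iff, map_sub, map_sub, sub_eq_zero,
      show g' (algebraMap R H r) = f r from DFunLike.congr_fun hg' r] at h1
    rw [← hr]
    exact h1

end henselization

theorem isHenselization_ringHom_ext {R S T : Type u} [CommRing R] [IsLocalRing R] [CommRing S]
    [IsLocalRing S] [Algebra R S] [IsLocalHom (algebraMap R S)] [hS : Hensel.IsHenselization R S]
    [CommRing T] [HenselianLocalRing T] {f g : S →+* T} [IsLocalHom (f.comp (algebraMap R S))]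
    (h : f.comp (algebraMap R S) = g.comp (algebraMap R S)) : f = g :=
  (hS.universal T _ inferInstance).unique rfl h.symm

/-- Uniqueness of the henselization. -/
theorem exists_algEquiv_of_isHenselization {R S S' : Type u} [CommRing R] [IsLocalRing R]
    [CommRing S] [IsLocalRing S] [Algebra R S] [IsLocalHom (algebraMap R S)]
    [hS : Hensel.IsHenselization R S]
    [CommRing S'] [IsLocalRing S'] [Algebra R S'] [IsLocalHom (algebraMap R S')]
    [hS' : Hensel.IsHenselization R S'] :
    Nonempty (S ≃ₐ[R] S') := by
  have := hS.henselian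
  have := hS'.henselian
  obtain ⟨g, hg, -⟩ := hS.universal S' (algebraMap R S') inferInstance
  obtain ⟨g', hg', -⟩ := hS'.universal S (algebraMap R S) inferInstance
  have e1 : (g'.comp g).comp (algebraMap R S) = algebraMap R S := by rw [RingHom.comp_assoc, hg, hg']
  have e2 : (g.comp g').comp (algebraMap R S') = algebraMap R S' := by rw [RingHom.comp_assoc, hg', hg]
  have : IsLocalHom ((g'.comp g).comp (algebraMap R S)) := by rw [e1]; infer_instance
  have : IsLocalHom ((g.comp g').comp (algebraMap R S')) := by rw [e2]; infer_instance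
  have h1 : g'.comp g = RingHom.id S := isHenselization_ringHom_ext (R := R) e1
  have h2 : g.comp g' = RingHom.id S' := isHenselization_ringHom_ext (R := R) e2
  exact ⟨AlgEquiv.ofAlgHom { toRingHom := g, commutes' := DFunLike.congr_fun hg }
    { toRingHom := g', commutes' := DFunLike.congr_fun hg' }
    (AlgHom.ext fun x ↦ DFunLike.congr_fun h2 x) (AlgHom.ext fun x ↦ DFunLike.congr_fun h1 x)⟩

section existence

variable (R : Type u) [CommRing R] [IsLocalRing R]

instance : IsLocalization.AtPrime R (maximalIdeal R) :=
  IsLocalization.self fun x hx ↦ by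
    by_contra h
    exact hx ((mem_maximalIdeal x).mpr h)

theorem map_maximalIdeal_hens {K : Type u} [Field K] [Algebra R K]
    (hK : RingHom.ker (algebraMap R K) = maximalIdeal R) :
    (maximalIdeal R).map (algebraMap R (Hens R K)) = maximalIdeal (Hens R K) := by
  rw [maximalIdeal_hens_eq_map, hK]

theorem ker_algebraMap_residueField :
    RingHom.ker (algebraMap R (ResidueField R)) = maximalIdeal R := ker_residue

instance : IsLocalHom (algebraMap R (Hens R (ResidueField R))) :=
  ((local_hom_TFAE _).out 2 0 rfl rfl).mp
    (map_maximalIdeal_hens R (ker_algebraMap_residueField R)).le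

instance isHenselization_hens_residueField : Hensel.IsHenselization R (Hens R (ResidueField R)) := by
  obtain ⟨inst, hl, hT, h, _, _⟩ := isHenselization_hens (A := R) (R := R) (maximalIdeal R)
  have hi : inst = Hens.instAlgebra :=
    Algebra.algebra_ext _ _ fun r ↦
      (@IsScalarTower.algebraMap_apply R R (Hens R (ResidueField R)) _ _ _ (Algebra.id R) inst
        Hens.instAlgebra hT r).symm
  subst hi
  exact h

end existence

section properties

variable {R S : Type u} [CommRing R] [IsLocalRing R] [CommRing S] [IsLocalRing S] [Algebra R S]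
  [IsLocalHom (algebraMap R S)]

theorem exists_algEquiv_hens [Hensel.IsHenselization R S] :
    Nonempty (Hens R (ResidueField R) ≃ₐ[R] S) :=
  exists_algEquiv_of_isHenselization

theorem henselization_map_maximalIdeal [Hensel.IsHenselization R S] :
    (maximalIdeal R).map (algebraMap R S) = maximalIdeal S := by
  obtain ⟨e⟩ := exists_algEquiv_hens (R := R) (S := S)
  rw [← e.toAlgHom.comp_algebraMap, ← Ideal.map_map,
    map_maximalIdeal_hens R (ker_algebraMap_residueField R)]
  exact IsLocalRing.eq_maximalIdeal (Ideal.map_isMaximal_of_equiv e)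

theorem henselization_residue_surjective [Hensel.IsHenselization R S] (x : S) :
    ∃ r, x - algebraMap R S r ∈ maximalIdeal S := by
  obtain ⟨e⟩ := exists_algEquiv_hens (R := R) (S := S)
  obtain ⟨z, rfl⟩ := e.surjective x
  obtain ⟨r, hr⟩ := eq_algebraMap_add_of_ker (R := R) (K := ResidueField R) residue_surjective z
  refine ⟨r, ?_⟩
  rw [← maximalIdeal_hens, mem_maximalIdeal, mem_nonunits_iff] at hr
  rw [← e.commutes r, ← map_sub, mem_maximalIdeal, mem_nonunits_iff]
  exact fun h ↦ hr ((isUnit_map_iff e _).mp h)

instance henselization_flat [Hensel.IsHenselization R S] : Module.Flat R S := by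
  obtain ⟨e⟩ := exists_algEquiv_hens (R := R) (S := S)
  exact Module.Flat.of_linearEquiv e.symm.toLinearEquiv

theorem henselization_faithfullyFlat [Hensel.IsHenselization R S] : Module.FaithfullyFlat R S :=
  Module.FaithfullyFlat.of_flat_of_isLocalHom

theorem henselization_residueField_bijective [Hensel.IsHenselization R S] :
    Function.Bijective (ResidueField.map (algebraMap R S)) := by
  refine ⟨RingHom.injective _, fun x ↦ ?_⟩
  obtain ⟨x, rfl⟩ := residue_surjective x
  obtain ⟨r, hr⟩ := henselization_residue_surjective (R := R) x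
  refine ⟨residue R r, ?_⟩
  rw [← residue_eq_zero_iff, map_sub, sub_eq_zero] at hr
  exact hr.symm

/-- In a henselization, elements are approximated by elements of `R` modulo powers of `m`. -/
theorem henselization_exists_approx [Hensel.IsHenselization R S] (n : ℕ) (x : S) :
    ∃ r, x - algebraMap R S r ∈ (maximalIdeal R ^ n).map (algebraMap R S) := by
  induction n with
  | zero => exact ⟨0, by simp [Ideal.map_top]⟩
  | succ n ih =>
    obtain ⟨r, hr⟩ := ih
    suffices h : ∀ y ∈ (maximalIdeal R ^ n).map (algebraMap R S),
        ∃ a, y - algebraMap R S a ∈ (maximalIdeal R ^ (n + 1)).map (algebraMap R S) by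
      obtain ⟨a, ha⟩ := h _ hr
      exact ⟨r + a, by rw [map_add, ← sub_sub]; exact ha⟩
    intro y hy
    induction hy using Submodule.span_induction with
    | mem y hy => obtain ⟨a, -, rfl⟩ := hy; exact ⟨a, by simp⟩
    | zero => exact ⟨0, by simp⟩
    | add y z _ _ hy hz =>
      obtain ⟨a, ha⟩ := hy
      obtain ⟨b, hb⟩ := hz
      exact ⟨a + b, by rw [map_add, add_sub_add_comm]; exact add_mem ha hb⟩
    | smul c y hy' hy =>
      obtain ⟨a, ha⟩ := hy
      obtain ⟨s, hs⟩ := henselization_residue_surjective (R := R) c
      refine ⟨s * a, ?_⟩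
      have e : c • y - algebraMap R S (s * a) =
          (c - algebraMap R S s) * y + algebraMap R S s * (y - algebraMap R S a) := by
        rw [smul_eq_mul, map_mul]; ring
      rw [e]
      refine add_mem ?_ (Ideal.mul_mem_left _ _ ha)
      rw [← henselization_map_maximalIdeal (R := R)] at hs
      rw [pow_succ', Ideal.map_mul]
      exact Ideal.mul_mem_mul hs hy'

theorem henselization_quotient_pow_bijective [Hensel.IsHenselization R S] (n : ℕ) :
    Function.Bijective (Ideal.quotientMap ((maximalIdeal R ^ n).map (algebraMap R S)) (algebraMap R S)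
      Ideal.le_comap_map) := by
  have := henselization_faithfullyFlat (R := R) (S := S)
  refine ⟨Ideal.quotientMap_injective' (le_of_eq (Ideal.comap_map_eq_self_of_faithfullyFlat _)),
    fun x ↦ ?_⟩
  obtain ⟨x, rfl⟩ := Ideal.Quotient.mk_surjective x
  obtain ⟨r, hr⟩ := henselization_exists_approx (R := R) n x
  exact ⟨Ideal.Quotient.mk _ r, by rw [Ideal.quotientMap_mk, eq_comm, Ideal.Quotient.eq]; exact hr⟩

end properties

/-! ### Strict henselization -/

section strict

variable {R K : Type u} [CommRing R] [IsLocalRing R] [Field K] [Algebra R K]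
  [Algebra (ResidueField R) K] [IsScalarTower R (ResidueField R) K]

theorem ker_algebraMap_of_tower :
    RingHom.ker (algebraMap R K) = maximalIdeal R := by
  rw [IsScalarTower.algebraMap_eq R (ResidueField R) K,
    RingHom.ker_comp_of_injective _ (RingHom.injective _)]
  exact ker_residue

variable [IsLocalHom (algebraMap R (Hens R K))]

theorem residueFieldHom_comp (z : ResidueField R) :
    residueFieldHom (R := R) (K := K) (ResidueField.map (algebraMap R (Hens R K)) z) =
      algebraMap (ResidueField R) K z := by
  obtain ⟨r, rfl⟩ := residue_surjective z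
  change Hens.π R K (algebraMap R _ r) = _
  rw [AlgHom.commutes, IsScalarTower.algebraMap_apply R (ResidueField R) K]
  rfl

omit [IsLocalHom (algebraMap R (Hens R K))] in
theorem residueFieldHom_bijective [Algebra.IsSeparable (ResidueField R) K] :
    Function.Bijective (residueFieldHom (R := R) (K := K)) := by
  refine ⟨RingHom.injective _, fun a ↦ ?_⟩
  obtain ⟨z, rfl⟩ := π_surjective_of_isSeparable (R := R) a
  exact ⟨residue _ z, rfl⟩

/-- The universal property of the strict henselization. -/
theorem existsUnique_lift_strict [Algebra.IsSeparable (ResidueField R) K]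
    (T : Type u) [CommRing T] [HenselianLocalRing T] (f : R →+* T) [IsLocalHom f]
    (τ : ResidueField (Hens R K) →+* ResidueField T)
    (hτ : τ.comp (ResidueField.map (algebraMap R (Hens R K))) = ResidueField.map f) :
    ∃! g : Hens R K →+* T, g.comp (algebraMap R (Hens R K)) = f ∧
      ∀ x, residue T (g x) = τ (residue _ x) := by
  let := f.toAlgebra
  let e := RingEquiv.ofBijective _ (residueFieldHom_bijective (R := R) (K := K))
  let ρ : K →ₐ[R] ResidueField T :=
    { toRingHom := τ.comp e.symm.toRingHom
      commutes' := fun r ↦ by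
        have : e.symm (algebraMap R K r) = residue _ (algebraMap R (Hens R K) r) := by
          rw [RingEquiv.symm_apply_eq]
          exact ((Hens.π R K).commutes r).symm
        change τ (e.symm (algebraMap R K r)) = _
        rw [this]
        exact DFunLike.congr_fun hτ (residue R r) }
  obtain ⟨g, hg, hu⟩ := existsUnique_lift_residue ρ
  have hρ : ∀ x, ρ (Hens.π R K x) = τ (residue _ x) := fun x ↦
    congrArg τ (e.symm_apply_apply (residue _ x))
  refine ⟨g.toRingHom, ⟨g.comp_algebraMap, fun x ↦ (hg x).trans (hρ x)⟩, fun g' ⟨h1, h2⟩ ↦ ?_⟩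
  let g₁ : Hens R K →ₐ[R] T := { toRingHom := g', commutes' := DFunLike.congr_fun h1 }
  exact congrArg AlgHom.toRingHom (hu g₁ fun z ↦ (h2 z).trans (hρ z).symm)

theorem isStrictHenselization_hens [IsSepClosure (ResidueField R) K] :
    Hensel.IsStrictHenselization R (Hens R K) := by
  have : IsSepClosed K := IsSepClosure.sep_closed (ResidueField R)
  have : Algebra.IsSeparable (ResidueField R) K := IsSepClosure.separable
  refine ⟨inferInstance, ?_, fun T _ _ f _ τ hτ ↦ existsUnique_lift_strict T f τ hτ⟩
  let e : ResidueField (Hens R K) ≃ₐ[ResidueField R] K :=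
    AlgEquiv.ofBijective
      { toRingHom := residueFieldHom, commutes' := residueFieldHom_comp (R := R) (K := K) }
      residueFieldHom_bijective
  exact ⟨isSepClosed_of_ringEquiv e.toRingEquiv.symm, AlgEquiv.Algebra.isSeparable e.symm⟩

end strict

theorem isLocalHom_algebraMap_hens {R K : Type u} [CommRing R] [IsLocalRing R] [Field K] [Algebra R K]
    [Algebra (ResidueField R) K] [IsScalarTower R (ResidueField R) K] :
    IsLocalHom (algebraMap R (Hens R K)) :=
  ((local_hom_TFAE _).out 2 0 rfl rfl).mp
    (map_maximalIdeal_hens R (ker_algebraMap_of_tower (K := K))).le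

theorem exists_isStrictHenselization (R : Type u) [CommRing R] [IsLocalRing R] :
    ∃ (S : Type u) (_ : CommRing S) (_ : IsLocalRing S) (_ : Algebra R S)
      (_ : IsLocalHom (algebraMap R S)), Hensel.IsStrictHenselization R S := by
  let K := SeparableClosure (ResidueField R)
  let : Algebra R K := ((algebraMap (ResidueField R) K).comp (residue R)).toAlgebra
  have : IsScalarTower R (ResidueField R) K := .of_algebraMap_eq' rfl
  have := isLocalHom_algebraMap_hens (R := R) (K := K)
  exact ⟨Hens R K, inferInstance, inferInstance, inferInstance, inferInstance,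
    isStrictHenselization_hens⟩

/-- A strict henselization is `Hens` at its residue field. -/
theorem exists_algEquiv_hens_strict {R S : Type u} [CommRing R] [IsLocalRing R] [CommRing S]
    [IsLocalRing S] [Algebra R S] [IsLocalHom (algebraMap R S)]
    [hS : Hensel.IsStrictHenselization R S] :
    ∃ e : Hens R (ResidueField S) ≃ₐ[R] S, ∀ z, residue S (e z) = Hens.π R (ResidueField S) z := by
  have : IsScalarTower R (ResidueField R) (ResidueField S) := .of_algebraMap_eq fun r ↦ rfl
  have hsep : IsSepClosure (ResidueField R) (ResidueField S) := hS.isSepClosure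
  have : Algebra.IsSeparable (ResidueField R) (ResidueField S) := IsSepClosure.separable
  have := isLocalHom_algebraMap_hens (R := R) (K := ResidueField S)
  have := hS.henselian
  set K := ResidueField S
  let ε := RingEquiv.ofBijective _ (residueFieldHom_bijective (R := R) (K := K))
  obtain ⟨g, ⟨hg, hgres⟩, -⟩ := existsUnique_lift_strict (R := R) (K := K) S (algebraMap R S)
    ε.toRingHom (RingHom.ext (residueFieldHom_comp (R := R) (K := K)))
  obtain ⟨g', ⟨hg', hg'res⟩, -⟩ := hS.universal (Hens R K) (algebraMap R (Hens R K)) ε.symm.toRingHom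
    (RingHom.ext fun z ↦ ε.injective (by
      simp only [RingHom.comp_apply]
      exact (ε.apply_symm_apply _).trans (residueFieldHom_comp z).symm))
  have hu1 := existsUnique_lift_strict (R := R) (K := K) (Hens R K)
    (algebraMap R (Hens R K)) (RingHom.id _) (RingHom.id_comp _)
  have h1 : g'.comp g = RingHom.id _ :=
    hu1.unique ⟨by rw [RingHom.comp_assoc, hg, hg'], fun x ↦ by
      rw [RingHom.comp_apply, hg'res, hgres]; exact ε.symm_apply_apply _⟩
      ⟨RingHom.id_comp _, fun x ↦ rfl⟩
  have hu2 := hS.universal S (algebraMap R S) (RingHom.id _) (RingHom.id_comp _)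
  have h2 : g.comp g' = RingHom.id _ :=
    hu2.unique ⟨by rw [RingHom.comp_assoc, hg', hg], fun x ↦ by
      rw [RingHom.comp_apply, hgres, hg'res]; exact ε.apply_symm_apply _⟩
      ⟨RingHom.id_comp _, fun x ↦ rfl⟩
  exact ⟨AlgEquiv.ofAlgHom { toRingHom := g, commutes' := DFunLike.congr_fun hg }
    { toRingHom := g', commutes' := DFunLike.congr_fun hg' }
    (AlgHom.ext fun x ↦ DFunLike.congr_fun h2 x) (AlgHom.ext fun x ↦ DFunLike.congr_fun h1 x),
    fun z ↦ hgres z⟩

section strictProperties

variable {R S : Type u} [CommRing R] [IsLocalRing R] [CommRing S] [IsLocalRing S] [Algebra R S]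
  [IsLocalHom (algebraMap R S)]

theorem strictHenselization_map_maximalIdeal [Hensel.IsStrictHenselization R S] :
    (maximalIdeal R).map (algebraMap R S) = maximalIdeal S := by
  have : IsScalarTower R (ResidueField R) (ResidueField S) := .of_algebraMap_eq fun r ↦ rfl
  obtain ⟨e, -⟩ := exists_algEquiv_hens_strict (R := R) (S := S)
  rw [← e.toAlgHom.comp_algebraMap, ← Ideal.map_map,
    map_maximalIdeal_hens R (ker_algebraMap_of_tower (K := ResidueField S))]
  exact IsLocalRing.eq_maximalIdeal (Ideal.map_isMaximal_of_equiv e)

instance strictHenselization_flat [Hensel.IsStrictHenselization R S] : Module.Flat R S := by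
  obtain ⟨e, -⟩ := exists_algEquiv_hens_strict (R := R) (S := S)
  exact Module.Flat.of_linearEquiv e.symm.toLinearEquiv

theorem strictHenselization_faithfullyFlat [Hensel.IsStrictHenselization R S] :
    Module.FaithfullyFlat R S :=
  Module.FaithfullyFlat.of_flat_of_isLocalHom

end strictProperties

end Groth.Agent.Hensel
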