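import Groth.Prelude.Def_Hensel
import Groth.Agent.Hensel.Pairs
import Groth.Agent.Hensel.Local
import Groth.Agent.Hensel.Henselization
import Mathlib.RingTheory.LocalRing.ResidueField.Basic

/-!
# Quotients of strict henselizations
-/

set_option autoImplicit false

universe u

open IsLocalRing

namespace Groth.Agent.Hensel

variable {R S : Type u} [CommRing R] [IsLocalRing R] [CommRing S] [IsLocalRing S] [Algebra R S]
  [IsLocalHom (algebraMap R S)]

/-- The strict henselization of `R ⧸ I` is the quotient of that of `R`. -/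
theorem isStrictHenselization_quotient [hS : Hensel.IsStrictHenselization R S] (I : Ideal R)
    [IsLocalRing (R ⧸ I)] [IsLocalRing (S ⧸ I.map (algebraMap R S))]
    [IsLocalHom (algebraMap (R ⧸ I) (S ⧸ I.map (algebraMap R S)))] :
    Hensel.IsStrictHenselization (R ⧸ I) (S ⧸ I.map (algebraMap R S)) := by
  set J := I.map (algebraMap R S)
  have := hS.henselian
  have : HenselianRing S (maximalIdeal S) := henselianLocalRing_iff_henselianRing.mp inferInstance
  have : IsLocalHom (Ideal.Quotient.mk J) := IsLocalHom.of_surjective _ Ideal.Quotient.mk_surjective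
  have : IsLocalHom (Ideal.Quotient.mk I) := IsLocalHom.of_surjective _ Ideal.Quotient.mk_surjective
  let eR : ResidueField R ≃+* ResidueField (R ⧸ I) := RingEquiv.ofBijective
    (ResidueField.map (Ideal.Quotient.mk I)) ⟨RingHom.injective _, fun z => by
      obtain ⟨y, rfl⟩ := residue_surjective z
      obtain ⟨x, rfl⟩ := Ideal.Quotient.mk_surjective y
      exact ⟨residue R x, rfl⟩⟩
  let eS : ResidueField S ≃+* ResidueField (S ⧸ J) := RingEquiv.ofBijective
    (ResidueField.map (Ideal.Quotient.mk J)) ⟨RingHom.injective _, fun z => by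
      obtain ⟨y, rfl⟩ := residue_surjective z
      obtain ⟨x, rfl⟩ := Ideal.Quotient.mk_surjective y
      exact ⟨residue S x, rfl⟩⟩
  have hsq : ∀ r, ResidueField.map (algebraMap (R ⧸ I) (S ⧸ J)) (eR r) =
      eS (ResidueField.map (algebraMap R S) r) := by
    intro r
    obtain ⟨r, rfl⟩ := residue_surjective r
    rfl
  have := hS.isSepClosure
  refine ⟨?_, ⟨?_, ?_⟩, fun T _ _ f hf τ hτ => ?_⟩
  · rw [henselianLocalRing_iff_henselianRing,
      ← IsLocalRing.map_maximalIdeal_of_surjective (Ideal.Quotient.mk J) Ideal.Quotient.mk_surjective]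
    exact henselianRing_quotient J
  · have := hS.isSepClosure.sep_closed
    exact isSepClosed_of_ringEquiv eS
  · have := hS.isSepClosure.separable
    refine Algebra.IsSeparable.of_equiv_equiv eR eS ?_
    exact RingHom.ext hsq
  · let τ' : ResidueField S →+* ResidueField T := τ.comp eS.toRingHom
    have : IsLocalHom (f.comp (Ideal.Quotient.mk I)) := RingHom.isLocalHom_comp _ _
    have hτ' : τ'.comp (ResidueField.map (algebraMap R S)) =
        ResidueField.map (f.comp (Ideal.Quotient.mk I)) := by
      refine RingHom.ext fun x => ?_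
      obtain ⟨r, rfl⟩ := residue_surjective x
      exact (congrArg τ (hsq (residue R r)).symm).trans (DFunLike.congr_fun hτ (eR (residue R r)))
    obtain ⟨g, ⟨hg, hgr⟩, hu⟩ := hS.universal T (f.comp (Ideal.Quotient.mk I)) τ' hτ'
    have hJ : ∀ x ∈ J, g x = 0 := by
      intro x hx
      refine (Ideal.map_le_iff_le_comap (K := RingHom.ker g)).mpr (fun a ha => ?_) hx
      change g (algebraMap R S a) = 0
      rw [show g (algebraMap R S a) = f (Ideal.Quotient.mk I a) from DFunLike.congr_fun hg a,
        Ideal.Quotient.eq_zero_iff_mem.mpr ha, map_zero]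
    refine ⟨Ideal.Quotient.lift J g hJ, ⟨?_, ?_⟩, fun g' ⟨hg', hgr'⟩ => ?_⟩
    · refine Ideal.Quotient.ringHom_ext ?_
      exact hg
    · intro y
      obtain ⟨x, rfl⟩ := Ideal.Quotient.mk_surjective y
      exact hgr x
    · refine Ideal.Quotient.ringHom_ext ?_
      refine hu (g'.comp (Ideal.Quotient.mk J)) ⟨?_, fun x => hgr' (Ideal.Quotient.mk J x)⟩
      rw [RingHom.comp_assoc, ← hg']
      rfl

end Groth.Agent.Hensel
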