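import Groth.Agent.Hensel.Henselization
import Mathlib.AlgebraicGeometry.Morphisms.Etale

/-!
# Henselizations along etale maps with trivial residue extension
-/

set_option autoImplicit false
set_option linter.style.haveILetI false
universe u

open IsLocalRing CategoryTheory AlgebraicGeometry

namespace Groth.Agent.Hensel

/-- A henselization of an etale neighbourhood is a henselization of the base. -/
theorem isHenselization_of_etale {R0 E A A' R : Type u} [CommRing R0] [CommRing E] [Algebra R0 E] [Algebra.Etale R0 E]
    (p : Ideal R0) [p.IsPrime] (q : Ideal E) [q.IsPrime]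
    [CommRing A] [IsLocalRing A] [Algebra R0 A] [IsLocalization.AtPrime A p]
    [CommRing A'] [IsLocalRing A'] [Algebra E A'] [IsLocalization.AtPrime A' q]
    (ι : A →+* A') [IsLocalHom ι] (hι : ∀ r, ι (algebraMap R0 A r) = algebraMap E A' (algebraMap R0 E r))
    (hbij : Function.Bijective (ResidueField.map ι))
    [CommRing R] [IsLocalRing R] [Algebra A' R] [IsLocalHom (algebraMap A' R)]
    [hR : _root_.Hensel.IsHenselization A' R] [Algebra A R] [IsLocalHom (algebraMap A R)]
    (hAR : algebraMap A R = (algebraMap A' R).comp ι) :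
    _root_.Hensel.IsHenselization A R := by
  refine ⟨hR.henselian, fun T _ _ f hf => ?_⟩
  letI : Algebra R0 T := (f.comp (algebraMap R0 A)).toAlgebra
  let κ : ResidueField A' →+* ResidueField T :=
    (ResidueField.map f).comp (RingEquiv.ofBijective _ hbij).symm.toRingHom
  have hκ : ∀ a, κ (residue A' (ι a)) = residue T (f a) := fun a => by
    have h1 : residue A' (ι a) = ResidueField.map ι (residue A a) := rfl
    rw [h1]
    show ResidueField.map f ((RingEquiv.ofBijective _ hbij).symm (ResidueField.map ι (residue A a))) = _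
    rw [show (RingEquiv.ofBijective _ hbij).symm (ResidueField.map ι (residue A a)) = residue A a from
      (RingEquiv.symm_apply_eq _).2 rfl]
    rfl
  let ρ : E →ₐ[R0] T ⧸ maximalIdeal T :=
    { κ.comp ((residue A').comp (algebraMap E A')) with
      commutes' := fun r => by
        show κ (residue A' (algebraMap E A' (algebraMap R0 E r))) = _
        rw [← hι, hκ]
        rfl }
  haveI : HenselianRing T (maximalIdeal T) := henselianLocalRing_iff_henselianRing.mp inferInstance
  obtain ⟨τ, hτ, huniq⟩ := exists_algHom_lift_etale (maximalIdeal T) gabberRoot_of_henselianRing E ρ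
  have hτρ : ∀ z, residue T (τ z) = κ (residue A' (algebraMap E A' z)) := fun z => DFunLike.congr_fun hτ z
  have hu : ∀ y : q.primeCompl, IsUnit (τ y.1) := fun y => by
    rw [← IsLocalRing.notMem_maximalIdeal, ← residue_eq_zero_iff, hτρ, map_eq_zero, residue_eq_zero_iff,
      IsLocalRing.notMem_maximalIdeal]
    exact IsLocalization.map_units A' y
  let f' : A' →+* T := IsLocalization.lift (M := q.primeCompl) hu
  have hf' : ∀ z, f' (algebraMap E A' z) = τ z := fun z => IsLocalization.lift_eq hu z
  have hres : ∀ z, residue T (f' z) = κ (residue A' z) := by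
    have h : (residue T).comp f' = κ.comp (residue A') :=
      IsLocalization.ringHom_ext q.primeCompl (RingHom.ext fun z => by
        show residue T (f' (algebraMap E A' z)) = _
        rw [hf', hτρ]
        rfl)
    exact DFunLike.congr_fun h
  haveI : IsLocalHom f' := ⟨fun z hz => IsLocalRing.notMem_maximalIdeal.1 fun hm => by
    have h1 := hres z
    rw [(residue_eq_zero_iff z).2 hm, map_zero, residue_eq_zero_iff] at h1
    exact h1 hz⟩
  have hf'ι : f'.comp ι = f := IsLocalization.ringHom_ext p.primeCompl (RingHom.ext fun r => by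
    show f' (ι (algebraMap R0 A r)) = f (algebraMap R0 A r)
    rw [hι, hf']
    exact τ.commutes r)
  obtain ⟨g, hg, hgu⟩ := hR.universal T f' inferInstance
  refine ⟨g, show g.comp (algebraMap A R) = f by rw [hAR, ← RingHom.comp_assoc, hg, hf'ι], fun g' hg' => hgu g' ?_⟩
  -- any map restricting to `f` restricts to the lift
  have hcomp : (g'.comp (algebraMap A' R)).comp ι = f := by rw [RingHom.comp_assoc, ← hAR]; exact hg'
  haveI : IsLocalHom (g'.comp (algebraMap A' R)) := ⟨fun z hz => by
    by_contra hn
    obtain ⟨a, ha⟩ := hbij.2 (residue A' z)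
    obtain ⟨a, rfl⟩ := residue_surjective a
    have ha0 : residue A a = 0 := hbij.1 (by rw [map_zero, ha]; exact (residue_eq_zero_iff z).2 hn)
    have hm : z ∈ (maximalIdeal A).map ι := by
      -- `E` is unramified over `R0`
      have hpq : q.LiesOver p := ⟨by
        ext r
        rw [Ideal.under_def, Ideal.mem_comap, ← IsLocalization.AtPrime.to_map_mem_maximal_iff A p r,
          ← IsLocalization.AtPrime.to_map_mem_maximal_iff A' q, ← hι]
        exact (map_mem_nonunits_iff ι _).symm⟩
      haveI := hpq
      letI := Localization.AtPrime.algebraOfLiesOver p q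
      have : Algebra.IsUnramifiedAt R0 q := by
        have : Algebra.FormallyUnramified E (Localization.AtPrime q) := .of_isLocalization q.primeCompl
        exact Algebra.FormallyUnramified.comp R0 E _
      have h2 := ((Algebra.isUnramifiedAt_iff_map_eq R0 p q).mp this).2
      let e : Localization.AtPrime q ≃ₐ[E] A' := IsLocalization.algEquiv q.primeCompl _ _
      obtain ⟨w, rfl⟩ := e.surjective z
      have hw : w ∈ p.map (algebraMap R0 (Localization.AtPrime q)) := by
        rw [h2]
        exact fun h => hn (h.map e)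
      have h3 : (p.map (algebraMap R0 (Localization.AtPrime q))).map e.toRingEquiv.toRingHom ≤ (maximalIdeal A).map ι := by
        rw [Ideal.map_map, Ideal.map_le_iff_le_comap]
        intro r hr
        show e (algebraMap R0 (Localization.AtPrime q) r) ∈ (maximalIdeal A).map ι
        rw [IsScalarTower.algebraMap_apply R0 E (Localization.AtPrime q), e.commutes, ← hι]
        exact Ideal.mem_map_of_mem ι ((IsLocalization.AtPrime.to_map_mem_maximal_iff A p r).2 hr)
      exact h3 (Ideal.mem_map_of_mem _ hw)
    have := Ideal.mem_map_of_mem (g'.comp (algebraMap A' R)) hm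
    rw [Ideal.map_map, hcomp] at this
    exact map_maximalIdeal_le f this hz⟩
  have hκ' : ∀ z, residue T (g' (algebraMap A' R z)) = κ (residue A' z) := fun z => by
    obtain ⟨a, ha⟩ := hbij.2 (residue A' z)
    obtain ⟨a, rfl⟩ := residue_surjective a
    replace ha : residue A' (ι a) = residue A' z := ha
    rw [← ha, hκ, ← DFunLike.congr_fun hcomp a]
    exact congrArg (ResidueField.map (g'.comp (algebraMap A' R))) ha.symm
  refine IsLocalization.ringHom_ext q.primeCompl (RingHom.ext fun z => ?_)
  show g' (algebraMap A' R (algebraMap E A' z)) = f' (algebraMap E A' z)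
  rw [hf']
  let τ' : E →ₐ[R0] T := { (g'.comp (algebraMap A' R)).comp (algebraMap E A') with
    commutes' := fun r => by
      show g' (algebraMap A' R (algebraMap E A' (algebraMap R0 E r))) = _
      rw [← hι]
      exact DFunLike.congr_fun hcomp _ }
  exact DFunLike.congr_fun (huniq τ' (AlgHom.ext fun y => hκ' (algebraMap E A' y))) z

theorem isHenselization_stalkMap {U U' : Scheme.{u}} (g : U' ⟶ U) [Etale g] (u' : U')
    (hbij : Function.Bijective (g.residueFieldMap u').hom)
    (R : Type u) [CommRing R] [IsLocalRing R] [Algebra (U'.presheaf.stalk u') R]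
    [IsLocalHom (algebraMap (U'.presheaf.stalk u') R)] [_root_.Hensel.IsHenselization (U'.presheaf.stalk u') R] :
    letI : Algebra (U.presheaf.stalk (g u')) R :=
      ((algebraMap (U'.presheaf.stalk u') R).comp (g.stalkMap u').hom).toAlgebra
    ∃ (_ : IsLocalHom (algebraMap (U.presheaf.stalk (g u')) R)),
      _root_.Hensel.IsHenselization (U.presheaf.stalk (g u')) R := by
  letI : Algebra (U.presheaf.stalk (g u')) R :=
    ((algebraMap (U'.presheaf.stalk u') R).comp (g.stalkMap u').hom).toAlgebra
  haveI hloc : IsLocalHom (g.stalkMap u').hom := inferInstance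
  haveI hl : IsLocalHom (algebraMap (U.presheaf.stalk (g u')) R) := RingHom.isLocalHom_comp _ _
  refine ⟨hl, ?_⟩
  obtain ⟨_, ⟨V, hV, rfl⟩, hxV, -⟩ := U.isBasis_affineOpens.exists_subset_of_mem_open (Set.mem_univ (g u')) isOpen_univ
  obtain ⟨_, ⟨W, hW, rfl⟩, hvW, hWV⟩ :=
    U'.isBasis_affineOpens.exists_subset_of_mem_open hxV (g ⁻¹ᵁ V).isOpen
  letI := (g.appLE V W hWV).hom.toAlgebra
  haveI : Algebra.Etale Γ(U, V) Γ(U', W) :=
    RingHom.etale_algebraMap.1 (HasRingHomProperty.appLE (P := @Etale) g inferInstance ⟨V, hV⟩ ⟨W, hW⟩ hWV)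
  letI := TopCat.Presheaf.algebra_section_stalk U.presheaf (⟨g u', hxV⟩ : ↥V)
  haveI := hV.isLocalization_stalk ⟨g u', hxV⟩
  letI := TopCat.Presheaf.algebra_section_stalk U'.presheaf (⟨u', hvW⟩ : ↥W)
  haveI := hW.isLocalization_stalk ⟨u', hvW⟩
  refine isHenselization_of_etale (R0 := Γ(U, V)) (E := Γ(U', W)) (hV.primeIdealOf ⟨g u', hxV⟩).asIdeal
    (hW.primeIdealOf ⟨u', hvW⟩).asIdeal (g.stalkMap u').hom (fun r => ?_) hbij rfl
  show g.stalkMap u' (U.presheaf.germ V (g u') hxV r) = U'.presheaf.germ W u' hvW (g.appLE V W hWV r)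
  rw [Scheme.Hom.germ_stalkMap_apply, Scheme.Hom.appLE, CommRingCat.comp_apply, TopCat.Presheaf.germ_res_apply]

end Groth.Agent.Hensel
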