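import Groth.Agent.Hensel.AscentReg

/-!
# Noetherianity, dimension and regularity of (strict) henselizations
-/

set_option autoImplicit false

universe u

open IsLocalRing

namespace Groth.Agent.Hensel

variable {R S : Type u} [CommRing R] [IsLocalRing R] [CommRing S] [IsLocalRing S] [Algebra R S]
  [IsLocalHom (algebraMap R S)]

theorem ker_algebraMap_residueField_strict :
    RingHom.ker (algebraMap R (ResidueField S)) = maximalIdeal R := by
  have : IsScalarTower R (ResidueField R) (ResidueField S) := .of_algebraMap_eq fun r ↦ rfl
  exact ker_algebraMap_of_tower

omit [IsLocalHom (algebraMap R S)] in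
theorem noetherian_transfer {K : Type u} [Field K] [Algebra R K] [IsNoetherianRing R]
    (hK : RingHom.ker (algebraMap R K) = maximalIdeal R) (e : Hens R K ≃ₐ[R] S) : IsNoetherianRing S :=
  have := isNoetherianRing_hens hK
  isNoetherianRing_of_ringEquiv _ e.toRingEquiv

omit [IsLocalHom (algebraMap R S)] in
theorem ringKrullDim_transfer {K : Type u} [Field K] [Algebra R K]
    (hK : RingHom.ker (algebraMap R K) = maximalIdeal R) (e : Hens R K ≃ₐ[R] S) :
    ringKrullDim S = ringKrullDim R :=
  (ringKrullDim_eq_of_ringEquiv e.toRingEquiv).symm.trans (ringKrullDim_hens hK)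

section hens

variable [Hensel.IsHenselization R S]

theorem henselization_isNoetherianRing [IsNoetherianRing R] : IsNoetherianRing S := by
  obtain ⟨e⟩ := exists_algEquiv_hens (R := R) (S := S)
  exact noetherian_transfer (ker_algebraMap_residueField R) e

theorem henselization_isNoetherianRing_iff : IsNoetherianRing R ↔ IsNoetherianRing S :=
  ⟨fun _ ↦ henselization_isNoetherianRing (R := R), fun _ ↦
    have := henselization_faithfullyFlat (R := R) (S := S)
    isNoetherianRing_of_faithfullyFlat R S⟩

theorem henselization_ringKrullDim : ringKrullDim S = ringKrullDim R := by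
  obtain ⟨e⟩ := exists_algEquiv_hens (R := R) (S := S)
  exact ringKrullDim_transfer (ker_algebraMap_residueField R) e

theorem henselization_isRegularLocalRing_iff [IsNoetherianRing R] :
    IsRegularLocalRing R ↔ IsRegularLocalRing S := by
  have := henselization_isNoetherianRing (R := R) (S := S)
  have := henselization_faithfullyFlat (R := R) (S := S)
  exact isRegularLocalRing_iff_of_map_maximalIdeal henselization_map_maximalIdeal
    henselization_ringKrullDim

theorem henselization_dvr_iff [IsNoetherianRing R] :
    (∃ _ : IsDomain R, IsDiscreteValuationRing R) ↔ (∃ _ : IsDomain S, IsDiscreteValuationRing S) := by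
  have := henselization_isNoetherianRing (R := R) (S := S)
  rw [dvr_iff_isRegularLocalRing, dvr_iff_isRegularLocalRing,
    henselization_isRegularLocalRing_iff (R := R) (S := S), henselization_ringKrullDim (R := R) (S := S)]

end hens

section strict

variable [Hensel.IsStrictHenselization R S]

theorem strictHenselization_isNoetherianRing [IsNoetherianRing R] : IsNoetherianRing S := by
  obtain ⟨e, -⟩ := exists_algEquiv_hens_strict (R := R) (S := S)
  exact noetherian_transfer ker_algebraMap_residueField_strict e

theorem strictHenselization_isNoetherianRing_iff : IsNoetherianRing R ↔ IsNoetherianRing S :=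
  ⟨fun _ ↦ strictHenselization_isNoetherianRing (R := R), fun _ ↦
    have := strictHenselization_faithfullyFlat (R := R) (S := S)
    isNoetherianRing_of_faithfullyFlat R S⟩

theorem strictHenselization_ringKrullDim : ringKrullDim S = ringKrullDim R := by
  obtain ⟨e, -⟩ := exists_algEquiv_hens_strict (R := R) (S := S)
  exact ringKrullDim_transfer ker_algebraMap_residueField_strict e

theorem strictHenselization_isRegularLocalRing_iff [IsNoetherianRing R] :
    IsRegularLocalRing R ↔ IsRegularLocalRing S := by
  have := strictHenselization_isNoetherianRing (R := R) (S := S)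
  have := strictHenselization_faithfullyFlat (R := R) (S := S)
  exact isRegularLocalRing_iff_of_map_maximalIdeal strictHenselization_map_maximalIdeal
    strictHenselization_ringKrullDim

theorem strictHenselization_dvr_iff [IsNoetherianRing R] :
    (∃ _ : IsDomain R, IsDiscreteValuationRing R) ↔ (∃ _ : IsDomain S, IsDiscreteValuationRing S) := by
  have := strictHenselization_isNoetherianRing (R := R) (S := S)
  rw [dvr_iff_isRegularLocalRing, dvr_iff_isRegularLocalRing,
    strictHenselization_isRegularLocalRing_iff (R := R) (S := S),
    strictHenselization_ringKrullDim (R := R) (S := S)]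

end strict

end Groth.Agent.Hensel
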