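import Groth.Agent.Hensel.Main
import Groth.Agent.Hensel.Jacobian
import Mathlib.RingTheory.Smooth.Basic
import Mathlib.RingTheory.Idempotents
import Mathlib.LinearAlgebra.Matrix.Charpoly.Coeff
import Mathlib.RingTheory.FinitePresentation

/-! Lifting idempotent matrices and points of smooth algebras along henselian pairs. -/

set_option autoImplicit false

universe u v w

namespace Groth.Agent.Hensel

open MvPolynomial
open scoped Matrix

variable {A : Type u} [CommRing A] {I : Ideal A}

theorem exists_idem_matrix_lift (h : GabberRoot A I) {n : ℕ} (E₀ : Matrix (Fin n) (Fin n) A)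
    (h₀ : ∀ i j, (E₀ * E₀ - E₀) i j ∈ I) :
    ∃ E : Matrix (Fin n) (Fin n) A, IsIdempotentElem E ∧ ∀ i j, (E - E₀) i j ∈ I := by
  classical
  cases subsingleton_or_nontrivial A
  · exact ⟨E₀, Subsingleton.elim _ _, fun i j => by simp⟩
  let φ₀ : Polynomial A →ₐ[A] Matrix (Fin n) (Fin n) A := Polynomial.aeval E₀
  let K : Ideal (Polynomial A) := RingHom.ker φ₀
  let B := Polynomial A ⧸ K
  let _ : CommRing B := Ideal.Quotient.commRing K
  let φ : (Polynomial A ⧸ K) →ₐ[A] Matrix (Fin n) (Fin n) A := Ideal.kerLiftAlg φ₀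
  have hφ : Function.Injective φ := Ideal.kerLiftAlg_injective φ₀
  have : Module.Finite A B := by
    let q : AdjoinRoot E₀.charpoly →ₐ[A] B := Ideal.Quotient.factorₐ A
      ((Ideal.span_singleton_le_iff_mem _).mpr (Matrix.aeval_self_charpoly E₀))
    have : Module.Finite A (AdjoinRoot E₀.charpoly) := E₀.charpoly_monic.finite_adjoinRoot
    exact Module.Finite.of_surjective q.toLinearMap
      (Ideal.Quotient.factor_surjective ((Ideal.span_singleton_le_iff_mem _).mpr (Matrix.aeval_self_charpoly E₀)))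
  let b : B := Ideal.Quotient.mk _ Polynomial.X
  have hb : φ b = E₀ := Polynomial.aeval_X E₀
  have hnil : ∀ c : B, (∀ i j, φ c i j ∈ I) → c ^ n ∈ I.map (algebraMap A B) := fun c hc => by
    have hC : Polynomial.aeval c (φ c).charpoly = 0 :=
      hφ (by rw [map_zero, ← Polynomial.aeval_algHom_apply, Matrix.aeval_self_charpoly])
    have h2 : (φ c).charpoly.map (Ideal.Quotient.mk I) = Polynomial.X ^ n := by
      rw [← Matrix.charpoly_map, show (φ c).map (Ideal.Quotient.mk I) = 0 from
        Matrix.ext fun i j => Ideal.Quotient.eq_zero_iff_mem.mpr (hc i j), Matrix.charpoly_zero,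
        Fintype.card_fin]
    rw [Polynomial.aeval_eq_sum_range, Matrix.charpoly_natDegree_eq_dim, Fintype.card_fin,
      Finset.sum_range_succ] at hC
    have hlead : (φ c).charpoly.coeff n = 1 := by
      have := (φ c).charpoly_monic.coeff_natDegree
      rwa [Matrix.charpoly_natDegree_eq_dim, Fintype.card_fin] at this
    rw [hlead, one_smul] at hC
    rw [eq_neg_of_add_eq_zero_right hC]
    refine neg_mem (Ideal.sum_mem _ fun k hk => ?_)
    rw [Algebra.smul_def]
    refine Ideal.mul_mem_right _ _ (Ideal.mem_map_of_mem _ ?_)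
    have := congrArg (fun p => Polynomial.coeff p k) h2
    simp only [Polynomial.coeff_map, Polynomial.coeff_X_pow, (Finset.mem_range.mp hk).ne,
      if_false] at this
    exact Ideal.Quotient.eq_zero_iff_mem.mp this
  let x : B ⧸ I.map (algebraMap A B) := Ideal.Quotient.mk _ (b * b - b)
  have hx : x ^ n = 0 := by
    rw [← map_pow, Ideal.Quotient.eq_zero_iff_mem]
    exact hnil _ fun i j => by rw [map_sub, map_mul, hb]; exact h₀ i j
  obtain ⟨y, hy, hy'⟩ := exists_isIdempotentElem_eq_of_ker_isNilpotent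
    (Ideal.Quotient.mk (Ideal.span {x})) (fun z hz => by
      rw [Ideal.mk_ker, Ideal.mem_span_singleton] at hz
      obtain ⟨w, rfl⟩ := hz
      exact ⟨n, by rw [mul_pow, hx, zero_mul]⟩)
    (Ideal.Quotient.mk _ (Ideal.Quotient.mk _ b)) ⟨_, rfl⟩
    (Ideal.Quotient.eq.mpr (by
      simp only [← map_mul, ← map_sub]; exact Ideal.mem_span_singleton_self x))
  obtain ⟨b', rfl⟩ := Ideal.Quotient.mk_surjective y
  obtain ⟨e, he, heb⟩ := exists_idem_lift_of_finite h b'
    (Ideal.Quotient.eq.mp ((map_mul _ _ _).trans hy))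
  refine ⟨φ e, he.map φ, ?_⟩
  have hmap : ∀ c ∈ I.map (algebraMap A B), ∀ i j, φ c i j ∈ I := fun c hc => by
    induction hc using Submodule.span_induction with
    | mem z hz =>
      obtain ⟨r, hr, rfl⟩ := hz
      intro i j
      rw [φ.commutes, Matrix.algebraMap_matrix_apply]
      split_ifs
      · exact hr
      · exact I.zero_mem
    | zero => intro i j; rw [map_zero]; exact I.zero_mem
    | add u v _ _ hu hv => intro i j; rw [map_add]; exact I.add_mem (hu i j) (hv i j)
    | smul r u _ hu =>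
      intro i j
      rw [smul_eq_mul, map_mul, Matrix.mul_apply]
      exact Ideal.sum_mem _ fun k _ => I.mul_mem_left _ (hu k j)
  intro i j
  obtain ⟨w, hw⟩ := Ideal.mem_span_singleton.mp (Ideal.Quotient.eq.mp hy')
  obtain ⟨w', rfl⟩ := Ideal.Quotient.mk_surjective w
  rw [← map_sub, ← map_mul, Ideal.Quotient.eq] at hw
  have h3 : φ e - E₀ = φ (e - b') + (φ (b' - b - (b * b - b) * w') + (E₀ * E₀ - E₀) * φ w') := by
    simp only [map_sub, map_mul, hb]
    abel
  rw [h3, Matrix.add_apply, Matrix.add_apply, Matrix.mul_apply]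
  exact I.add_mem (hmap _ heb i j)
    (I.add_mem (hmap _ hw i j) (Ideal.sum_mem _ fun k _ => I.mul_mem_right _ (h₀ i k)))

/-- A point modulo `I` of a smooth algebra lifts along a henselian pair. -/
theorem exists_algHom_lift_of_smooth [HenselianRing A I] {R : Type v} [CommRing R] [Algebra R A]
    {S : Type w} [CommRing S] [Algebra R S] [Algebra.Smooth R S] (σ : S →ₐ[R] A ⧸ I) :
    ∃ τ : S →ₐ[R] A, (Ideal.Quotient.mkₐ R I).comp τ = σ := by
  classical
  have h : GabberRoot A I := gabberRoot_of_henselianRing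
  obtain ⟨n, f, hf, hfg⟩ := Algebra.FinitePresentation.out (R := R) (A := S)
  replace hfg : (RingHom.ker f).FG := hfg
  let J := RingHom.ker f
  let fbar : ((MvPolynomial (Fin n) R) ⧸ J ^ 2) →ₐ[R] S := Ideal.Quotient.liftₐ _ f fun p hp => Ideal.pow_le_self two_ne_zero hp
  have hfbar : Function.Surjective fbar := fun y => by
    obtain ⟨p, rfl⟩ := hf y
    exact ⟨Ideal.Quotient.mk _ p, rfl⟩
  have hnil : IsNilpotent (RingHom.ker fbar.toRingHom) := by
    refine ⟨2, le_bot_iff.mp ?_⟩
    have hle : RingHom.ker fbar.toRingHom ≤ J.map (Ideal.Quotient.mk (J ^ 2)) := fun z hz => by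
      obtain ⟨p, rfl⟩ := Ideal.Quotient.mk_surjective z
      exact Ideal.mem_map_of_mem _ hz
    refine (Ideal.pow_right_mono hle 2).trans ?_
    rw [← Ideal.map_pow, Ideal.map_quotient_self]
  let s := Algebra.FormallySmooth.liftOfSurjective (AlgHom.id R S) fbar hfbar hnil
  have hs : ∀ y, fbar (s y) = y :=
    Algebra.FormallySmooth.liftOfSurjective_apply (AlgHom.id R S) fbar hfbar hnil
  choose q hq using fun i => Ideal.Quotient.mk_surjective (s (f (X i)))
  let hh : Fin n → (MvPolynomial (Fin n) R) := fun i => X i - q i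
  have hhJ : ∀ i, hh i ∈ J := fun i => by
    rw [RingHom.mem_ker, map_sub, sub_eq_zero]
    exact ((congrArg fbar (hq i)).trans (hs _)).symm
  have hφ : ∀ p : (MvPolynomial (Fin n) R), Ideal.Quotient.mk (J ^ 2) (aeval q p) = s (f p) := fun p => by
    have : (Ideal.Quotient.mkₐ R (J ^ 2)).comp (aeval q) = s.comp f := algHom_ext fun i => by
      simp [hq i]
    exact AlgHom.congr_fun this p
  have hJ2 : ∀ i j, hh i * hh j ∈ J ^ 2 := fun i j => pow_two J ▸ Ideal.mul_mem_mul (hhJ i) (hhJ j)
  have htaylor : ∀ p : (MvPolynomial (Fin n) R), aeval q p - (p - ∑ i, pderiv i p * hh i) ∈ J ^ 2 := fun p => by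
    induction p using MvPolynomial.induction_on with
    | C r =>
      rw [aeval_C, MvPolynomial.algebraMap_eq]
      simp
    | add p p' hp hp' =>
      convert (J ^ 2).add_mem hp hp' using 1
      simp only [map_add, add_mul, Finset.sum_add_distrib]
      ring
    | mul_X p k hp =>
      have h1 : ∑ i, pderiv i (p * X k) * hh i = (∑ i, pderiv i p * hh i) * X k + p * hh k := by
        rw [Finset.sum_mul, show p * hh k = ∑ i, p * pderiv i (X k) * hh i by
          simp [pderiv_X, Pi.single_apply], ← Finset.sum_add_distrib]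
        exact Finset.sum_congr rfl fun i _ => by rw [pderiv_mul]; ring
      have h2 : aeval q (p * X k) - (p * X k - ∑ i, pderiv i (p * X k) * hh i)
          = (aeval q p - (p - ∑ i, pderiv i p * hh i)) * q k + (∑ i, pderiv i p * hh i) * hh k := by
        rw [h1, map_mul, aeval_X]
        simp only [hh]
        ring
      rw [h2]
      refine (J ^ 2).add_mem ((J ^ 2).mul_mem_right _ hp) ?_
      rw [Finset.sum_mul]
      exact Ideal.sum_mem _ fun i _ => by rw [mul_assoc]; exact (J ^ 2).mul_mem_left _ (hJ2 i k)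
  have hkey : ∀ p ∈ J, p - ∑ i, pderiv i p * hh i ∈ J ^ 2 := fun p hp => by
    have h1 : aeval q p ∈ J ^ 2 := by
      rw [← Ideal.Quotient.eq_zero_iff_mem, hφ, RingHom.mem_ker.mp hp, map_zero]
    have := (J ^ 2).sub_mem h1 (htaylor p)
    rwa [sub_sub_cancel] at this
  have hpd2 : ∀ p ∈ J ^ 2, ∀ k, pderiv k p ∈ J := fun p hp k => by
    rw [pow_two] at hp
    refine Submodule.mul_induction_on hp (fun a ha b hb => ?_) (fun a b ha hb => ?_)
    · rw [pderiv_mul]
      exact J.add_mem (J.mul_mem_left _ hb) (J.mul_mem_right _ ha)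
    · rw [map_add]; exact J.add_mem ha hb
  choose a ha using fun i => Ideal.Quotient.mk_surjective (σ (f (X i)))
  have hev : ∀ p : (MvPolynomial (Fin n) R), Ideal.Quotient.mk I (aeval a p) = σ (f p) := fun p => by
    have : (Ideal.Quotient.mkₐ R I).comp (aeval a) = σ.comp f := algHom_ext fun i => by simp [ha i]
    exact AlgHom.congr_fun this p
  have hevJ : ∀ p ∈ J, aeval a p ∈ I := fun p hp => by
    rw [← Ideal.Quotient.eq_zero_iff_mem, hev, RingHom.mem_ker.mp hp, map_zero]
  let E₀ : Matrix (Fin n) (Fin n) A := Matrix.of fun j i => aeval a (pderiv i (hh j))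
  have hE₀ : ∀ j k, (E₀ * E₀ - E₀) j k ∈ I := fun j k => by
    have h1 := hpd2 _ (hkey _ (hhJ j)) k
    rw [map_sub, map_sum] at h1
    simp only [pderiv_mul, Finset.sum_add_distrib] at h1
    have h2 : ∑ i, pderiv k (pderiv i (hh j)) * hh i ∈ J :=
      Ideal.sum_mem _ fun i _ => J.mul_mem_left _ (hhJ i)
    have h3 := hevJ _ (J.add_mem h1 h2)
    simp only [map_add, map_sub, map_sum, map_mul] at h3
    have : (E₀ * E₀ - E₀) j k = - (aeval a (pderiv k (hh j))
        - ∑ i, aeval a (pderiv i (hh j)) * aeval a (pderiv k (hh i))) := by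
      rw [Matrix.sub_apply, Matrix.mul_apply]
      simp only [E₀, Matrix.of_apply]
      ring
    rw [this]
    refine neg_mem ?_
    convert h3 using 1
    ring
  obtain ⟨E, hE, hEI⟩ := exists_idem_matrix_lift h E₀ hE₀
  let T := algebraMap R A
  let F : Fin n → MvPolynomial (Fin n) A := fun i =>
    (∑ j, C (E i j) * MvPolynomial.map T (hh j)) +
      ∑ j, C ((1 - E) i j) * (X j - C (a j))
  have heval : ∀ (z : Fin n → A) (p : (MvPolynomial (Fin n) R)), eval z (MvPolynomial.map T p) = aeval z p := fun z p => by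
    rw [eval_map, aeval_def]
  have hF : ∀ z i, eval z (F i) = (E *ᵥ fun j => aeval z (hh j)) i + ((1 - E) *ᵥ fun j => z j - a j) i := by
    intro z i
    simp only [F, map_add, map_sum, map_mul, eval_C, map_sub, eval_X, heval]
    rfl
  have hF0 : ∀ i, eval a (F i) ∈ I := fun i => by
    rw [hF]
    simp only [Matrix.mulVec, dotProduct, sub_self, mul_zero, Finset.sum_const_zero, add_zero]
    exact Ideal.sum_mem _ fun j _ => I.mul_mem_left _ (hevJ _ (hhJ j))
  have hpd : ∀ i k, eval a (pderiv k (F i)) = (E * E₀) i k + (1 - E) i k := fun i k => by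
    simp [F, Matrix.mul_apply, E₀, pderiv_map, heval, pderiv_X, Pi.single_apply]
  have hdet : IsUnit (Ideal.Quotient.mk I
      (Matrix.of (fun i k => eval a (pderiv k (F i)))).det) := by
    have hmk : E₀.map (Ideal.Quotient.mk I) = E.map (Ideal.Quotient.mk I) := by
      ext i j
      exact (Ideal.Quotient.eq.mpr (hEI i j)).symm
    have : (Matrix.of (fun i k => eval a (pderiv k (F i)))).map (Ideal.Quotient.mk I) = 1 := by
      have h1 : Matrix.of (fun i k => eval a (pderiv k (F i))) = E * E₀ + (1 - E) := by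
        ext i k; exact hpd i k
      rw [h1, Matrix.map_add _ (map_add _), Matrix.map_mul, hmk, ← Matrix.map_mul,
        ← Matrix.map_add _ (map_add _), hE.eq, add_sub_cancel, Matrix.map_one _ (map_zero _) (map_one _)]
    rw [RingHom.map_det, RingHom.mapMatrix_apply, this, Matrix.det_one]
    exact isUnit_one
  obtain ⟨z, hz, hza⟩ := exists_common_zero_of_isUnit_jacobian h F a hF0 hdet
  have hmk : ∀ p : (MvPolynomial (Fin n) R), Ideal.Quotient.mk I (aeval z p) = σ (f p) := fun p => by
    rw [← hev]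
    have : (Ideal.Quotient.mkₐ R I).comp (aeval z) = (Ideal.Quotient.mkₐ R I).comp (aeval a) :=
      algHom_ext fun i => by simpa using Ideal.Quotient.eq.mpr (hza i)
    exact AlgHom.congr_fun this p
  let W : Ideal A := J.map (aeval z : (MvPolynomial (Fin n) R) →ₐ[R] A)
  have hWfg : W.FG := Ideal.FG.map hfg _
  have hWI : W ≤ I := Ideal.map_le_iff_le_comap.mpr fun p hp => by
    rw [Ideal.mem_comap, ← Ideal.Quotient.eq_zero_iff_mem, hmk, RingHom.mem_ker.mp hp, map_zero]
  let v : Fin n → A := fun j => aeval z (hh j)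
  let V : Ideal A := Ideal.span (Set.range v)
  have hW2 : ∀ p ∈ J ^ 2, aeval z p ∈ W * W := fun p hp => by
    have := Ideal.mem_map_of_mem (aeval z : (MvPolynomial (Fin n) R) →ₐ[R] A) hp
    rwa [pow_two, Ideal.map_mul] at this
  have hWV : W ≤ V := by
    refine Submodule.le_of_le_smul_of_le_jacobson_bot hWfg (hWI.trans h.jac)
      (Ideal.map_le_iff_le_comap.mpr fun p hp => ?_)
    rw [Ideal.mem_comap]
    have h1 := hW2 _ (hkey p hp)
    rw [map_sub, map_sum] at h1
    refine Submodule.mem_sup.mpr ⟨_, ?_, _, h1, add_sub_cancel _ _⟩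
    refine Ideal.sum_mem _ fun i _ => ?_
    rw [map_mul]
    exact V.mul_mem_left _ (Ideal.subset_span ⟨i, rfl⟩)
  have hVI : V ≤ I := Ideal.span_le.mpr (by
    rintro _ ⟨i, rfl⟩; exact hWI (Ideal.mem_map_of_mem _ (hhJ i)))
  have hEv : E *ᵥ v = 0 := by
    have h0 : E *ᵥ v + (1 - E) *ᵥ (fun j => z j - a j) = 0 := funext fun i => by
      rw [Pi.add_apply, ← hF z i]; exact hz i
    have := congrArg (fun w => E *ᵥ w) h0
    simpa [Matrix.mulVec_add, Matrix.mulVec_mulVec, hE.eq, mul_sub] using this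
  have hV : V = ⊥ := by
    refine Submodule.eq_bot_of_le_smul_of_le_jacobson_bot I V
      (Submodule.fg_span (Set.finite_range v)) (Ideal.span_le.mpr ?_) h.jac
    rintro _ ⟨j, rfl⟩
    have h1 : v j - ∑ i, aeval z (pderiv i (hh j)) * v i ∈ I • V := by
      have h1 := hW2 _ (hkey _ (hhJ j))
      rw [map_sub, map_sum] at h1
      simp only [map_mul] at h1
      exact Ideal.mul_mono (hWV.trans hVI) hWV h1
    have h2 : ∑ i, aeval z (pderiv i (hh j)) * v i ∈ I • V := by
      have : ∑ i, aeval z (pderiv i (hh j)) * v i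
          = ∑ i, (aeval z (pderiv i (hh j)) - E j i) * v i := by
        simp only [sub_mul, Finset.sum_sub_distrib]
        rw [show ∑ i, E j i * v i = (E *ᵥ v) j from rfl, hEv, Pi.zero_apply, sub_zero]
      rw [this]
      refine Ideal.sum_mem _ fun i _ => Ideal.mul_mem_mul ?_ (Ideal.subset_span ⟨i, rfl⟩)
      rw [← Ideal.Quotient.eq, hmk, ← hev]
      exact (Ideal.Quotient.eq.mpr (hEI j i)).symm
    have := Submodule.add_mem _ h1 h2
    rwa [sub_add_cancel] at this
  have hker : ∀ p ∈ RingHom.ker f, aeval z p = 0 := fun p hp =>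
    (Submodule.mem_bot A).mp (hV ▸ hWV (Ideal.mem_map_of_mem _ hp))
  let τ : S →ₐ[R] A := (Ideal.Quotient.liftₐ (RingHom.ker f) (aeval z) hker).comp
    (Ideal.quotientKerAlgEquivOfSurjective hf).symm.toAlgHom
  refine ⟨τ, AlgHom.ext fun y => ?_⟩
  obtain ⟨p, rfl⟩ := hf y
  have : (Ideal.quotientKerAlgEquivOfSurjective hf).symm (f p) = Ideal.Quotient.mk _ p := by
    rw [AlgEquiv.symm_apply_eq]; rfl
  simp only [τ, AlgHom.comp_apply, AlgEquiv.coe_toAlgHom, this]
  exact hmk p

end Groth.Agent.Hensel
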