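import Mathlib
import Groth.Agent.CAlgEtLift.Proj
import Groth.Agent.Smoothing.Retract
import Groth.Agent.Smoothing.StandardLift

/-!
Smooth algebras over a quotient ring lift to smooth algebras (Elkik).
-/

set_option autoImplicit false
universe u

namespace Groth.Agent.Hensel.SmoothModel

open Matrix

/-- An idempotent matrix lifts to an étale neighbourhood. -/
theorem exists_etale_lift_idem_matrix {A : Type u} [CommRing A] (I : Ideal A) {n : ℕ}
    (e₀ : Matrix (Fin n) (Fin n) (A ⧸ I)) (he₀ : IsIdempotentElem e₀) :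
    ∃ (E : Type u) (_ : CommRing E) (_ : Algebra A E) (σ : E →ₐ[A] A ⧸ I), Algebra.Etale A E ∧
      Function.Surjective σ ∧ RingHom.ker σ.toRingHom = I.map (algebraMap A E) ∧
      ∃ M : Matrix (Fin n) (Fin n) E, IsIdempotentElem M ∧ M.map σ = e₀ := by
  classical
  choose a ha using fun i j => Ideal.Quotient.mk_surjective (e₀ i j)
  let H := Hens A (A ⧸ I)
  let π := (Hens.π A (A ⧸ I)).toRingHom
  let E₀ : Matrix (Fin n) (Fin n) H := Matrix.of fun i j => algebraMap A H (a i j)
  have hE₀ : E₀.map π = e₀ := by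
    ext i j
    exact ((Hens.π A (A ⧸ I)).commutes (a i j)).trans (ha i j)
  have hker : RingHom.ker π = I.map (algebraMap A H) := Hens.ker_π_quotient A I
  obtain ⟨M, hM, hMd⟩ := exists_idem_matrix_lift (Groth.Agent.CAlgEtLift.gabberRoot_hens A I) E₀ fun i j => by
    rw [← hker, RingHom.mem_ker]
    have := congrArg (fun m => m i j) (show (E₀ * E₀ - E₀).map π = 0 by
      rw [Matrix.map_sub π (map_sub π), Matrix.map_mul, hE₀, he₀.eq, sub_self])
    simpa using this
  have hMπ : M.map π = e₀ := by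
    ext i j
    have := hMd i j
    rw [← hker, RingHom.mem_ker, Matrix.sub_apply, map_sub, sub_eq_zero] at this
    rw [Matrix.map_apply, this]
    exact congrArg (fun m => m i j) hE₀
  obtain ⟨X, c, hc⟩ := Hens.exists_rep_fintype (fun p : Fin n × Fin n => M p.1 p.2)
  let N : Matrix (Fin n) (Fin n) X.carrier := Matrix.of fun i j => c (i, j)
  have hN : N.map (Hens.of X).toRingHom = M := by
    ext i j
    exact hc (i, j)
  obtain ⟨Y, e, he⟩ := Groth.Agent.CAlgEtLift.exists_stage_zero Finset.univ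
    (fun p : Fin n × Fin n => (N * N - N) p.1 p.2) fun p _ => by
      have := congrArg (fun m => m p.1 p.2) (show (N * N - N).map (Hens.of X).toRingHom = 0 by
        rw [Matrix.map_sub _ (map_sub _), Matrix.map_mul, hN, hM.eq, sub_self])
      simpa using this
  obtain ⟨E, _, _, het, σ, ψ, hE, hψ⟩ := exists_trivial_nbhd Y
  let θ : X.carrier →ₐ[A] E := ψ.comp e.1
  refine ⟨E, inferInstance, inferInstance, σ, het, ?_, ?_, N.map θ.toRingHom, ?_, ?_⟩
  · intro x
    obtain ⟨a, rfl⟩ := Ideal.Quotient.mk_surjective x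
    exact ⟨algebraMap A E a, σ.commutes a⟩
  · refine le_antisymm (fun x hx => ?_) (Ideal.map_le_iff_le_comap.2 fun i hi => ?_)
    · rw [← Ideal.Quotient.eq_zero_iff_mem, Groth.Agent.CAlgEtLift.mk_eq_point hE σ x,
        show σ x = 0 from hx, map_zero]
    · rw [Ideal.mem_comap, RingHom.mem_ker]
      exact (σ.commutes i).trans (Ideal.Quotient.eq_zero_iff_mem.2 hi)
  · change _ * _ = _
    rw [← sub_eq_zero, ← Matrix.map_mul, ← Matrix.map_sub _ (map_sub _)]
    ext i j
    show ψ (e.1 ((N * N - N) i j)) = 0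
    rw [he (i, j) (Finset.mem_univ _), map_zero]
  · rw [← hMπ, ← hN]
    ext i j
    show σ (ψ (e.1 (N i j))) = Hens.π A (A ⧸ I) (Hens.of X (N i j))
    rw [hψ, Hens.π_of, Nbhd.pt_hom]

/-- A quotient of a smooth algebra by an ideal generated by a vector fixed by an idempotent matrix whose
differentials are independent is smooth. -/
theorem smooth_quotient_of_idem {A P : Type u} [CommRing A] [CommRing P] [Algebra A P] [Algebra.Smooth A P]
    {n : ℕ} (E : Matrix (Fin n) (Fin n) P) (hE : IsIdempotentElem E) (g : Fin n → P) (hg : E *ᵥ g = g)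
    (c : Derivation A P (Fin n → P))
    (hN : IsUnit (E * Matrix.of (fun j i => c (g j) i) * E + (1 - E))) :
    Algebra.Smooth A (P ⧸ Ideal.span (Set.range g)) := by
  classical
  let J := Ideal.span (Set.range g)
  haveI : Algebra.FinitePresentation A (P ⧸ J) :=
    Algebra.FinitePresentation.quotient (Submodule.fg_span (Set.finite_range g))
  suffices Algebra.FormallySmooth A (P ⧸ J) from ⟨this, inferInstance⟩
  let M : Matrix (Fin n) (Fin n) P := Matrix.of fun j i => c (g j) i
  obtain ⟨U, hU⟩ := hN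
  let γ : Fin n → P := ((U⁻¹ : (Matrix (Fin n) (Fin n) P)ˣ) : Matrix (Fin n) (Fin n) P) *ᵥ g
  have hUg : (U : Matrix (Fin n) (Fin n) P) *ᵥ γ = g := by
    simp only [γ, Matrix.mulVec_mulVec, Units.mul_inv, Matrix.one_mulVec]
  have hcomm : E * (U : Matrix (Fin n) (Fin n) P) = (U : Matrix (Fin n) (Fin n) P) * E := by
    rw [hU, mul_add, add_mul, mul_sub, sub_mul, mul_one, one_mul, ← mul_assoc, ← mul_assoc, hE.eq, mul_assoc (E * M), hE.eq]
  have hEγ : E *ᵥ γ = γ := by
    have h : E * ((U⁻¹ : (Matrix (Fin n) (Fin n) P)ˣ) : Matrix (Fin n) (Fin n) P) =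
        ((U⁻¹ : (Matrix (Fin n) (Fin n) P)ˣ) : Matrix (Fin n) (Fin n) P) * E :=
      Commute.units_inv_right hcomm
    simp only [γ, Matrix.mulVec_mulVec, h]
    rw [← Matrix.mulVec_mulVec, hg]
  have hEMγ : E *ᵥ (M *ᵥ γ) = g := by
    calc E *ᵥ (M *ᵥ γ) = (E * M * E) *ᵥ γ := by rw [← Matrix.mulVec_mulVec γ (E * M) E, hEγ, Matrix.mulVec_mulVec]
      _ = (U : Matrix (Fin n) (Fin n) P) *ᵥ γ := by
          rw [hU, Matrix.add_mulVec, Matrix.sub_mulVec, Matrix.one_mulVec, hEγ, sub_self, add_zero]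
      _ = g := hUg
  have hgJ : ∀ i, g i ∈ J := fun i => Ideal.subset_span ⟨i, rfl⟩
  have hγJ : ∀ i, γ i ∈ J := fun i => by
    simp only [γ, Matrix.mulVec, dotProduct]
    exact Ideal.sum_mem _ fun k _ => J.mul_mem_left _ (hgJ k)
  let sq := Ideal.Quotient.mk (J ^ 2)
  have hJJ : ∀ {a b : P}, a ∈ J → b ∈ J → sq (a * b) = 0 := fun ha hb => by
    rw [Ideal.Quotient.eq_zero_iff_mem, pow_two]
    exact Ideal.mul_mem_mul ha hb
  let δ : P → P ⧸ J ^ 2 := fun x => ∑ i, sq (c x i * γ i)
  have hδadd : ∀ x y, δ (x + y) = δ x + δ y := fun x y => by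
    simp only [δ, map_add, Pi.add_apply, add_mul, Finset.sum_add_distrib]
  have hδmul : ∀ x y, δ (x * y) = sq x * δ y + sq y * δ x := fun x y => by
    simp only [δ, Derivation.leibniz, Pi.add_apply, Pi.smul_apply, smul_eq_mul, add_mul, mul_assoc, map_add,
      map_mul, Finset.sum_add_distrib, Finset.mul_sum]
  have hδδ : ∀ x y, δ x * δ y = 0 := fun x y => by
    simp only [δ, ← map_sum, ← map_mul]
    exact hJJ (Ideal.sum_mem _ fun i _ => J.mul_mem_left _ (hγJ i)) (Ideal.sum_mem _ fun i _ => J.mul_mem_left _ (hγJ i))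
  have hδalg : ∀ a, δ (algebraMap A P a) = 0 := fun a => by simp [δ]
  let F : P →ₐ[A] P ⧸ J ^ 2 :=
    { toFun := fun x => sq x - δ x
      map_one' := by
        change sq 1 - δ 1 = 1
        rw [show δ 1 = 0 from (map_one (algebraMap A P)) ▸ hδalg 1, map_one, sub_zero]
      map_mul' := fun x y => by
        change sq (x * y) - δ (x * y) = (sq x - δ x) * (sq y - δ y)
        rw [hδmul, map_mul]
        linear_combination -(hδδ x y)
      map_zero' := by simp [δ]
      map_add' := fun x y => by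
        change sq (x + y) - δ (x + y) = sq x - δ x + (sq y - δ y)
        rw [hδadd, map_add]; ring
      commutes' := fun a => by
        change sq (algebraMap A P a) - δ (algebraMap A P a) = _
        rw [hδalg, sub_zero]; rfl }
  have hδg : ∀ j, δ (g j) = sq (g j) := by
    intro j
    conv_lhs => rw [← hg]
    have h1 : δ ((E *ᵥ g) j) = ∑ k, sq (E j k) * δ (g k) := by
      have hsum : ∀ f : Fin n → P, δ (∑ k, f k) = ∑ k, δ (f k) :=
        fun f => map_sum (AddMonoidHom.mk' δ hδadd) f _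
      rw [Matrix.mulVec, dotProduct, hsum]
      refine Finset.sum_congr rfl fun k _ => ?_
      rw [hδmul, add_eq_left]
      simp only [δ, ← map_sum, ← map_mul]
      exact hJJ (hgJ k) (Ideal.sum_mem _ fun i _ => J.mul_mem_left _ (hγJ i))
    rw [h1]
    conv_rhs => rw [← hEMγ]
    simp only [Matrix.mulVec, dotProduct, map_sum, map_mul, δ, M, Matrix.of_apply]
  have hF : ∀ x ∈ J, F x = 0 := by
    intro x hx
    change x ∈ RingHom.ker F.toRingHom
    refine (Ideal.span_le (I := RingHom.ker F.toRingHom)).2 ?_ hx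
    rintro _ ⟨j, rfl⟩
    change sq (g j) - δ (g j) = 0
    rw [hδg, sub_self]
  have hk : RingHom.ker (Ideal.Quotient.mkₐ A J).toRingHom = J := Ideal.mk_ker
  have hle : J ^ 2 ≤ RingHom.ker (Ideal.Quotient.mkₐ A J).toRingHom ^ 2 := le_of_eq (by rw [hk])
  refine Algebra.FormallySmooth.of_split (Ideal.Quotient.mkₐ A J)
    ((Ideal.Quotient.factorₐ A hle).comp (Ideal.Quotient.liftₐ J F hF)) ?_
  refine Ideal.Quotient.algHom_ext A (AlgHom.ext fun x => ?_)
  change (Ideal.Quotient.mkₐ A J).kerSquareLift (Ideal.Quotient.factorₐ A hle (sq x - δ x)) = Ideal.Quotient.mk J x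
  simp only [δ, sq, ← map_sum, ← map_sub]
  change Ideal.Quotient.mk J (x - ∑ i, c x i * γ i) = Ideal.Quotient.mk J x
  rw [Ideal.Quotient.eq, sub_sub_cancel_left]
  exact J.neg_mem (Ideal.sum_mem _ fun i _ => J.mul_mem_left _ (hγJ i))

end Groth.Agent.Hensel.SmoothModel

namespace Groth.Agent.Hensel.SmoothModel

open Matrix TensorProduct

/-- A smooth algebra over a quotient ring is the reduction of a smooth algebra. -/
theorem exists_smooth_lift {A : Type u} [CommRing A] (I : Ideal A) (C : Type u) [CommRing C] [Algebra A C]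
    [Algebra (A ⧸ I) C] [IsScalarTower A (A ⧸ I) C] [Algebra.Smooth (A ⧸ I) C] :
    ∃ (R : Type u) (_ : CommRing R) (_ : Algebra A R) (σ : R →ₐ[A] C), Algebra.Smooth A R ∧
      Function.Surjective σ ∧ RingHom.ker σ.toRingHom = I.map (algebraMap A R) := by
  classical
  obtain ⟨B₀, _, _, _, _, hCB, ⟨r⟩, hstd⟩ := Groth.Agent.Smoothing.exists_standardSmooth_retract (A ⧸ I) C
  letI : Algebra A B₀ := ((algebraMap (A ⧸ I) B₀).comp (algebraMap A (A ⧸ I))).toAlgebra
  haveI : IsScalarTower A (A ⧸ I) B₀ := IsScalarTower.of_algebraMap_eq fun _ => rfl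
  haveI : IsScalarTower A C B₀ := IsScalarTower.of_algebraMap_eq fun a => by
    rw [IsScalarTower.algebraMap_apply A (A ⧸ I) C, ← IsScalarTower.algebraMap_apply (A ⧸ I) C B₀]; rfl
  -- a lift of the standard smooth algebra
  obtain ⟨R₁, _, _, hR₁, ⟨e₁⟩⟩ := Groth.Agent.Smoothing.exists_standardSmooth_lift A I B₀
  let σ₁ : R₁ →ₐ[A] B₀ := (e₁.toAlgHom.restrictScalars A).comp Algebra.TensorProduct.includeRight
  have hσ₁s : Function.Surjective σ₁ := by
    intro b
    obtain ⟨z, rfl⟩ := e₁.surjective b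
    induction z using TensorProduct.induction_on with
    | zero => exact ⟨0, by simp⟩
    | add a b ha hb =>
      obtain ⟨x, hx⟩ := ha
      obtain ⟨y, hy⟩ := hb
      exact ⟨x + y, by rw [map_add, hx, hy, map_add]⟩
    | tmul q x =>
      obtain ⟨a, rfl⟩ := Ideal.Quotient.mk_surjective q
      refine ⟨a • x, ?_⟩
      change e₁ (1 ⊗ₜ (a • x)) = _
      rw [← smul_tmul, Algebra.smul_def, mul_one]; rfl
  have hσ₁k : RingHom.ker σ₁.toRingHom = I.map (algebraMap A R₁) := by
    ext x
    rw [RingHom.mem_ker]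
    change e₁ (1 ⊗ₜ x) = 0 ↔ _
    rw [map_eq_zero_iff _ e₁.injective, ← map_eq_zero_iff _ (Algebra.TensorProduct.quotIdealMapEquivQuotTensor (A := A) R₁ I).symm.injective,
      ← Ideal.Quotient.eq_zero_iff_mem]
    refine iff_of_eq (congrArg (· = 0) ?_)
    apply (Algebra.TensorProduct.quotIdealMapEquivQuotTensor (A := A) R₁ I).symm_apply_eq.2
    simp
  -- the kernel of the retraction and its differentials
  have hrs : Function.Surjective r := fun c => ⟨algebraMap C B₀ c, r.commutes c⟩
  obtain ⟨n, y, hy⟩ := Submodule.fg_iff_exists_fin_generating_family.1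
    (Algebra.FinitePresentation.ker_fG_of_surjective r hrs)
  let J₀ : Ideal B₀ := RingHom.ker r.toRingHom
  letI : Algebra B₀ C := r.toRingHom.toAlgebra
  haveI : IsScalarTower (A ⧸ I) B₀ C := IsScalarTower.of_algebraMap_eq fun q => by
    rw [IsScalarTower.algebraMap_apply (A ⧸ I) C B₀]
    exact (r.commutes _).symm
  obtain ⟨l, hl⟩ := (Algebra.FormallySmooth.iff_split_injection (R := A ⧸ I) (P := B₀) (A := C) hrs).1 inferInstance
  have hymem : ∀ i, y i ∈ RingHom.ker (algebraMap B₀ C) := fun i => by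
    change y i ∈ J₀
    rw [show J₀ = Submodule.span B₀ (Set.range y) from hy.symm]
    exact Submodule.subset_span ⟨i, rfl⟩
  let π : (Fin n → B₀) →ₗ[B₀] (RingHom.ker (algebraMap B₀ C)).Cotangent :=
    Fintype.linearCombination B₀ fun i => Ideal.toCotangent _ ⟨y i, hymem i⟩
  have hπtc : ∀ a : Fin n → B₀, π a = Ideal.toCotangent _ (∑ i, a i • (⟨y i, hymem i⟩ : RingHom.ker (algebraMap B₀ C))) := fun a => by
    simp only [π, Fintype.linearCombination_apply, map_sum, map_smul]
  have hπ : Function.Surjective π := by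
    intro z
    obtain ⟨⟨x, hx⟩, rfl⟩ := Ideal.toCotangent_surjective _ z
    have hx' : x ∈ Submodule.span B₀ (Set.range y) := hy.symm ▸ hx
    obtain ⟨a, ha⟩ := (Submodule.mem_span_range_iff_exists_fun B₀).1 hx'
    exact ⟨a, by rw [hπtc]; congr 1; exact Subtype.ext (by simpa using ha)⟩
  obtain ⟨Φ₀, hΦ₀⟩ := Module.projective_lifting_property π
    ((l.restrictScalars B₀).comp (TensorProduct.mk B₀ C (Ω[B₀⁄(A ⧸ I)]) 1)) hπ
  have hJsq : ∀ x : B₀, x ∈ J₀ → x - ∑ i, Φ₀ (KaehlerDifferential.D (A ⧸ I) B₀ x) i * y i ∈ J₀ ^ 2 := by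
    intro x hx
    have h := LinearMap.congr_fun hΦ₀ (KaehlerDifferential.D (A ⧸ I) B₀ x)
    have h2 := LinearMap.congr_fun hl (Ideal.toCotangent _ ⟨x, hx⟩)
    rw [LinearMap.comp_apply, KaehlerDifferential.kerCotangentToTensor_toCotangent, LinearMap.id_apply] at h2
    rw [LinearMap.comp_apply, hπtc, LinearMap.comp_apply] at h
    change _ = l (1 ⊗ₜ KaehlerDifferential.D (A ⧸ I) B₀ x) at h
    rw [h2] at h
    have h3 := (Ideal.toCotangent_eq _).1 h.symm
    simp only [AddSubmonoidClass.coe_finsetSum, Submodule.coe_smul, smul_eq_mul] at h3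
    exact h3
  let c₀ : B₀ → Fin n → C := fun x i => r (Φ₀ (KaehlerDifferential.D (A ⧸ I) B₀ x) i)
  have hc₀add : ∀ a b, c₀ (a + b) = c₀ a + c₀ b := fun a b => funext fun i => by simp [c₀]
  have hc₀mul : ∀ a b, c₀ (a * b) = r a • c₀ b + r b • c₀ a := fun a b => funext fun i => by simp [c₀]
  have hc₀sq : ∀ a ∈ J₀ ^ 2, c₀ a = 0 := by
    intro a ha
    rw [pow_two] at ha
    refine Submodule.mul_induction_on ha (fun p hp q hq => ?_) (fun p q hp hq => by rw [hc₀add, hp, hq, add_zero])
    rw [hc₀mul, show r p = 0 from hp, show r q = 0 from hq, zero_smul, zero_smul, add_zero]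
  let e : Matrix (Fin n) (Fin n) C := Matrix.of fun j k => c₀ (y j) k
  let ê : Matrix (Fin n) (Fin n) B₀ := e.map (algebraMap C B₀)
  let y' : Fin n → B₀ := ê *ᵥ y
  have hdiff : ∀ j, y j - y' j ∈ J₀ ^ 2 := by
    intro j
    have : ∑ i, Φ₀ (KaehlerDifferential.D (A ⧸ I) B₀ (y j)) i * y i - y' j ∈ J₀ ^ 2 := by
      simp only [y', Matrix.mulVec, dotProduct, ← Finset.sum_sub_distrib, ← sub_mul, pow_two]
      refine Ideal.sum_mem _ fun i _ => Ideal.mul_mem_mul ?_ (hymem i)
      change r _ = 0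
      rw [map_sub, sub_eq_zero]
      exact (r.commutes _).symm
    simpa using Ideal.add_mem _ (hJsq _ (hymem j)) this
  have hc₀y' : ∀ j, c₀ (y' j) = e j := by
    intro j
    have h := hc₀add (y j - y' j) (y' j)
    rw [sub_add_cancel, hc₀sq _ (hdiff j), zero_add] at h
    exact h.symm
  have he : IsIdempotentElem e := by
    have hsum : ∀ f : Fin n → B₀, c₀ (∑ k, f k) = ∑ k, c₀ (f k) :=
      fun f => map_sum (AddMonoidHom.mk' c₀ hc₀add) f _
    refine Matrix.ext fun j i => ?_
    have h := congrFun (hc₀y' j) i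
    simp only [y', Matrix.mulVec, dotProduct] at h
    rw [hsum, Finset.sum_apply] at h
    rw [Matrix.mul_apply]
    refine Eq.trans (Finset.sum_congr rfl fun k _ => ?_) h
    rw [hc₀mul, show r (y k) = 0 from hymem k, zero_smul, add_zero, Pi.smul_apply, smul_eq_mul]
    change e j k * e k i = r (algebraMap C B₀ (e j k)) * _
    rw [r.commutes]; rfl
  have hêid : IsIdempotentElem ê := by
    change _ * _ = _
    rw [← Matrix.map_mul, he.eq]
  -- Nakayama
  let J' : Ideal B₀ := Ideal.span (Set.range y')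
  obtain ⟨u₀, hu₀, hu₀J⟩ := Submodule.exists_sub_one_mem_and_smul_le_of_fg_of_le_sup (R := B₀) (M := B₀)
    (I := J₀) (N := J') (N' := J₀) (P := J₀)
    (Algebra.FinitePresentation.ker_fG_of_surjective r hrs) le_rfl (by
      refine le_of_eq_of_le hy.symm (Submodule.span_le.2 ?_)
      rintro _ ⟨j, rfl⟩
      refine Submodule.mem_sup.2 ⟨y' j, Ideal.subset_span ⟨j, rfl⟩, y j - y' j, ?_, add_sub_cancel _ _⟩
      rw [smul_eq_mul, ← pow_two]
      exact hdiff j)
  -- the etale neighbourhood
  let φ : (R₁ ⧸ I.map (algebraMap A R₁)) ≃+* B₀ :=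
    (Ideal.quotEquivOfEq hσ₁k.symm).trans (RingHom.quotientKerEquivOfSurjective hσ₁s)
  obtain ⟨P₀, _, _, σP, hP₀, hσPs, hσPk, E, hE, hEσ⟩ :=
    exists_etale_lift_idem_matrix (I.map (algebraMap A R₁)) (ê.map φ.symm) (by
      change _ * _ = _
      rw [← Matrix.map_mul, hêid.eq])
  letI : Algebra A P₀ := ((algebraMap R₁ P₀).comp (algebraMap A R₁)).toAlgebra
  haveI : IsScalarTower A R₁ P₀ := IsScalarTower.of_algebraMap_eq fun _ => rfl
  haveI : Algebra.Smooth A P₀ := Algebra.Smooth.comp A R₁ P₀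
  let σ' : P₀ →ₐ[A] B₀ :=
    { φ.toRingHom.comp σP.toRingHom with
      commutes' := fun a => by
        change φ (σP (algebraMap A P₀ a)) = _
        rw [IsScalarTower.algebraMap_apply A R₁ P₀, σP.commutes]
        exact σ₁.commutes a }
  have hσ's : Function.Surjective σ' := φ.surjective.comp hσPs
  have hσ'k : RingHom.ker σ'.toRingHom = I.map (algebraMap A P₀) := by
    rw [IsScalarTower.algebraMap_eq A R₁ P₀, ← Ideal.map_map, ← hσPk]
    exact Ideal.ext fun x => map_eq_zero_iff φ φ.injective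
  choose ŷ hŷ using fun i => hσ's (y i)
  obtain ⟨u, hu⟩ := hσ's u₀
  let g : Fin n → P₀ := E *ᵥ ŷ
  have hgE : E *ᵥ g = g := by simp only [g, Matrix.mulVec_mulVec, hE.eq]
  have hEê : ∀ j k, σ' (E j k) = ê j k := fun j k => by
    have := congrArg φ (congrFun (congrFun hEσ j) k)
    exact this.trans (φ.apply_symm_apply _)
  have hg' : ∀ j, σ' (g j) = y' j := fun j => by
    simp only [g, y', Matrix.mulVec, dotProduct, map_sum, map_mul, hEê, hŷ]
  -- the derivation
  letI : Algebra P₀ B₀ := σ'.toRingHom.toAlgebra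
  haveI : IsScalarTower A P₀ B₀ := IsScalarTower.of_algebraMap_eq fun a => (σ'.commutes a).symm
  let q : (Fin n → P₀) →ₗ[P₀] (Fin n → B₀) :=
    LinearMap.pi fun i => (Algebra.linearMap P₀ B₀).comp (LinearMap.proj i)
  have hq : Function.Surjective q := fun b => ⟨fun i => (hσ's (b i)).choose, funext fun i => (hσ's (b i)).choose_spec⟩
  obtain ⟨Φ, hΦ⟩ := Module.projective_lifting_property q
    ((Φ₀.restrictScalars P₀).comp (KaehlerDifferential.map A (A ⧸ I) P₀ B₀)) hq
  let r' : P₀ →ₐ[A] C := (r.restrictScalars A).comp σ'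
  have hΦr : ∀ x i, r' (Φ (KaehlerDifferential.D A P₀ x) i) = c₀ (σ' x) i := fun x i => by
    have h := congrFun (LinearMap.congr_fun hΦ (KaehlerDifferential.D A P₀ x)) i
    rw [LinearMap.comp_apply, LinearMap.comp_apply, KaehlerDifferential.map_D] at h
    exact congrArg r h
  let M : Matrix (Fin n) (Fin n) P₀ := Matrix.of fun j i => Φ (KaehlerDifferential.D A P₀ (g j)) i
  let N : Matrix (Fin n) (Fin n) P₀ := E * M * E + (1 - E)
  have hNr : N.map r' = 1 := by
    have h1 : E.map r' = e := Matrix.ext fun j k => by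
      change r (σ' (E j k)) = _
      rw [hEê]; exact r.commutes _
    have h2 : M.map r' = e := Matrix.ext fun j i => by
      change r' (Φ (KaehlerDifferential.D A P₀ (g j)) i) = _
      rw [hΦr, hg', hc₀y']
    simp only [N, Matrix.map_add r' (map_add r'), Matrix.map_sub r' (map_sub r'), Matrix.map_mul, h1, h2,
      Matrix.map_one r' (map_zero r') (map_one r')]
    rw [he.eq, he.eq, add_sub_cancel]
  let w : P₀ := u * N.det
  have hru : r' u = 1 := by
    change r (σ' u) = 1
    rw [hu, ← sub_eq_zero, ← map_one r, ← map_sub]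
    exact hu₀
  have hrw : r' w = 1 := by
    rw [map_mul, hru, one_mul]
    rw [AlgHom.map_det]
    change (N.map r').det = 1
    rw [hNr, Matrix.det_one]
  let P := Localization.Away w
  have : Algebra.FormallyEtale P₀ P := .of_isLocalization (Submonoid.powers w)
  have : Algebra.FinitePresentation P₀ P := IsLocalization.Away.finitePresentation w
  have : Algebra.Smooth P₀ P := ⟨inferInstance, inferInstance⟩
  have : Algebra.Smooth A P := Algebra.Smooth.comp A P₀ P
  let hbc : IsBaseChange P (KaehlerDifferential.map A A P₀ P) :=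
    KaehlerDifferential.isBaseChange_of_formallyEtale A P₀ P
  let ι : (Fin n → P₀) →ₗ[P₀] (Fin n → P) := LinearMap.pi fun i => (Algebra.linearMap P₀ P).comp (LinearMap.proj i)
  let ΦP : Ω[P⁄A] →ₗ[P] (Fin n → P) := hbc.lift (ι.comp Φ)
  let c : Derivation A P (Fin n → P) := ΦP.compDer (KaehlerDifferential.D A P)
  have hc : ∀ x i, c (algebraMap P₀ P x) i = algebraMap P₀ P (Φ (KaehlerDifferential.D A P₀ x) i) := fun x i => by
    change ΦP (KaehlerDifferential.D A P (algebraMap P₀ P x)) i = _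
    rw [← KaehlerDifferential.map_D A A P₀ P]
    simp only [ΦP, hbc.lift_eq]
    rfl
  let am := algebraMap P₀ P
  have hwu : IsUnit (am u) ∧ IsUnit (am N.det) := by
    rw [← IsUnit.mul_iff, ← map_mul]
    exact IsLocalization.Away.algebraMap_isUnit w
  haveI hsm : Algebra.Smooth A (P ⧸ Ideal.span (Set.range fun j => am (g j))) := by
    refine smooth_quotient_of_idem (E.map am) ?_ _ ?_ c ?_
    · change _ * _ = _
      rw [← Matrix.map_mul, hE.eq]
    · funext j
      conv_rhs => rw [← congrFun hgE j]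
      exact (RingHom.map_mulVec am E g j).symm
    · rw [show E.map am * Matrix.of (fun j i => c (am (g j)) i) * E.map am + (1 - E.map am) = N.map am by
        simp only [N, Matrix.map_add am (map_add am), Matrix.map_sub am (map_sub am), Matrix.map_mul,
          Matrix.map_one am (map_zero am) (map_one am)]
        congr 3
        exact Matrix.ext fun j i => hc (g j) i]
      rw [Matrix.isUnit_iff_isUnit_det, ← RingHom.mapMatrix_apply, ← RingHom.map_det]
      exact hwu.2
  let σP' : P →ₐ[A] C := IsLocalization.liftAlgHom (M := Submonoid.powers w) (f := r') fun ⟨z, m, hm⟩ => by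
    subst hm
    simp [hrw]
  have hσP' : ∀ x, σP' (am x) = r' x := fun x => IsLocalization.lift_eq _ x
  have hker0 : ∀ z ∈ Ideal.span (Set.range fun j => am (g j)), σP' z = 0 := by
    intro z hz
    refine (Ideal.span_le (I := RingHom.ker σP'.toRingHom)).2 ?_ hz
    rintro _ ⟨j, rfl⟩
    change σP' (am (g j)) = 0
    rw [hσP']
    change r (σ' (g j)) = 0
    rw [hg']
    refine (RingHom.mem_ker (f := r.toRingHom)).1 ?_
    change ∑ k, ê j k * y k ∈ J₀
    exact Ideal.sum_mem _ fun k _ => J₀.mul_mem_left _ (hymem k)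
  let σR := Ideal.Quotient.liftₐ (Ideal.span (Set.range fun j => am (g j))) σP' hker0
  refine ⟨_, inferInstance, inferInstance, σR, hsm, fun x => ?_, le_antisymm (fun x hx => ?_) ?_⟩
  · obtain ⟨b, rfl⟩ := hrs x
    obtain ⟨p, rfl⟩ := hσ's b
    exact ⟨Ideal.Quotient.mk _ (am p), hσP' p⟩
  · obtain ⟨z, rfl⟩ := Ideal.Quotient.mk_surjective x
    obtain ⟨x₀, m, rfl⟩ := IsLocalization.exists_mk'_eq (Submonoid.powers w) z
    have h0 : σP' (IsLocalization.mk' P x₀ m) = 0 := hx
    have h1 : r' x₀ = 0 := by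
      rw [← hσP', ← IsLocalization.mk'_spec P x₀ m, map_mul, h0, zero_mul]
    have h2 : σ' (u * x₀) ∈ J' := by
      rw [map_mul, hu, ← smul_eq_mul]
      exact hu₀J (Submodule.smul_mem_pointwise_smul _ u₀ _ (show σ' x₀ ∈ J₀ from h1))
    have h3 : u * x₀ ∈ Ideal.span (Set.range g) ⊔ I.map (algebraMap A P₀) := by
      rw [← hσ'k, show RingHom.ker σ'.toRingHom = Ideal.comap σ'.toRingHom ⊥ from rfl,
        ← Ideal.comap_map_of_surjective σ'.toRingHom hσ's, Ideal.mem_comap, Ideal.map_span, ← Set.range_comp,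
        show σ'.toRingHom ∘ g = y' from funext hg']
      exact h2
    let k := (Ideal.Quotient.mk (Ideal.span (Set.range fun j => am (g j)))).comp am
    have h4 := Ideal.mem_map_of_mem k h3
    rw [Ideal.map_sup, Ideal.map_map, show (Ideal.span (Set.range g)).map k = ⊥ by
        rw [← le_bot_iff, Ideal.map_span, Ideal.span_le]
        rintro _ ⟨_, ⟨j, rfl⟩, rfl⟩
        exact Ideal.Quotient.eq_zero_iff_mem.2 (Ideal.subset_span ⟨j, rfl⟩), bot_sup_eq] at h4
    rw [show k.comp (algebraMap A P₀) = algebraMap A _ from RingHom.ext fun a => by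
      change Ideal.Quotient.mk _ (algebraMap P₀ P (algebraMap A P₀ a)) = _
      rw [← IsScalarTower.algebraMap_apply]; rfl] at h4
    simp only [k, RingHom.comp_apply, map_mul] at h4
    rw [Ideal.unit_mul_mem_iff_mem _ (hwu.1.map _), show algebraMap P₀ P x₀ = am x₀ from rfl] at h4
    rw [← IsLocalization.mk'_spec P x₀ m, map_mul, mul_comm,
      Ideal.unit_mul_mem_iff_mem _ ((IsLocalization.map_units P m).map _)] at h4
    exact h4
  · refine Ideal.map_le_iff_le_comap.2 fun a ha => ?_
    rw [Ideal.mem_comap, RingHom.mem_ker]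
    refine (σR.commutes a).trans ?_
    rw [IsScalarTower.algebraMap_apply A (A ⧸ I) C, Ideal.Quotient.algebraMap_eq, Ideal.Quotient.eq_zero_iff_mem.2 ha, map_zero]

end Groth.Agent.Hensel.SmoothModel
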