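import Groth.Agent.Hensel.Henselization

/-!
# Uniqueness and change of the base ring for (strict) henselizations
-/

set_option autoImplicit false

universe u

open IsLocalRing

namespace Groth.Agent.Hensel

theorem exists_algEquiv_of_isStrictHenselization {R S S' : Type u} [CommRing R] [IsLocalRing R]
    [CommRing S] [IsLocalRing S] [Algebra R S] [IsLocalHom (algebraMap R S)]
    [hS : Hensel.IsStrictHenselization R S]
    [CommRing S'] [IsLocalRing S'] [Algebra R S'] [IsLocalHom (algebraMap R S')]
    [hS' : Hensel.IsStrictHenselization R S'] :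
    Nonempty (S ≃ₐ[R] S') := by
  have := hS.isSepClosure
  have := hS'.isSepClosure
  have := hS.henselian
  have := hS'.henselian
  let τ : ResidueField S ≃ₐ[ResidueField R] ResidueField S' :=
    IsSepClosure.equiv (ResidueField R) (ResidueField S) (ResidueField S')
  have hτ : τ.toAlgHom.toRingHom.comp (ResidueField.map (algebraMap R S)) =
      ResidueField.map (algebraMap R S') := RingHom.ext τ.commutes
  have hτ' : τ.symm.toAlgHom.toRingHom.comp (ResidueField.map (algebraMap R S')) =
      ResidueField.map (algebraMap R S) := RingHom.ext τ.symm.commutes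
  obtain ⟨g, ⟨hg, hgr⟩, -⟩ := hS.universal S' (algebraMap R S') τ.toAlgHom.toRingHom hτ
  obtain ⟨g', ⟨hg', hgr'⟩, -⟩ := hS'.universal S (algebraMap R S) τ.symm.toAlgHom.toRingHom hτ'
  have hu1 := hS.universal S (algebraMap R S) (RingHom.id _) (RingHom.id_comp _)
  have h1 : g'.comp g = RingHom.id _ :=
    hu1.unique ⟨by rw [RingHom.comp_assoc, hg, hg'], fun x ↦ by
      rw [RingHom.comp_apply, hgr', hgr]; exact τ.symm_apply_apply _⟩
      ⟨RingHom.id_comp _, fun x ↦ rfl⟩
  have hu2 := hS'.universal S' (algebraMap R S') (RingHom.id _) (RingHom.id_comp _)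
  have h2 : g.comp g' = RingHom.id _ :=
    hu2.unique ⟨by rw [RingHom.comp_assoc, hg', hg], fun x ↦ by
      rw [RingHom.comp_apply, hgr, hgr']; exact τ.apply_symm_apply _⟩
      ⟨RingHom.id_comp _, fun x ↦ rfl⟩
  exact ⟨AlgEquiv.ofAlgHom { toRingHom := g, commutes' := DFunLike.congr_fun hg }
    { toRingHom := g', commutes' := DFunLike.congr_fun hg' }
    (AlgHom.ext fun x ↦ DFunLike.congr_fun h2 x) (AlgHom.ext fun x ↦ DFunLike.congr_fun h1 x)⟩

variable {R D S : Type u} [CommRing R] [IsLocalRing R] [CommRing D] [IsLocalRing D] [CommRing S]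
  [IsLocalRing S] [Algebra R S] [IsLocalHom (algebraMap R S)] [Algebra D S]
  [IsLocalHom (algebraMap D S)] {ι : R →+* D} [IsLocalHom ι]

/-- A henselization of `R` factoring through `D` is a henselization of `D` when maps out of `D` are
determined on `R`. -/
theorem isHenselization_of_factor [hS : Hensel.IsHenselization R S]
    (hι : (algebraMap D S).comp ι = algebraMap R S)
    (hD : ∀ (T : Type u) [CommRing T] [HenselianLocalRing T] (f₁ f₂ : D →+* T), IsLocalHom f₁ →
      f₁.comp ι = f₂.comp ι → f₁ = f₂) :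
    Hensel.IsHenselization D S := by
  refine ⟨hS.henselian, fun T _ _ f hf ↦ ?_⟩
  obtain ⟨g, hg, hu⟩ := hS.universal T (f.comp ι) inferInstance
  refine ⟨g, (hD T f (g.comp (algebraMap D S)) hf (by rw [RingHom.comp_assoc, hι, hg])).symm,
    fun g' hg' ↦ hu g' ?_⟩
  change g'.comp (algebraMap R S) = f.comp ι
  rw [← hι, ← RingHom.comp_assoc]
  exact congrArg (·.comp ι) hg'

/-- Strict version. -/
theorem isStrictHenselization_of_factor [hS : Hensel.IsStrictHenselization R S]
    (hι : (algebraMap D S).comp ι = algebraMap R S)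
    (hD : ∀ (T : Type u) [CommRing T] [HenselianLocalRing T] (f₁ f₂ : D →+* T), IsLocalHom f₁ →
      f₁.comp ι = f₂.comp ι → (∀ d, residue T (f₁ d) = residue T (f₂ d)) → f₁ = f₂) :
    Hensel.IsStrictHenselization D S := by
  refine ⟨hS.henselian, ⟨hS.isSepClosure.sep_closed, ?_⟩, fun T _ _ f hf τ hτ ↦ ?_⟩
  · let : Algebra (ResidueField R) (ResidueField D) := (ResidueField.map ι).toAlgebra
    have : IsScalarTower (ResidueField R) (ResidueField D) (ResidueField S) :=
      .of_algebraMap_eq fun x ↦ by
        obtain ⟨r, rfl⟩ := residue_surjective x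
        exact congrArg (residue S) (DFunLike.congr_fun hι r).symm
    have := hS.isSepClosure.separable
    exact Algebra.isSeparable_tower_top_of_isSeparable (ResidueField R) (ResidueField D) (ResidueField S)
  have hτ' : τ.comp (ResidueField.map (algebraMap R S)) = ResidueField.map (f.comp ι) := by
    refine RingHom.ext fun x ↦ ?_
    obtain ⟨r, rfl⟩ := residue_surjective x
    exact (congrArg (fun s ↦ τ (residue S s)) (DFunLike.congr_fun hι r).symm).trans
      (DFunLike.congr_fun hτ (residue D (ι r)))
  obtain ⟨g, ⟨hg, hgr⟩, hu⟩ := hS.universal T (f.comp ι) τ hτ'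
  refine ⟨g, ⟨(hD T f (g.comp (algebraMap D S)) hf (by rw [RingHom.comp_assoc, hι, hg]) fun d ↦ ?_).symm,
    hgr⟩, fun g' ⟨hg', hgr'⟩ ↦ hu g' ⟨?_, hgr'⟩⟩
  · rw [RingHom.comp_apply, hgr]
    exact (DFunLike.congr_fun hτ (residue D d)).symm
  · change g'.comp (algebraMap R S) = f.comp ι
    rw [← hι, ← RingHom.comp_assoc, hg']

end Groth.Agent.Hensel
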