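import Groth.Agent.Hensel.HenselizationAscent
import Groth.Agent.Depth.SeqDepth
import Groth.Agent.Depth.Change
import Groth.Agent.Depth.CM
import Groth.Prelude.Def_CAlg
import Mathlib.RingTheory.Regular.Flat
import Mathlib.RingTheory.Flat.Localization

/-!
# Flat maps with trivial fibres: depth, dimension, regularity at all primes
-/

set_option autoImplicit false

universe u

open IsLocalRing RingTheory.Sequence

namespace Groth.Agent.Hensel

/-- A flat map with `P S_P = p S_P` at every prime. -/
structure TrivialFibres (R S : Type u) [CommRing R] [CommRing S] [Algebra R S] : Prop where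
  flat : Module.Flat R S
  map_eq : ∀ (P : Ideal S) [P.IsPrime],
    (P.comap (algebraMap R S)).map (algebraMap R (Localization.AtPrime P)) =
      maximalIdeal (Localization.AtPrime P)

theorem etale_exists_mul_mem {R E : Type u} [CommRing R] [CommRing E] [Algebra R E] [Algebra.Etale R E]
    (q : Ideal E) [q.IsPrime] {x : E} (hx : x ∈ q) :
    ∃ η, η ∉ q ∧ η * x ∈ (q.under R).map (algebraMap R E) := by
  set p := q.under R
  let := Localization.AtPrime.algebraOfLiesOver p q
  have : Algebra.IsUnramifiedAt R q := by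
    have : Algebra.FormallyUnramified E (Localization.AtPrime q) :=
      .of_isLocalization q.primeCompl
    exact Algebra.FormallyUnramified.comp R E _
  have h1 : algebraMap E (Localization.AtPrime q) x ∈
      (p.map (algebraMap R E)).map (algebraMap E (Localization.AtPrime q)) := by
    rw [Ideal.map_map, ← IsScalarTower.algebraMap_eq,
      ((Algebra.isUnramifiedAt_iff_map_eq R p q).mp ‹_›).2,
      IsLocalization.AtPrime.to_map_mem_maximal_iff (Localization.AtPrime q) q]
    exact hx
  obtain ⟨η, hη, hmem⟩ := (IsLocalization.algebraMap_mem_map_algebraMap_iff q.primeCompl _ _ _).mp h1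
  exact ⟨η, hη, hmem⟩

theorem trivialFibres_of_algEquiv_hens {R K S : Type u} [CommRing R] [CommRing K] [Algebra R K]
    [CommRing S] [Algebra R S] (e : Hens R K ≃ₐ[R] S) : TrivialFibres R S := by
  refine ⟨Module.Flat.of_linearEquiv e.symm.toLinearEquiv, fun P _ ↦ le_antisymm ?_ ?_⟩
  · rw [Ideal.map_le_iff_le_comap]
    intro r hr
    rw [Ideal.mem_comap, IsScalarTower.algebraMap_apply R S (Localization.AtPrime P),
      IsLocalization.AtPrime.to_map_mem_maximal_iff (Localization.AtPrime P) P]
    exact hr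
  rw [← IsLocalization.AtPrime.map_eq_maximalIdeal P (Localization.AtPrime P),
    Ideal.map_le_iff_le_comap]
  intro z hz
  obtain ⟨z, rfl⟩ := e.surjective z
  obtain ⟨X, x, rfl⟩ := Hens.exists_rep z
  let φ : X.carrier →ₐ[R] S := e.toAlgHom.comp (Hens.of X)
  have hx : x ∈ P.comap φ.toRingHom := hz
  obtain ⟨η, hη, hmem⟩ := etale_exists_mul_mem (R := R) (E := X.carrier) (P.comap φ.toRingHom) hx
  have h2 := Ideal.mem_map_of_mem φ.toRingHom hmem
  rw [Ideal.map_map, AlgHom.toRingHom_eq_coe, φ.comp_algebraMap, Ideal.under_def, Ideal.comap_comap,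
    φ.comp_algebraMap] at h2
  have h3 := Ideal.mem_map_of_mem (algebraMap S (Localization.AtPrime P)) h2
  rw [Ideal.map_map, ← IsScalarTower.algebraMap_eq] at h3
  simp only [AlgHom.coe_toRingHom, map_mul] at h3
  rw [Ideal.mem_comap]
  refine (Ideal.unit_mul_mem_iff_mem _ ?_).mp h3
  exact IsLocalization.map_units (M := P.primeCompl) _ ⟨φ η, fun h ↦ hη h⟩

/-- `(S_k)` data at a single flat local extension -/
theorem depth_eq_of_faithfullyFlat {R S : Type u} [CommRing R] [IsLocalRing R] [CommRing S]
    [IsLocalRing S] [Algebra R S] [Module.FaithfullyFlat R S] [IsNoetherianRing R] [IsNoetherianRing S]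
    (h : (maximalIdeal R).map (algebraMap R S) = maximalIdeal S) :
    LocCoh.depth S S = LocCoh.depth R R := by
  classical
  have hne : maximalIdeal R • (⊤ : Submodule R R) ≠ ⊤ :=
    Depth.smul_top_ne_top_self (maximalIdeal.isMaximal R).ne_top
  have hS : maximalIdeal S • (⊤ : Submodule S S) ≠ ⊤ :=
    Depth.smul_top_ne_top_self (maximalIdeal.isMaximal S).ne_top
  obtain ⟨d, hd⟩ : ∃ d : ℕ, LocCoh.depth R R = d := by
    refine WithTop.ne_top_iff_exists.mp ?_ |>.imp fun d hd ↦ hd.symm
    intro htop
    obtain ⟨n, hn⟩ := CAlgReg.exists_dim (R := R)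
    have := Depth.depth_le_ringKrullDim (R := R) (M := R)
    rw [htop, hn] at this
    exact absurd (WithBot.coe_le_coe.mp (this : _ ≤ ((n : ℕ∞) : WithBot ℕ∞)))
      (not_le.mpr (ENat.natCast_lt_top n))
  obtain ⟨rs, hl, hm, hreg⟩ := (Depth.le_idealDepth_iff_exists hne (n := d)).mp hd.ge
  have hQ := Depth.idealDepth_quot_ofList_add_length rs R hreg hm
  rw [hl] at hQ
  have hQ0 : LocCoh.depth R (R ⧸ Ideal.ofList rs • (⊤ : Submodule R R)) = 0 := by
    have h' : LocCoh.depth R (R ⧸ Ideal.ofList rs • (⊤ : Submodule R R)) + d = 0 + (d : ℕ∞) := by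
      rw [zero_add]; exact hQ.trans hd
    exact (ENat.add_left_injective_of_ne_top (ENat.natCast_ne_top d)) h'
  have hregS : IsWeaklyRegular S (rs.map (algebraMap R S)) := hreg.of_flat
  have hmS : ∀ r ∈ rs.map (algebraMap R S), r ∈ maximalIdeal S := by
    intro r hr
    obtain ⟨a, ha, rfl⟩ := List.mem_map.mp hr
    exact h ▸ Ideal.mem_map_of_mem _ (hm a ha)
  have hQS := Depth.idealDepth_quot_ofList_add_length (rs.map (algebraMap R S)) S hregS hmS
  rw [List.length_map, hl] at hQS
  have hle : Ideal.ofList rs ≤ maximalIdeal R := Depth.ofList_le hm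
  have hle' : Ideal.ofList (rs.map (algebraMap R S)) ≤ maximalIdeal S := Depth.ofList_le hmS
  have e1 : Ideal.ofList rs • (⊤ : Submodule R R) = Ideal.ofList rs := by
    rw [Ideal.smul_eq_mul]; exact Ideal.mul_top _
  have e2 : Ideal.ofList (rs.map (algebraMap R S)) • (⊤ : Submodule S S) =
      (Ideal.ofList rs).map (algebraMap R S) := by
    rw [Ideal.smul_eq_mul, Ideal.map_ofList]; exact Ideal.mul_top _
  have hmap : (Ideal.ofList rs).map (algebraMap R S) ≠ ⊤ :=
    fun ht ↦ (maximalIdeal.isMaximal S).ne_top (top_le_iff.mp (ht ▸ Ideal.map_ofList (algebraMap R S) rs ▸ hle'))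
  have : Nontrivial (R ⧸ Ideal.ofList rs • (⊤ : Submodule R R)) :=
    Submodule.Quotient.nontrivial_iff.mpr
      (by rw [e1]; exact ne_top_of_le_ne_top (maximalIdeal.isMaximal R).ne_top hle)
  have : Nontrivial (S ⧸ Ideal.ofList (rs.map (algebraMap R S)) • (⊤ : Submodule S S)) :=
    Submodule.Quotient.nontrivial_iff.mpr (by rw [e2]; exact hmap)
  have hS0 : LocCoh.depth S (S ⧸ Ideal.ofList (rs.map (algebraMap R S)) • (⊤ : Submodule S S)) = 0 := by
    rw [Depth.depth_eq_zero_iff] at hQ0 ⊢
    obtain ⟨-, x, hx⟩ := isAssociatedPrime_iff.mp (AssociatedPrimes.mem_iff.mp hQ0)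
    obtain ⟨x, rfl⟩ := Submodule.Quotient.mk_surjective _ x
    have hxJ : x ∉ Ideal.ofList rs := fun hxJ ↦ by
      rw [← e1] at hxJ
      rw [(Submodule.Quotient.mk_eq_zero _).mpr hxJ] at hx
      exact (maximalIdeal.isMaximal R).ne_top (hx.trans
        (eq_top_iff.mpr fun r _ ↦ by simp [Submodule.mem_colon_singleton]))
    have hmx : ∀ r ∈ maximalIdeal R, r * x ∈ Ideal.ofList rs := fun r hr ↦ by
      rw [hx, Submodule.mem_colon_singleton, ← Submodule.Quotient.mk_smul, Submodule.mem_bot,
        Submodule.Quotient.mk_eq_zero, e1] at hr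
      exact hr
    let y : S ⧸ Ideal.ofList (rs.map (algebraMap R S)) • (⊤ : Submodule S S) :=
      Submodule.Quotient.mk (algebraMap R S x)
    have hy : y ≠ 0 := fun hy ↦ by
      rw [Submodule.Quotient.mk_eq_zero, e2, ← Ideal.mem_comap,
        Ideal.comap_map_eq_self_of_faithfullyFlat] at hy
      exact hxJ hy
    have hkill : maximalIdeal S ≤ (⊥ : Submodule S _).colon {y} := by
      rw [← h, Ideal.map_le_iff_le_comap]
      intro r hr
      rw [Ideal.mem_comap, Submodule.mem_colon_singleton, ← Submodule.Quotient.mk_smul,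
        Submodule.mem_bot, Submodule.Quotient.mk_eq_zero, e2, smul_eq_mul, ← map_mul]
      exact Ideal.mem_map_of_mem _ (hmx r hr)
    refine AssociatedPrimes.mem_iff.mpr (isAssociatedPrime_iff.mpr ⟨inferInstance, y, ?_⟩)
    exact (maximalIdeal.isMaximal S).eq_of_le (fun htop ↦ hy (by
      have := htop.ge (Submodule.mem_top : (1 : S) ∈ _)
      simpa using this)) hkill
  change LocCoh.idealDepth (maximalIdeal S) S = _
  rw [← hQS, hd]
  change LocCoh.depth S _ + _ = _
  rw [hS0, zero_add]

end Groth.Agent.Hensel
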