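import Mathlib
import Groth.Agent.Hensel.Henselization
import Groth.Prelude.Def_EGA4b

/-!
The completion of a henselization.
-/

set_option autoImplicit false
universe u

namespace Groth.Agent.Hensel

theorem exists_completion_equiv {R S : Type u} [CommRing R] [CommRing S] [Algebra R S] (I : Ideal R) (J : Ideal S)
    (hJ : ∀ n, (I ^ n).map (algebraMap R S) = J ^ n)
    (hbij : ∀ n, Function.Bijective
      (Ideal.quotientMap ((I ^ n).map (algebraMap R S)) (algebraMap R S) Ideal.le_comap_map)) :
    ∃ e : AdicCompletion I R ≃+* AdicCompletion J S,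
      ∀ r : R, e (AdicCompletion.of I R r) = AdicCompletion.of J S (algebraMap R S r) := by
  let q : ∀ n, (R ⧸ I ^ n) ≃+* (S ⧸ J ^ n) := fun n =>
    (RingEquiv.ofBijective _ (hbij n)).trans (Ideal.quotEquivOfEq (hJ n))
  have hq : ∀ n r, q n (Ideal.Quotient.mk _ r) = Ideal.Quotient.mk _ (algebraMap R S r) := fun n r => rfl
  have hqc : ∀ {m n : ℕ} (hle : m ≤ n) (z : R ⧸ I ^ n),
      Ideal.Quotient.factorPow J hle (q n z) = q m (Ideal.Quotient.factorPow I hle z) := by
    intro m n hle z
    obtain ⟨r, rfl⟩ := Ideal.Quotient.mk_surjective z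
    rfl
  let fwd : AdicCompletion I R →+* AdicCompletion J S :=
    AdicCompletion.liftRingHom J (fun n => (q n).toRingHom.comp (AdicCompletion.evalₐ I n).toRingHom) fun {m n} hle =>
      RingHom.ext fun x => by
        obtain ⟨s, rfl⟩ := AdicCompletion.mk_surjective I R x
        simp only [RingHom.comp_apply, AlgHom.toRingHom_eq_coe, RingEquiv.toRingHom_eq_coe, RingHom.coe_coe]
        rw [hqc hle]
        congr 1
        erw [AdicCompletion.evalₐ_mk, AdicCompletion.evalₐ_mk]
        refine Ideal.Quotient.eq.2 ?_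
        have := SModEq.sub_mem.1 (s.2 hle)
        rw [smul_eq_mul, Ideal.mul_top] at this
        rw [← neg_sub]
        exact neg_mem this
  have hf : ∀ n x, AdicCompletion.evalₐ J n (fwd x) = q n (AdicCompletion.evalₐ I n x) :=
    fun n x => AdicCompletion.evalₐ_liftRingHom _ _ _ _ _
  have hcompat : ∀ {m n : ℕ} (hle : m ≤ n) (y : AdicCompletion J S),
      Ideal.Quotient.factorPow J hle (AdicCompletion.evalₐ J n y) = AdicCompletion.evalₐ J m y := by
    intro m n hle y
    obtain ⟨s, rfl⟩ := AdicCompletion.mk_surjective J S y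
    erw [AdicCompletion.evalₐ_mk, AdicCompletion.evalₐ_mk]
    refine Ideal.Quotient.eq.2 ?_
    have := SModEq.sub_mem.1 (s.2 hle)
    rw [smul_eq_mul, Ideal.mul_top] at this
    rw [← neg_sub]
    exact neg_mem this
  let bwd : AdicCompletion J S →+* AdicCompletion I R :=
    AdicCompletion.liftRingHom I (fun n => (q n).symm.toRingHom.comp (AdicCompletion.evalₐ J n).toRingHom)
      fun {m n} hle => RingHom.ext fun y => (q m).injective (by
        simp only [RingHom.comp_apply, AlgHom.toRingHom_eq_coe, RingEquiv.toRingHom_eq_coe, RingHom.coe_coe]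
        rw [← hqc hle, RingEquiv.apply_symm_apply, RingEquiv.apply_symm_apply, hcompat hle])
  have hb : ∀ n y, AdicCompletion.evalₐ I n (bwd y) = (q n).symm (AdicCompletion.evalₐ J n y) :=
    fun n y => AdicCompletion.evalₐ_liftRingHom _ _ _ _ _
  refine ⟨RingEquiv.ofRingHom fwd bwd (RingHom.ext fun y => AdicCompletion.ext_evalₐ fun n => ?_)
    (RingHom.ext fun x => AdicCompletion.ext_evalₐ fun n => ?_), fun r => AdicCompletion.ext_evalₐ fun n => ?_⟩
  · simp [hf, hb]
  · simp [hf, hb]
  · show AdicCompletion.evalₐ J n (fwd _) = _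
    rw [hf, AdicCompletion.evalₐ_of, AdicCompletion.evalₐ_of, hq]

theorem henselization_cpl_equiv {R S : Type u} [CommRing R] [IsLocalRing R] [CommRing S] [IsLocalRing S]
    [Algebra R S] [IsLocalHom (algebraMap R S)] [_root_.Hensel.IsHenselization R S] :
    Nonempty (EGA4.Cpl R ≃ₐ[R] EGA4.Cpl S) := by
  have hmax := henselization_map_maximalIdeal (R := R) (S := S)
  obtain ⟨e, he⟩ := exists_completion_equiv (IsLocalRing.maximalIdeal R) (IsLocalRing.maximalIdeal S)
    (fun n => by rw [Ideal.map_pow, hmax]) (fun n => henselization_quotient_pow_bijective n)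
  refine ⟨AlgEquiv.ofRingEquiv (f := e) fun r => ?_⟩
  rw [AdicCompletion.algebraMap_apply, Algebra.algebraMap_self, RingHom.id_apply, he,
    AdicCompletion.algebraMap_apply]

end Groth.Agent.Hensel
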