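import Groth.Agent.RegLocus.SemilocalCpl
import Groth.Agent.Hensel.TrivialFibresAtPrime
import Groth.Agent.Hensel.CplEquiv
import Groth.Agent.AdicNoeth.Basic

/-!
Formal catenarity of henselizations.
-/

set_option autoImplicit false
universe u

open IsLocalRing TensorProduct

namespace Groth.Agent.Hensel

/-- The completion of a quotient as a quotient of the completion. -/
theorem exists_cpl_quotient (A : Type u) [CommRing A] [IsNoetherianRing A] [IsLocalRing A] (I : Ideal A)
    [Nontrivial (A ⧸ I)] :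
    ∃ π : EGA4.Cpl A →+* EGA4.Cpl (A ⧸ I), Function.Surjective π ∧
      RingHom.ker π = I.map (algebraMap A (EGA4.Cpl A)) := by
  obtain ⟨e⟩ := RegLocus.cplQuotient_equiv A I
  let q := Algebra.TensorProduct.quotIdealMapEquivTensorQuot (EGA4.Cpl A) I
  let g : (EGA4.Cpl A ⧸ I.map (algebraMap A (EGA4.Cpl A))) ≃+* EGA4.Cpl (A ⧸ I) :=
    q.toRingEquiv.trans ((Algebra.TensorProduct.comm A (EGA4.Cpl A) (A ⧸ I)).toRingEquiv.trans e.toRingEquiv)
  refine ⟨g.toRingHom.comp (Ideal.Quotient.mk _), g.surjective.comp Ideal.Quotient.mk_surjective, ?_⟩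
  rw [RingHom.ker_comp_of_injective _ g.injective, Ideal.mk_ker]

section Quotient

variable {T W : Type u} [CommRing T] [CommRing W] (π : T →+* W) (hπ : Function.Surjective π)
include hπ

theorem ringKrullDim_quotient_comap (q : Ideal W) :
    ringKrullDim (W ⧸ q) = ringKrullDim (T ⧸ q.comap π) := by
  let f := (Ideal.Quotient.mk q).comp π
  have hf : RingHom.ker f = q.comap π := by rw [← RingHom.comap_ker, Ideal.mk_ker]
  exact (ringKrullDim_eq_of_ringEquiv ((Ideal.quotEquivOfEq hf.symm).trans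
    (RingHom.quotientKerEquivOfSurjective (f := f) (Ideal.Quotient.mk_surjective.comp hπ)))).symm

theorem ringKrullDim_eq_quotient_ker : ringKrullDim W = ringKrullDim (T ⧸ RingHom.ker π) :=
  (ringKrullDim_eq_of_ringEquiv (RingHom.quotientKerEquivOfSurjective hπ)).symm

theorem isEquidim_iff_ker : EGA4.IsEquidim W ↔
    ∀ Q ∈ (RingHom.ker π).minimalPrimes, ringKrullDim (T ⧸ Q) = ringKrullDim (T ⧸ RingHom.ker π) := by
  have hm : (RingHom.ker π).minimalPrimes = Ideal.comap π '' minimalPrimes W := by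
    rw [RingHom.ker_eq_comap_bot, Ideal.comap_minimalPrimes_eq_of_surjective hπ]
  rw [hm, ← ringKrullDim_eq_quotient_ker π hπ]
  constructor
  · rintro h _ ⟨q, hq, rfl⟩
    rw [← ringKrullDim_quotient_comap π hπ]
    exact h q hq
  · intro h q hq
    rw [ringKrullDim_quotient_comap π hπ]
    exact h _ ⟨q, hq, rfl⟩

theorem isStrictlyEquidim_iff_ker [IsNoetherianRing T] : EGA4.IsStrictlyEquidim W ↔
    ∀ (Q : Ideal T), Q.IsPrime → (∃ w, ∀ y, y ∈ Q ↔ y * w ∈ RingHom.ker π) →
      ringKrullDim (T ⧸ Q) = ringKrullDim (T ⧸ RingHom.ker π) := by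
  haveI : IsNoetherianRing W := isNoetherianRing_of_surjective _ _ π hπ
  rw [← ringKrullDim_eq_quotient_ker π hπ]
  constructor
  · intro h Q hQp ⟨w, hw⟩
    have hle : RingHom.ker π ≤ Q := fun y hy => (hw y).2 (Ideal.mul_mem_right _ _ hy)
    have hc : (Q.map π).comap π = Q := by
      rw [Ideal.comap_map_of_surjective _ hπ, ← RingHom.ker_eq_comap_bot, sup_eq_left.2 hle]
    haveI := Ideal.map_isPrime_of_surjective hπ hle
    rw [← hc, ← ringKrullDim_quotient_comap π hπ]
    refine h _ (isAssociatedPrime_iff.2 ⟨inferInstance, π w, ?_⟩)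
    ext z
    obtain ⟨y, rfl⟩ := hπ z
    rw [Submodule.mem_colon_singleton, Submodule.mem_bot, smul_eq_mul, ← map_mul, ← RingHom.mem_ker,
      ← hw, ← Ideal.mem_comap, hc]
  · intro h q hq
    obtain ⟨hqp, z, hz⟩ := isAssociatedPrime_iff.1 hq
    obtain ⟨w, rfl⟩ := hπ z
    rw [ringKrullDim_quotient_comap π hπ]
    refine h _ (Ideal.IsPrime.comap π) ⟨w, fun y => ?_⟩
    rw [Ideal.mem_comap, hz, Submodule.mem_colon_singleton, Submodule.mem_bot, smul_eq_mul, RingHom.mem_ker,
      map_mul]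

end Quotient

section Flat

variable {R S T : Type u} [CommRing R] [CommRing S] [CommRing T] [Algebra R S] [Algebra S T] [Algebra R T]
  [IsScalarTower R S T]

theorem TrivialFibres.exists_colon [IsNoetherianRing S] (h : TrivialFibres R S) (P : Ideal S) [P.IsPrime] :
    ∃ s ∉ P, ∀ x, x * s ∈ (P.under R).map (algebraMap R S) ↔ x ∈ P := by
  classical
  have hmap := h.map_eq P
  rw [IsScalarTower.algebraMap_eq R S (Localization.AtPrime P), ← Ideal.map_map] at hmap
  have hle : (P.under R).map (algebraMap R S) ≤ P := Ideal.map_comap_le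
  obtain ⟨G, hG⟩ := (IsNoetherian.noetherian P : P.FG)
  have hG' : ∀ g ∈ G, ∃ s ∉ P, g * s ∈ (P.under R).map (algebraMap R S) := fun g hg => by
    have : algebraMap S (Localization.AtPrime P) g ∈ maximalIdeal _ :=
      (IsLocalization.AtPrime.to_map_mem_maximal_iff (Localization.AtPrime P) P g).2 (hG ▸ Submodule.subset_span hg)
    rw [← hmap, IsLocalization.mem_map_algebraMap_iff P.primeCompl] at this
    obtain ⟨⟨⟨i, hi⟩, ⟨m, hm⟩⟩, hx⟩ := this
    rw [← map_mul, IsLocalization.eq_iff_exists P.primeCompl] at hx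
    obtain ⟨⟨c, hc⟩, hcx⟩ := hx
    refine ⟨c * m, ‹P.IsPrime›.mul_notMem hc hm, ?_⟩
    rw [show g * (c * m) = c * i by
      have : c * (g * m) = c * i := hcx
      rw [← this]; ring]
    exact Ideal.mul_mem_left _ _ hi
  choose! s hs hs' using hG'
  have hsP : (∏ g ∈ G, s g) ∉ P := fun hm => by
    obtain ⟨g, hg, hgm⟩ := (Ideal.IsPrime.prod_mem_iff).1 hm
    exact hs g hg hgm
  refine ⟨∏ g ∈ G, s g, hsP, fun x => ⟨fun hx => ((‹P.IsPrime›.mem_or_mem (hle hx)).resolve_right hsP), fun hx => ?_⟩⟩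
  have hPle : Submodule.span S (G : Set S) ≤ ((P.under R).map (algebraMap R S)).colon {∏ g ∈ G, s g} := by
    refine Submodule.span_le.2 fun g hg => ?_
    rw [SetLike.mem_coe, Submodule.mem_colon_singleton, smul_eq_mul, ← Finset.mul_prod_erase _ _ hg, ← mul_assoc]
    exact Ideal.mul_mem_right _ _ (hs' g hg)
  simpa [Submodule.mem_colon_singleton] using hPle (hG.symm ▸ hx)

/-- colon ideals commute with flat extensions -/
theorem mem_map_of_mul_mem_map [Module.Flat S T] {J P : Ideal S} {s : S}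
    (hs : ∀ x, x * s ∈ J → x ∈ P) {x : T} (hx : x * algebraMap S T s ∈ J.map (algebraMap S T)) :
    x ∈ P.map (algebraMap S T) := by
  classical
  rw [Ideal.map, Submodule.mem_span_image_iff_exists_fun] at hx
  obtain ⟨G, hG, c, hc⟩ := hx
  let f : Option G → S := fun o => o.elim s (fun g => -(g : S))
  let y : Option G → T := fun o => o.elim x c
  have hrel : ∑ o, f o • y o = 0 := by
    rw [Fintype.sum_option]
    simp only [f, y, Option.elim, Algebra.smul_def, map_neg, neg_mul]
    rw [Finset.sum_neg_distrib, add_neg_eq_zero, mul_comm, ← hc]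
    exact Finset.sum_congr rfl fun g _ => mul_comm _ _
  obtain ⟨k, a, z, hyz, haf⟩ := Module.Flat.isTrivialRelation_of_sum_smul_eq_zero (R := S) (M := T) (f := f) (x := y) hrel
  have hxz : x = ∑ j, a none j • z j := hyz none
  rw [hxz]
  refine Ideal.sum_mem _ fun j _ => ?_
  rw [Algebra.smul_def]
  refine Ideal.mul_mem_right _ _ (Ideal.mem_map_of_mem _ (hs _ ?_))
  have := haf j
  rw [Fintype.sum_option] at this
  rw [mul_comm, show s * a none j = -∑ g, f (some g) * a (some g) j from eq_neg_of_add_eq_zero_left this]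
  refine neg_mem (Ideal.sum_mem _ fun g _ => Ideal.mul_mem_right _ _ ?_)
  exact neg_mem (hG g.2)

theorem TrivialFibres.exists_ann [IsNoetherianRing S] [Module.Flat S T] (h : TrivialFibres R S) (P : Ideal S)
    [P.IsPrime] (Q : Ideal T) (hQ : ∃ w, ∀ y, y ∈ Q ↔ y * w ∈ P.map (algebraMap S T)) :
    ∃ w, ∀ y, y ∈ Q ↔ y * w ∈ (P.under R).map (algebraMap R T) := by
  obtain ⟨s, -, hs⟩ := h.exists_colon P
  obtain ⟨w, hw⟩ := hQ
  rw [IsScalarTower.algebraMap_eq R S T, ← Ideal.map_map]
  refine ⟨w * algebraMap S T s, fun y => ?_⟩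
  rw [hw, ← mul_assoc]
  refine ⟨fun hy => ?_, fun hy => mem_map_of_mul_mem_map (fun x => (hs x).1) hy⟩
  have : (P.map (algebraMap S T)) * Ideal.span {algebraMap S T s} ≤
      ((P.under R).map (algebraMap R S)).map (algebraMap S T) := by
    rw [← Set.image_singleton, ← Ideal.map_span, ← Ideal.map_mul]
    refine Ideal.map_mono (Ideal.mul_le.2 fun a ha b hb => ?_)
    obtain ⟨r, rfl⟩ := Ideal.mem_span_singleton'.1 hb
    rw [mul_left_comm]
    exact Ideal.mul_mem_left _ _ ((hs a).2 ha)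
  exact this (Ideal.mul_mem_mul hy (Ideal.mem_span_singleton_self _))

theorem TrivialFibres.mem_minimalPrimes [IsNoetherianRing S] [Module.Flat S T] (h : TrivialFibres R S)
    (P : Ideal S) [P.IsPrime] {Q : Ideal T} (hQ : Q ∈ (P.map (algebraMap S T)).minimalPrimes) :
    Q ∈ ((P.under R).map (algebraMap R T)).minimalPrimes := by
  haveI := hQ.isPrime
  have hPQ : P ≤ Q.under S := Ideal.map_le_iff_le_comap.1 hQ.le
  have hQP : Q.under S = P := by
    by_contra hne
    have hlt : P < Q.under S := lt_of_le_of_ne hPQ (Ne.symm hne)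
    obtain ⟨Q', hQ'lt, hQ'p, hQ'o⟩ := Ideal.exists_ideal_lt_liesOver_of_lt (p := P) (q := Q.under S) Q hlt
    exact hQ'lt.not_ge (hQ.2 ⟨hQ'p, Ideal.map_le_iff_le_comap.2 hQ'o.over.le⟩ hQ'lt.le)
  refine ⟨⟨inferInstance, le_trans ?_ hQ.le⟩, fun Q' hQ' hle => ?_⟩
  · rw [IsScalarTower.algebraMap_eq R S T, ← Ideal.map_map]
    exact Ideal.map_mono Ideal.map_comap_le
  haveI := hQ'.1
  have hP' : Q'.under S ≤ P := hQP ▸ Ideal.comap_mono hle
  obtain ⟨s, hs, hsP⟩ := h.exists_colon P
  have h2 : (P.under R).map (algebraMap R S) ≤ Q'.under S := by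
    have := hQ'.2
    rw [IsScalarTower.algebraMap_eq R S T, ← Ideal.map_map] at this
    exact Ideal.map_le_iff_le_comap.1 this
  refine hQ.2 ⟨hQ'.1, Ideal.map_le_iff_le_comap.2 fun a ha => ?_⟩ hle
  exact ((Ideal.IsPrime.comap (algebraMap S T)).mem_or_mem (h2 ((hsP a).2 ha))).resolve_right fun hsQ => hs (hP' hsQ)

end Flat

section Henselization

variable {R S : Type u} [CommRing R] [IsLocalRing R] [IsNoetherianRing R] [CommRing S] [IsLocalRing S]
  [Algebra R S] [IsLocalHom (algebraMap R S)] [_root_.Hensel.IsHenselization R S]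

theorem exists_cpl_quotient_henselization (p : Ideal R) [p.IsPrime] :
    ∃ π : EGA4.Cpl S →+* EGA4.Cpl (R ⧸ p), Function.Surjective π ∧
      RingHom.ker π = p.map (algebraMap R (EGA4.Cpl S)) := by
  obtain ⟨π, hπ, hk⟩ := exists_cpl_quotient R p
  obtain ⟨e⟩ := henselization_cpl_equiv (R := R) (S := S)
  refine ⟨π.comp e.symm.toRingEquiv.toRingHom, hπ.comp e.symm.surjective, ?_⟩
  rw [← RingHom.comap_ker, hk, show algebraMap R (EGA4.Cpl S) =
    e.toRingEquiv.toRingHom.comp (algebraMap R (EGA4.Cpl R)) from RingHom.ext fun r => (e.commutes r).symm,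
    ← Ideal.map_map]
  exact Ideal.comap_symm e.toRingEquiv

theorem henselization_formallyStrictlyCatenary [IsNoetherianRing S] (h : EGA4.IsFormallyStrictlyCatenary R) :
    EGA4.IsFormallyStrictlyCatenary S := by
  intro P _
  haveI : IsNoetherianRing (EGA4.Cpl S) := AdicNoeth.isNoetherianRing_adicCompletion _
  obtain ⟨π, hπ, hk⟩ := exists_cpl_quotient S P
  obtain ⟨π₀, hπ₀, hk₀⟩ := exists_cpl_quotient_henselization (S := S) (P.under R)
  have hR := (isStrictlyEquidim_iff_ker π₀ hπ₀).1 (h (P.under R))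
  rw [isStrictlyEquidim_iff_ker π hπ, hk]
  rw [hk₀] at hR
  intro Q hQp hQ
  have htf := henselization_trivialFibres (R := R) (S := S)
  have h1 := hR Q hQp (htf.exists_ann P Q hQ)
  obtain ⟨w, hw⟩ := hQ
  rw [h1]
  refine le_antisymm ?_ ?_
  · rw [← h1]
    exact ringKrullDim_le_of_surjective (Ideal.Quotient.factor (fun y hy => (hw y).2 (Ideal.mul_mem_right _ _ hy)))
      (Ideal.Quotient.factor_surjective _)
  · refine ringKrullDim_le_of_surjective (Ideal.Quotient.factor ?_) (Ideal.Quotient.factor_surjective _)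
    rw [IsScalarTower.algebraMap_eq R S (EGA4.Cpl S), ← Ideal.map_map]
    exact Ideal.map_mono Ideal.map_comap_le

theorem henselization_formallyCatenary [IsNoetherianRing S] (h : EGA4.IsFormallyCatenary R) :
    EGA4.IsFormallyCatenary S := by
  intro P _
  haveI : IsNoetherianRing (EGA4.Cpl S) := AdicNoeth.isNoetherianRing_adicCompletion _
  obtain ⟨π, hπ, hk⟩ := exists_cpl_quotient S P
  obtain ⟨π₀, hπ₀, hk₀⟩ := exists_cpl_quotient_henselization (S := S) (P.under R)
  have hR := (isEquidim_iff_ker π₀ hπ₀).1 (h (P.under R))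
  show EGA4.IsEquidim _
  rw [isEquidim_iff_ker π hπ, hk]
  rw [hk₀] at hR
  intro Q hQ
  have htf := henselization_trivialFibres (R := R) (S := S)
  have h1 := hR Q (htf.mem_minimalPrimes P hQ)
  rw [h1]
  refine le_antisymm ?_ ?_
  · rw [← h1]
    exact ringKrullDim_le_of_surjective (Ideal.Quotient.factor hQ.le) (Ideal.Quotient.factor_surjective _)
  · refine ringKrullDim_le_of_surjective (Ideal.Quotient.factor ?_) (Ideal.Quotient.factor_surjective _)
    rw [IsScalarTower.algebraMap_eq R S (EGA4.Cpl S), ← Ideal.map_map]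
    exact Ideal.map_mono Ideal.map_comap_le

end Henselization

end Groth.Agent.Hensel
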