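import Groth.Agent.Hensel.Henselization
import Mathlib.RingTheory.Smooth.IntegralClosure
import Mathlib.RingTheory.Etale.Field
import Mathlib.RingTheory.Unramified.Field
import Mathlib.RingTheory.Artinian.Module
import Mathlib.RingTheory.Polynomial.ScaleRoots
import Mathlib.RingTheory.IntegralClosure.IntegrallyClosed
import Mathlib.RingTheory.Etale.Weakly
import Mathlib.RingTheory.Flat.TorsionFree

/-!
# Normality ascends to henselizations
-/

set_option autoImplicit false

universe u

open TensorProduct Polynomial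

namespace Groth.Agent.Hensel

section etale

variable {R E : Type u} [CommRing R] [IsDomain R] [CommRing E] [Algebra R E]

local notation "F" => FractionRing R

theorem tmul_one_injective [Module.Flat R E] :
    Function.Injective (fun e : E ↦ (e ⊗ₜ[R] (1 : F) : E ⊗[R] F)) :=
  Algebra.TensorProduct.includeLeft_injective (S := R) (IsFractionRing.injective R F)

theorem exists_smul_eq_tmul_one (z : E ⊗[R] F) :
    ∃ (r : R) (e : E), r ≠ 0 ∧ r • z = e ⊗ₜ[R] (1 : F) := by
  induction z using TensorProduct.induction_on with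
  | zero => exact ⟨1, 0, one_ne_zero, by simp⟩
  | tmul e y =>
    obtain ⟨a, ⟨b, hb⟩, rfl⟩ := IsLocalization.exists_mk'_eq (nonZeroDivisors R) y
    refine ⟨b, a • e, nonZeroDivisors.ne_zero hb, ?_⟩
    rw [← TensorProduct.tmul_smul, TensorProduct.smul_tmul, Algebra.smul_def, Algebra.smul_def,
      IsLocalization.mk'_spec' F a (⟨b, hb⟩ : nonZeroDivisors R), mul_one]
  | add x y hx hy =>
    obtain ⟨r, e, hr, hx⟩ := hx
    obtain ⟨s, f, hs, hy⟩ := hy
    refine ⟨r * s, s • e + r • f, mul_ne_zero hr hs, ?_⟩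
    rw [smul_add, mul_comm, mul_smul, hx, mul_comm, mul_smul, hy, TensorProduct.add_tmul,
      TensorProduct.smul_tmul', TensorProduct.smul_tmul']

/-- In an étale algebra over a normal domain: integral fractions are in the algebra. -/
theorem exists_eq_smul_of_scaleRoots [IsIntegrallyClosed R] [Algebra.Smooth R E] {r : R} (hr : r ≠ 0)
    {h : E} {P : E[X]} (hP : P.Monic) (he : (P.scaleRoots (algebraMap R E r)).eval h = 0) :
    ∃ e, h = r • e := by
  set y : F := (algebraMap R F r)⁻¹
  have hy : algebraMap R F r * y = 1 :=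
    mul_inv_cancel₀ ((map_ne_zero_iff _ (IsFractionRing.injective R F)).mpr hr)
  let z : E ⊗[R] F := h ⊗ₜ y
  have hs : algebraMap E (E ⊗[R] F) (algebraMap R E r) = (1 : E) ⊗ₜ[R] algebraMap R F r := by
    change algebraMap R E r ⊗ₜ[R] (1 : F) = _
    rw [Algebra.algebraMap_eq_smul_one, TensorProduct.smul_tmul, Algebra.algebraMap_eq_smul_one]
  have hrz : algebraMap E (E ⊗[R] F) (algebraMap R E r) * z = algebraMap E _ h := by
    rw [hs, Algebra.TensorProduct.tmul_mul_tmul, one_mul, hy]
    rfl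
  have hz : IsIntegral E z := by
    refine ⟨P, hP, ?_⟩
    have h1 := scaleRoots_eval₂_mul (p := P) (algebraMap E (E ⊗[R] F)) z (algebraMap R E r)
    rw [hrz, Polynomial.eval₂_at_apply, he, map_zero] at h1
    have hu : IsUnit (algebraMap E (E ⊗[R] F) (algebraMap R E r)) :=
      .of_mul_eq_one ((1 : E) ⊗ₜ[R] y) (by rw [hs, Algebra.TensorProduct.tmul_mul_tmul, one_mul, hy]; rfl)
    exact (hu.pow _).mul_left_cancel (by rw [mul_zero]; exact h1.symm)
  obtain ⟨w, hw⟩ := (TensorProduct.toIntegralClosure_bijective_of_smooth (R := R) (S := E) (B := F)).2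
    ⟨z, hz⟩
  have key : ∀ w : E ⊗[R] integralClosure R F,
      ∃ e : E, ((TensorProduct.toIntegralClosure R E F w : integralClosure E (E ⊗[R] F)) : E ⊗[R] F) =
        e ⊗ₜ 1 := by
    intro w
    induction w using TensorProduct.induction_on with
    | zero => exact ⟨0, by simp⟩
    | tmul a b =>
      obtain ⟨c, hc⟩ := IsIntegrallyClosed.algebraMap_eq_of_integral (R := R) (K := F) b.2
      refine ⟨c • a, ?_⟩
      rw [TensorProduct.smul_tmul, ← Algebra.algebraMap_eq_smul_one, hc]
      rfl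
    | add a b ha hb =>
      obtain ⟨e, he⟩ := ha
      obtain ⟨f, hf⟩ := hb
      exact ⟨e + f, by rw [map_add, AddMemClass.coe_add, he, hf, TensorProduct.add_tmul]⟩
  obtain ⟨e, he'⟩ := key w
  rw [hw] at he'
  refine ⟨e, tmul_one_injective (R := R) ?_⟩
  change h ⊗ₜ[R] (1 : F) = (r • e) ⊗ₜ[R] (1 : F)
  rw [show h ⊗ₜ[R] (1 : F) = algebraMap E _ h from rfl, ← hrz, show z = e ⊗ₜ 1 from he',
    hs, Algebra.TensorProduct.tmul_mul_tmul, one_mul, mul_one, Algebra.algebraMap_eq_smul_one,
    TensorProduct.tmul_smul, TensorProduct.smul_tmul']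

/-- Generic fibres of étale algebras are von Neumann regular. -/
theorem exists_sq_mul_eq [Algebra.Etale R E] (x : E) :
    ∃ (r : R) (v : E), r ≠ 0 ∧ x * x * v = r • x := by
  let E' := F ⊗[R] E
  have : IsReduced E' := Algebra.FormallyUnramified.isReduced_of_field F E'
  have : Module.Finite F E' := Algebra.FormallyUnramified.finite_of_free F E'
  have : IsArtinianRing E' := isArtinian_of_tower F inferInstance
  let ι := Algebra.TensorProduct.comm R F E
  set x' := ι.symm (x ⊗ₜ (1 : F))
  obtain ⟨n, w, hw⟩ := IsArtinian.exists_pow_succ_smul_dvd x' (1 : E')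
  simp only [smul_eq_mul, mul_one] at hw
  have h0 : x' * (x' * w - 1) = 0 := by
    apply IsReduced.eq_zero
    refine ⟨n + 1, ?_⟩
    have : x' ^ n * (x' * w - 1) = 0 := by rw [mul_sub, mul_one, ← mul_assoc, ← pow_succ, hw, sub_self]
    rw [mul_pow, pow_succ, pow_succ (x' * w - 1),
      show x' ^ n * x' * ((x' * w - 1) ^ n * (x' * w - 1)) =
        x' * (x' * w - 1) ^ n * (x' ^ n * (x' * w - 1)) by ac_rfl, this, mul_zero]
  obtain ⟨r, v, hr, hv⟩ := exists_smul_eq_tmul_one (ι w)
  refine ⟨r, v, hr, tmul_one_injective (R := R) ?_⟩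
  have h1 := congr(ι $h0)
  simp only [map_mul, map_sub, map_one, map_zero, x', AlgEquiv.apply_symm_apply] at h1
  rw [mul_sub, mul_one, sub_eq_zero, ← mul_assoc] at h1
  change (x * x * v) ⊗ₜ[R] (1 : F) = (r • x) ⊗ₜ[R] (1 : F)
  rw [← TensorProduct.smul_tmul', ← h1, ← mul_smul_comm, hv, Algebra.TensorProduct.tmul_mul_tmul,
    Algebra.TensorProduct.tmul_mul_tmul, one_mul, one_mul]

end etale

section hens

variable {R K : Type u} [CommRing R] [Field K] [Algebra R K] [IsDomain R]

theorem smul_eq_zero_hens {r : R} (hr : r ≠ 0) {x : Hens R K} (h : r • x = 0) : x = 0 := by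
  obtain ⟨X, x, rfl⟩ := Hens.exists_rep x
  rw [← map_smul, ← map_zero (Hens.of X)] at h
  obtain ⟨Y, f, hf⟩ := (Hens.of_eq_iff _ _).mp h
  rw [map_smul, map_zero] at hf
  have hreg : IsSMulRegular Y.carrier r :=
    Module.Flat.isSMulRegular_of_nonZeroDivisors (mem_nonZeroDivisors_of_ne_zero hr)
  rw [← Hens.of_hom f, hreg (hf.trans (smul_zero r).symm), map_zero]

variable [IsIntegrallyClosed R]

theorem exists_eq_smul_hens {r : R} (hr : r ≠ 0) {h : Hens R K} {P : (Hens R K)[X]} (hP : P.Monic)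
    (he : (P.scaleRoots (algebraMap R _ r)).eval h = 0) : ∃ e, h = r • e := by
  classical
  set n := P.natDegree
  obtain ⟨X, c, hc⟩ := Hens.exists_rep_fintype
    (fun o : Option (Fin n) ↦ o.elim h fun i ↦ P.coeff i)
  let Q : X.carrier[X] := Polynomial.X ^ n + ∑ i : Fin n, C (c (some i)) * Polynomial.X ^ (i : ℕ)
  have hQm : Q.Monic := monic_X_pow_add (degree_sum_fin_lt _)
  have hQ : Q.map (Hens.of X).toRingHom = P := by
    conv_rhs => rw [Monic.as_sum hP]
    simp only [Q, Polynomial.map_add, Polynomial.map_pow, Polynomial.map_X, Polynomial.map_sum,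
      Polynomial.map_mul, Polynomial.map_C, n]
    rw [Finset.sum_range fun i ↦ C (P.coeff i) * Polynomial.X ^ i]
    congr 1
    refine Finset.sum_congr rfl fun i _ ↦ ?_
    congr 2
    exact hc (some i)
  rw [AlgHom.toRingHom_eq_coe] at hQ
  have h0 : Hens.of X ((Q.scaleRoots (algebraMap R _ r)).eval (c none)) = Hens.of X 0 := by
    rw [map_zero, ← AlgHom.coe_toRingHom, ← Polynomial.eval_map_apply,
      Polynomial.map_scaleRoots _ _ _ (by rw [hQm.leadingCoeff, map_one]; exact one_ne_zero), hQ]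
    simpa [show Hens.of X (c none) = h from hc none] using he
  obtain ⟨Y, f, hf⟩ := (Hens.of_eq_iff _ _).mp h0
  rw [map_zero, ← AlgHom.coe_toRingHom, ← Polynomial.eval_map_apply] at hf
  by_cases hY : Subsingleton Y.carrier
  · refine ⟨0, ?_⟩
    rw [smul_zero, ← show Hens.of X (c none) = h from hc none, ← Hens.of_hom f,
      Subsingleton.elim (f.1 (c none)) 0, map_zero]
  have : Nontrivial Y.carrier := not_subsingleton_iff_nontrivial.mp hY
  rw [Polynomial.map_scaleRoots _ _ _ (by rw [hQm.leadingCoeff, map_one]; exact one_ne_zero)] at hf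
  simp only [AlgHom.coe_toRingHom, AlgHom.commutes] at hf
  obtain ⟨e, he'⟩ := exists_eq_smul_of_scaleRoots hr (hQm.map _) hf
  refine ⟨Hens.of Y e, ?_⟩
  rw [← map_smul, ← he', Hens.of_hom]
  exact (hc none).symm

theorem exists_mul_eq_algebraMap_hens [IsLocalRing (Hens R K)] {x : Hens R K} (hx : x ≠ 0) :
    ∃ (r : R) (v : Hens R K), r ≠ 0 ∧ x * v = algebraMap R _ r := by
  obtain ⟨X, a, rfl⟩ := Hens.exists_rep x
  obtain ⟨r, v, hr, hv⟩ := exists_sq_mul_eq (R := R) a
  refine ⟨r, Hens.of X v, hr, ?_⟩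
  set h := Hens.of X (a * v)
  have hh : h * h = algebraMap R _ r * h := by
    rw [← Algebra.smul_def, ← map_smul, ← map_mul]
    refine congrArg _ ?_
    rw [← smul_mul_assoc, ← hv]
    ring
  obtain ⟨e, he⟩ := exists_eq_smul_hens (K := K) hr (h := h)
    (P := Polynomial.X ^ 2 - Polynomial.X) (by monicity!) (by
      rw [show (Polynomial.X ^ 2 - Polynomial.X : (Hens R K)[X]).scaleRoots (algebraMap R _ r) =
        Polynomial.X ^ 2 - C (algebraMap R _ r) * Polynomial.X from ?_]
      · simp [pow_two, hh]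
      · have hd : (Polynomial.X ^ 2 - Polynomial.X : (Hens R K)[X]).natDegree = 2 := by
          compute_degree!
        ext i
        rw [coeff_scaleRoots, hd]
        rcases i with _ | _ | _ | i <;> simp [coeff_X, coeff_X_pow])
  have hei : e * e = e := by
    have h1 : r • (r • (e * e - e)) = 0 := by
      rw [he, smul_mul_smul_comm, ← Algebra.smul_def, smul_smul] at hh
      rw [smul_sub, smul_sub, smul_smul, smul_smul, hh, sub_self]
    exact sub_eq_zero.mp (smul_eq_zero_hens hr (smul_eq_zero_hens hr h1))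
  rcases IsLocalRing.isUnit_or_isUnit_one_sub_self e with hu | hu
  · rw [← map_mul]
    change h = _
    rw [he, hu.mul_left_cancel (hei.trans (mul_one e).symm), Algebra.algebraMap_eq_smul_one]
  · exfalso
    have he0 : e = 0 := hu.mul_left_cancel (by rw [sub_mul, one_mul, hei]; simp)
    refine hx (smul_eq_zero_hens hr ?_)
    rw [← map_smul, ← hv, mul_assoc, map_mul]
    change _ * h = 0
    rw [he, he0, smul_zero, mul_zero]

theorem isDomain_and_isIntegrallyClosed_hens [IsLocalRing (Hens R K)] :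
    IsDomain (Hens R K) ∧ IsIntegrallyClosed (Hens R K) := by
  have hdom : IsDomain (Hens R K) := by
    have : NoZeroDivisors (Hens R K) := ⟨fun {x y} hxy ↦ by
      by_contra! h
      obtain ⟨r, v, hr, hv⟩ := exists_mul_eq_algebraMap_hens h.1
      refine h.2 (smul_eq_zero_hens hr ?_)
      rw [Algebra.smul_def, ← hv, mul_right_comm, hxy, zero_mul]⟩
    exact NoZeroDivisors.to_isDomain _
  refine ⟨hdom, (isIntegrallyClosed_iff (FractionRing (Hens R K))).mpr fun {x} hx ↦ ?_⟩
  obtain ⟨a, b, hb, rfl⟩ := IsFractionRing.div_surjective (A := Hens R K) x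
  obtain ⟨r, v, hr, hv⟩ := exists_mul_eq_algebraMap_hens (nonZeroDivisors.ne_zero hb)
  obtain ⟨P, hPm, hP⟩ := hx
  set φ := algebraMap (Hens R K) (FractionRing (Hens R K))
  have hφ : Function.Injective φ := IsFractionRing.injective _ _
  have hb0 : φ b ≠ 0 := (map_ne_zero_iff _ hφ).mpr (nonZeroDivisors.ne_zero hb)
  have hav : φ (algebraMap R _ r) * (φ a / φ b) = φ (a * v) := by
    rw [← hv, map_mul, map_mul]; field_simp
  obtain ⟨e, he⟩ := exists_eq_smul_hens (K := K) hr (h := a * v) hPm (hφ (by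
    rw [map_zero, ← Polynomial.eval₂_at_apply, ← hav, scaleRoots_eval₂_mul, hP, mul_zero]))
  refine ⟨e, ?_⟩
  have hr0 : φ (algebraMap R _ r) ≠ 0 := by
    rw [map_ne_zero_iff _ hφ]
    intro h0
    exact one_ne_zero (smul_eq_zero_hens hr (x := (1 : Hens R K)) (by rw [Algebra.smul_def, h0, zero_mul]))
  refine mul_left_cancel₀ hr0 ?_
  rw [hav, ← map_mul, ← Algebra.smul_def, ← he]

end hens

theorem isReduced_hens {R K : Type u} [CommRing R] [CommRing K] [Algebra R K]
    (h : ∀ (E : Type u) [CommRing E] [Algebra R E] [Algebra.Etale R E], IsReduced E) :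
    IsReduced (Hens R K) := by
  refine ⟨fun z hz ↦ ?_⟩
  obtain ⟨n, hn⟩ := hz
  obtain ⟨X, x, rfl⟩ := Hens.exists_rep z
  rw [← map_pow, ← map_zero (Hens.of X)] at hn
  obtain ⟨Y, f, hf⟩ := (Hens.of_eq_iff _ _).mp hn
  have := h Y.carrier
  rw [map_pow, map_zero] at hf
  rw [← Hens.of_hom f, IsNilpotent.eq_zero ⟨n, hf⟩, map_zero]

end Groth.Agent.Hensel
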