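import Mathlib.RingTheory.MvPolynomial.Homogeneous
import Mathlib.RingTheory.Polynomial.Basic
import Mathlib.RingTheory.LocalRing.ResidueField.Basic
import Mathlib.RingTheory.Filtration

/-!
# A Noetherianity criterion for local rings

A local ring with finitely generated maximal ideal in which every finitely generated ideal is closed
in the adic topology is Noetherian.
-/

set_option autoImplicit false

universe u

open IsLocalRing MvPolynomial

namespace Groth.Agent.Hensel

theorem eval_mem_pow_mul {S : Type u} [CommRing S] {ι : Type} (g : ι → S) {I J : Ideal S}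
    (hg : ∀ i, g i ∈ I) {F : MvPolynomial ι S} {n : ℕ} (hF : F.IsHomogeneous n)
    (hJ : ∀ d, F.coeff d ∈ J) : eval g F ∈ J * I ^ n := by
  classical
  rw [eval_eq]
  refine Ideal.sum_mem _ fun d hd ↦ Ideal.mul_mem_mul (hJ d) ?_
  have hdeg : ∑ i ∈ d.support, d i = n := by
    have := hF (mem_support_iff.mp hd)
    simpa [Finsupp.weight_apply, Finsupp.sum] using this
  rw [← hdeg, ← Finset.prod_pow_eq_pow_sum]
  exact Ideal.prod_mem_prod fun i _ ↦ Ideal.pow_mem_pow (hg i) _

theorem eval_mem_pow {S : Type u} [CommRing S] {ι : Type} (g : ι → S) {I : Ideal S}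
    (hg : ∀ i, g i ∈ I) {F : MvPolynomial ι S} {n : ℕ} (hF : F.IsHomogeneous n) :
    eval g F ∈ I ^ n := by
  simpa using eval_mem_pow_mul g hg (J := ⊤) hF fun _ ↦ Submodule.mem_top

theorem exists_isHomogeneous_eval_eq {S : Type u} [CommRing S] {ι : Type} [Fintype ι] (g : ι → S)
    (n : ℕ) {x : S} (hx : x ∈ Ideal.span (Set.range g) ^ n) :
    ∃ F : MvPolynomial ι S, F.IsHomogeneous n ∧ eval g F = x := by
  induction n generalizing x with
  | zero => exact ⟨C x, isHomogeneous_C _ _, eval_C _⟩
  | succ n ih =>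
    rw [pow_succ'] at hx
    induction hx using Submodule.mul_induction_on' with
    | mem_mul_mem a ha b hb =>
      obtain ⟨c, rfl⟩ := Ideal.mem_span_range_iff_exists_fun.mp ha
      obtain ⟨G, hG, rfl⟩ := ih hb
      refine ⟨(∑ i, C (c i) * X i) * G, add_comm n 1 ▸ IsHomogeneous.mul ?_ hG, by simp⟩
      exact IsHomogeneous.sum _ _ _ fun i _ ↦ (isHomogeneous_X S i).C_mul _
    | add a _ b _ ha hb =>
      obtain ⟨F, hF, rfl⟩ := ha
      obtain ⟨G, hG, rfl⟩ := hb
      exact ⟨F + G, hF.add hG, map_add _ _ _⟩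

theorem isNoetherianRing_of_fg_maximalIdeal_of_closed {S : Type u} [CommRing S] [IsLocalRing S]
    (hm : (maximalIdeal S).FG)
    (hclosed : ∀ J : Ideal S, J.FG → ∀ x : S, (∀ n, x ∈ J ⊔ maximalIdeal S ^ n) → x ∈ J) :
    IsNoetherianRing S := by
  classical
  set m := maximalIdeal S
  obtain ⟨r, g, hg⟩ := Submodule.fg_iff_exists_fin_generating_family.mp hm
  change Ideal.span (Set.range g) = m at hg
  have hgm : ∀ i, g i ∈ m := fun i ↦ hg ▸ Ideal.subset_span ⟨i, rfl⟩
  rw [isNoetherianRing_iff_ideal_fg]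
  intro J
  -- leading forms of elements of `J`
  let s : Set (MvPolynomial (Fin r) (ResidueField S)) :=
    {φ | ∃ (n : ℕ) (F : MvPolynomial (Fin r) S), F.IsHomogeneous n ∧
      eval g F ∈ J ⊔ m ^ (n + 1) ∧ MvPolynomial.map (residue S) F = φ}
  obtain ⟨t, ht, hts⟩ := (Submodule.fg_span_iff_fg_span_finset_subset s).mp (IsNoetherian.noetherian (Submodule.span (MvPolynomial (Fin r) (ResidueField S)) s))
  have hex : ∀ φ : t, ∃ (n : ℕ) (F : MvPolynomial (Fin r) S) (j : S), F.IsHomogeneous n ∧ j ∈ J ∧
      eval g F - j ∈ m ^ (n + 1) ∧ MvPolynomial.map (residue S) F = φ.1 := fun φ ↦ by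
    obtain ⟨n, F, h1, h2, h3⟩ := ht φ.2
    obtain ⟨j, hj, e, he, hje⟩ := Submodule.mem_sup.mp h2
    exact ⟨n, F, j, h1, hj, by rw [← hje, add_sub_cancel_left]; exact he, h3⟩
  choose N F j hF hj hFj hφ using hex
  set J₀ := Ideal.span (Set.range j)
  have hJ₀ : J₀ ≤ J := Ideal.span_le.mpr (Set.range_subset_iff.mpr hj)
  have hstep : ∀ n x, x ∈ J → x ∈ m ^ n → ∃ y ∈ J₀, x - y ∈ m ^ (n + 1) := by
    intro n x hxJ hxn
    obtain ⟨G, hG, rfl⟩ := exists_isHomogeneous_eval_eq g n (hg ▸ hxn)
    have hmem : MvPolynomial.map (residue S) G ∈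
        Ideal.span (t : Set (MvPolynomial (Fin r) (ResidueField S))) := by
      rw [Ideal.span, ← hts]
      exact Submodule.subset_span ⟨n, G, hG, Ideal.mem_sup_left hxJ, rfl⟩
    rw [show (t : Set _) = Set.range (fun φ : t ↦ φ.1) by simp,
      Ideal.mem_span_range_iff_exists_fun] at hmem
    obtain ⟨c, hc⟩ := hmem
    choose c' hc' using fun φ ↦ MvPolynomial.map_surjective (σ := Fin r) (residue S) residue_surjective (c φ)
    -- the degree `n` part of the relation
    let D : t → MvPolynomial (Fin r) S := fun φ ↦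
      if N φ ≤ n then homogeneousComponent (n - N φ) (c' φ) else 0
    have hD : ∀ φ, (D φ * F φ).IsHomogeneous n ∧
        homogeneousComponent n (c' φ * F φ) = D φ * F φ := by
      intro φ
      have h2 : homogeneousComponent n (c' φ * F φ) = D φ * F φ := by
        conv_lhs => rw [← sum_homogeneousComponent (c' φ), Finset.sum_mul, map_sum]
        simp only [homogeneousComponent_of_mem ((homogeneousComponent_isHomogeneous _ _).mul (hF φ))]
        simp only [D]
        split_ifs with hle
        · rw [Finset.sum_eq_single (n - N φ)]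
          · rw [if_pos (by lia)]
          · intro b _ hb; rw [if_neg (by lia)]
          · intro hb
            rw [homogeneousComponent_eq_zero _ _ (by simp at hb; lia)]
            simp
        · rw [zero_mul]
          exact Finset.sum_eq_zero fun b _ ↦ if_neg (by lia)
      exact ⟨h2 ▸ homogeneousComponent_isHomogeneous _ _, h2⟩
    let H := G - ∑ φ, D φ * F φ
    have hH : H.IsHomogeneous n := hG.sub (IsHomogeneous.sum _ _ _ fun φ _ ↦ (hD φ).1)
    have hHm : ∀ d, H.coeff d ∈ m := fun d ↦ by
      rw [← residue_eq_zero_iff, ← coeff_map]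
      suffices MvPolynomial.map (residue S) H = 0 by rw [this, coeff_zero]
      have hmc : ∀ P : MvPolynomial (Fin r) S, MvPolynomial.map (residue S) (homogeneousComponent n P)
          = homogeneousComponent n (MvPolynomial.map (residue S) P) := fun P ↦ by
        ext d; simp only [coeff_map, coeff_homogeneousComponent]; split_ifs <;> simp
      have h0 : MvPolynomial.map (residue S) (G - ∑ φ, c' φ * F φ) = 0 := by
        simp only [map_sub, map_sum, map_mul, hc', hφ, hc, sub_self]
      have h1 : H = homogeneousComponent n (G - ∑ φ, c' φ * F φ) := by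
        rw [map_sub, map_sum, homogeneousComponent_of_mem hG, if_pos rfl]
        exact congrArg (G - ·) (Finset.sum_congr rfl fun φ _ ↦ (hD φ).2.symm)
      rw [h1, hmc, h0, map_zero]
    refine ⟨∑ φ, eval g (D φ) * j φ,
      Ideal.sum_mem _ fun φ _ ↦ Ideal.mul_mem_left _ _ (Ideal.subset_span ⟨φ, rfl⟩), ?_⟩
    have e : eval g G - ∑ φ, eval g (D φ) * j φ =
        eval g H + ∑ φ, eval g (D φ) * (eval g (F φ) - j φ) := by
      simp [H, mul_sub, Finset.sum_sub_distrib]
    rw [e]
    refine add_mem ?_ (Ideal.sum_mem _ fun φ _ ↦ ?_)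
    · rw [pow_succ']
      exact eval_mem_pow_mul g hgm hH hHm
    · simp only [D]
      split_ifs with hle
      · have := Ideal.mul_mem_mul (eval_mem_pow g hgm
          (homogeneousComponent_isHomogeneous (n - N φ) (c' φ))) (hFj φ)
        rw [← pow_add] at this
        rwa [show n - N φ + (N φ + 1) = n + 1 by lia] at this
      · simp
  have happrox : ∀ x ∈ J, ∀ n, ∃ y ∈ J₀, x - y ∈ m ^ n := by
    intro x hx n
    induction n with
    | zero => exact ⟨0, zero_mem _, by simp⟩
    | succ n ih =>
      obtain ⟨y, hy, hxy⟩ := ih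
      obtain ⟨z, hz, hxz⟩ := hstep n (x - y) (sub_mem hx (hJ₀ hy)) hxy
      exact ⟨y + z, add_mem hy hz, by rwa [← sub_sub]⟩
  have hfg : J₀.FG := Submodule.fg_span (Set.finite_range j)
  suffices J = J₀ from this ▸ hfg
  refine le_antisymm (fun x hx ↦ hclosed J₀ hfg x fun n ↦ ?_) hJ₀
  obtain ⟨y, hy, hxy⟩ := happrox x hx n
  rw [show x = y + (x - y) by ring]
  exact Submodule.add_mem_sup hy hxy

end Groth.Agent.Hensel
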