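import Groth.Agent.Hensel.Henselization
import Groth.Agent.Hensel.NoetherianCrit
import Mathlib.RingTheory.RegularLocalRing.Defs
import Mathlib.RingTheory.Ideal.KrullsHeightTheorem
import Mathlib.RingTheory.QuasiFinite.Basic

/-!
# Ascent and descent of ring properties along `R → Hens R K`
-/

set_option autoImplicit false

universe u

open IsLocalRing

namespace Groth.Agent.Hensel

theorem isNoetherianRing_of_faithfullyFlat (R S : Type u) [CommRing R] [CommRing S] [Algebra R S]
    [Module.FaithfullyFlat R S] [IsNoetherianRing S] : IsNoetherianRing R := by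
  rw [isNoetherianRing_iff, isNoetherian_iff']
  have h : StrictMono (fun I : Ideal R ↦ I.map (algebraMap R S)) :=
    Monotone.strictMono_of_injective (fun _ _ h ↦ Ideal.map_mono h) fun I J h ↦ by
      rw [← Ideal.comap_map_eq_self_of_faithfullyFlat (B := S) I,
        ← Ideal.comap_map_eq_self_of_faithfullyFlat (B := S) J]
      exact congrArg (Ideal.comap _) h
  exact h.wellFoundedGT

section point

variable {R K : Type u} [CommRing R] [Field K] [Algebra R K]

/-- `Hens R K` is flat over each of its étale neighbourhoods. -/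
theorem flat_of (X : Nbhd R K) :
    letI := (Hens.of X).toRingHom.toAlgebra
    Module.Flat X.carrier (Hens R K) := by
  let := (Hens.of X).toRingHom.toAlgebra
  refine Module.Flat.of_forall_isTrivialRelation fun {l f z} h ↦ ?_
  obtain ⟨W, w, hw⟩ := Hens.exists_rep_fintype z
  let Y := CategoryTheory.IsFiltered.max X W
  let a : X ⟶ Y := CategoryTheory.IsFiltered.leftToMax X W
  let b : W ⟶ Y := CategoryTheory.IsFiltered.rightToMax X W
  have hy : ∀ i, Hens.of Y (b.1 (w i)) = z i := fun i ↦ (Hens.of_hom b _).trans (hw i)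
  have h0 : Hens.of Y (∑ i, a.1 (f i) * b.1 (w i)) = Hens.of Y 0 := by
    simp only [map_sum, map_mul, map_zero, Hens.of_hom, hw]
    exact h
  obtain ⟨Z, g, hg⟩ := (Hens.of_eq_iff _ _).mp h0
  let c : X ⟶ Z := CategoryTheory.CategoryStruct.comp a g
  let := c.1.toRingHom.toAlgebra
  have : IsScalarTower R X.carrier Z.carrier :=
    .of_algebraMap_eq' c.1.comp_algebraMap.symm
  have : Algebra.FinitePresentation X.carrier Z.carrier :=
    Algebra.FinitePresentation.of_restrict_scalars_finitePresentation R _ _
  have : Algebra.FormallyEtale X.carrier Z.carrier := .of_restrictScalars (R := R)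
  have : Algebra.Etale X.carrier Z.carrier := ⟨inferInstance, inferInstance⟩
  have hrel : ∑ i, f i • g.1 (b.1 (w i)) = 0 := by
    rw [map_zero, map_sum] at hg
    simp only [map_mul] at hg
    exact hg
  obtain ⟨k, m, y, hy', hm⟩ := Module.Flat.isTrivialRelation_of_sum_smul_eq_zero hrel
  refine ⟨k, m, fun j ↦ Hens.of Z (y j), fun i ↦ ?_, hm⟩
  rw [← hy i, ← Hens.of_hom g, show g.1 (b.1 (w i)) = _ from hy' i, map_sum]
  refine Finset.sum_congr rfl fun j _ ↦ ?_
  change Hens.of Z (c.1 (m i j) * y j) = Hens.of X (m i j) * Hens.of Z (y j)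
  rw [map_mul, Hens.of_hom]

variable [IsLocalRing R] [IsNoetherianRing R] (hK : RingHom.ker (algebraMap R K) = maximalIdeal R)

include hK

theorem isNoetherianRing_hens : IsNoetherianRing (Hens R K) := by
  classical
  set H := Hens R K
  have hmap := map_maximalIdeal_hens R (K := K) hK
  refine isNoetherianRing_of_fg_maximalIdeal_of_closed
    (hmap ▸ ((maximalIdeal R).fg_of_isNoetherianRing.map _)) fun J hJ x hx ↦ ?_
  obtain ⟨r, g, rfl⟩ := Submodule.fg_iff_exists_fin_generating_family.mp hJ
  obtain ⟨X, v, hv⟩ := Hens.exists_rep_fintype (fun o : Option (Fin r) ↦ o.elim x g)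
  let := (Hens.of X).toRingHom.toAlgebra
  have := flat_of X
  have : IsScalarTower R X.carrier H := .of_algebraMap_eq' (Hens.of X).comp_algebraMap.symm
  have : IsNoetherianRing X.carrier := Algebra.FiniteType.isNoetherianRing R _
  set q := (maximalIdeal H).comap (Hens.of X).toRingHom
  have hu : ∀ y : q.primeCompl, IsUnit (Hens.of X y) := fun y ↦
    not_not.mp fun hn ↦ y.2 (Ideal.mem_comap.mpr hn)
  let T := Localization.AtPrime q
  let := (IsLocalization.lift (M := q.primeCompl) (S := T) (g := (Hens.of X).toRingHom) hu).toAlgebra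
  have : IsScalarTower X.carrier T H :=
    .of_algebraMap_eq fun y ↦ (IsLocalization.lift_eq hu y).symm
  have : Module.Flat T H := (Module.flat_iff_of_isLocalization T q.primeCompl H).mpr inferInstance
  have : IsLocalHom (algebraMap T H) := by
    refine ((local_hom_TFAE (algebraMap T H)).out 2 0 rfl rfl).mp ?_
    rw [← IsLocalization.AtPrime.map_eq_maximalIdeal q T, Ideal.map_map,
      ← IsScalarTower.algebraMap_eq, Ideal.map_le_iff_le_comap]
    exact le_rfl
  have := Module.FaithfullyFlat.of_flat_of_isLocalHom (A := T) (B := H)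
  have : IsScalarTower R T H := .of_algebraMap_eq fun a ↦ by
    rw [IsScalarTower.algebraMap_apply R X.carrier T, ← IsScalarTower.algebraMap_apply X.carrier T H,
      ← IsScalarTower.algebraMap_apply]
  set I := (maximalIdeal R).map (algebraMap R T)
  have hI : I ≠ ⊤ := fun h ↦ by
    have : I.map (algebraMap T H) = ⊤ := by rw [h, Ideal.map_top]
    rw [Ideal.map_map, ← IsScalarTower.algebraMap_eq, hmap] at this
    exact (maximalIdeal.isMaximal H).ne_top this
  let g' : Fin r → T := fun i ↦ algebraMap X.carrier T (v (some i))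
  let x' : T := algebraMap X.carrier T (v none)
  have hg : ∀ i, algebraMap T H (g' i) = g i := fun i ↦
    (IsScalarTower.algebraMap_apply X.carrier T H _).symm.trans (hv (some i))
  have hxx : algebraMap T H x' = x :=
    (IsScalarTower.algebraMap_apply X.carrier T H _).symm.trans (hv none)
  have hJ' : (Ideal.span (Set.range g')).map (algebraMap T H) = Submodule.span H (Set.range g) := by
    rw [Ideal.map_span, ← Set.range_comp, Function.comp_def, funext hg]
  have hmem : ∀ n, x' ∈ Ideal.span (Set.range g') ⊔ I ^ n := fun n ↦ by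
    rw [← Ideal.comap_map_eq_self_of_faithfullyFlat (B := H) (Ideal.span _ ⊔ I ^ n), Ideal.mem_comap,
      hxx, Ideal.map_sup, hJ', Ideal.map_pow, Ideal.map_map, ← IsScalarTower.algebraMap_eq, hmap]
    exact hx n
  rw [← hxx, ← hJ']
  refine Ideal.mem_map_of_mem _ (Ideal.Quotient.eq_zero_iff_mem.mp ?_)
  have := Ideal.iInf_pow_smul_eq_bot_of_le_jacobson (M := T ⧸ Ideal.span (Set.range g')) I
    ((le_maximalIdeal hI).trans (maximalIdeal_le_jacobson _))
  rw [← Submodule.mem_bot (R := T), ← this, Submodule.mem_iInf]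
  intro n
  obtain ⟨y, hy, z, hz, hyz⟩ := Submodule.mem_sup.mp (hmem n)
  rw [← hyz, map_add, Ideal.Quotient.eq_zero_iff_mem.mpr hy, zero_add]
  rw [show Ideal.Quotient.mk (Ideal.span (Set.range g')) z =
      z • (1 : T ⧸ Ideal.span (Set.range g')) from
    (congrArg (Ideal.Quotient.mk _) (mul_one z)).symm]
  exact Submodule.smul_mem_smul hz Submodule.mem_top

end point

section dimension

variable {R K : Type u} [CommRing R] [Field K] [Algebra R K]

theorem comap_hens_injOn {P Q : PrimeSpectrum (Hens R K)} (hle : P ≤ Q)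
    (h : PrimeSpectrum.comap (algebraMap R (Hens R K)) P = PrimeSpectrum.comap (algebraMap R _) Q) :
    P = Q := by
  refine le_antisymm hle (fun z hz ↦ ?_)
  obtain ⟨X, x, rfl⟩ := Hens.exists_rep z
  have hu : ∀ P : PrimeSpectrum (Hens R K), (P.asIdeal.comap (Hens.of X).toRingHom).under R =
      P.asIdeal.comap (algebraMap R (Hens R K)) := fun P ↦ by
    rw [Ideal.under_def, Ideal.comap_comap, AlgHom.toRingHom_eq_coe, AlgHom.comp_algebraMap]
  have := Algebra.QuasiFinite.eq_of_le_of_under_eq (R := R) (P.asIdeal.comap (Hens.of X).toRingHom)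
    (Q.asIdeal.comap (Hens.of X).toRingHom) (Ideal.comap_mono hle)
    (by rw [hu, hu]; exact congrArg PrimeSpectrum.asIdeal h)
  exact Ideal.mem_comap.mp (this.ge (Ideal.mem_comap.mpr hz))

theorem strictMono_comap_hens :
    StrictMono (PrimeSpectrum.comap (algebraMap R (Hens R K))) := fun P Q hPQ ↦
  lt_of_le_of_ne (Ideal.comap_mono hPQ.le) fun e ↦ hPQ.ne (comap_hens_injOn hPQ.le e)

theorem ringKrullDim_le_of_faithfullyFlat (R S : Type u) [CommRing R] [CommRing S] [Algebra R S]
    [Module.FaithfullyFlat R S] : ringKrullDim R ≤ ringKrullDim S := by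
  refine iSup_le fun l ↦ ?_
  obtain ⟨P, hP⟩ := PrimeSpectrum.comap_surjective_of_faithfullyFlat (B := S) l.last
  have : P.asIdeal.LiesOver l.last.asIdeal := ⟨(congrArg PrimeSpectrum.asIdeal hP).symm⟩
  obtain ⟨L, hL, -⟩ := Ideal.exists_ltSeries_of_hasGoingDown l P.asIdeal
  rw [← hL]
  exact Order.LTSeries.length_le_krullDim L

theorem ringKrullDim_hens [IsLocalRing R] (hK : RingHom.ker (algebraMap R K) = maximalIdeal R) :
    ringKrullDim (Hens R K) = ringKrullDim R := by
  have : IsLocalHom (algebraMap R (Hens R K)) :=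
    ((local_hom_TFAE _).out 2 0 rfl rfl).mp (map_maximalIdeal_hens R hK).le
  have := Module.FaithfullyFlat.of_flat_of_isLocalHom (A := R) (B := Hens R K)
  exact le_antisymm (Order.krullDim_le_of_strictMono _ strictMono_comap_hens)
    (ringKrullDim_le_of_faithfullyFlat R _)

end dimension

end Groth.Agent.Hensel
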