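import Groth.Agent.Hensel.Pairs
import Groth.Agent.Hensel.EtaleLift
import Groth.Agent.AlgSpc.EtLift
import Mathlib.RingTheory.ZariskisMainTheorem
import Mathlib.RingTheory.TensorProduct.Quotient

/-!
# Finite étale algebras along henselian pairs

* `bijective_baseChange_finite_etale`;
* `exists_idem_split_pair` : splitting of finite type algebras which are finite modulo `I`;
* `exists_finite_etale_lift` : finite étale algebras over `A ⧸ I` lift.
-/

set_option autoImplicit false

universe u v w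

open TensorProduct

namespace Groth.Agent.Hensel

/-- Maps from an étale algebra to an integral algebra are computed modulo `I`. -/
theorem bijective_baseChange_etale {A : Type u} [CommRing A] (I : Ideal A) [HenselianRing A I]
    (B₁ B₂ : Type u) [CommRing B₁] [CommRing B₂] [Algebra A B₁] [Algebra A B₂]
    [Algebra.Etale A B₁] [Algebra.IsIntegral A B₂] :
    Function.Bijective (fun φ : B₁ →ₐ[A] B₂ =>
      Algebra.TensorProduct.map (AlgHom.id (A ⧸ I) (A ⧸ I)) φ) := by
  have hH : HenselianRing B₂ (I.map (algebraMap A B₂)) := henselianRing_of_isIntegral B₂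
  let e := Algebra.TensorProduct.quotIdealMapEquivQuotTensor (A := A) B₂ I
  constructor
  · intro φ φ' h
    refine algHom_ext_of_unramified hH.jac fun s ↦ Ideal.Quotient.eq.mp (e.injective ?_)
    have := congr($h (1 ⊗ₜ s))
    simpa [e] using this
  · intro ψ
    obtain ⟨τ, hτ, -⟩ := exists_algHom_lift_etale (R := A) (I.map (algebraMap A B₂))
      gabberRoot_of_henselianRing B₁
      ((e.symm.toAlgHom.restrictScalars A).comp
        ((ψ.restrictScalars A).comp Algebra.TensorProduct.includeRight))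
    refine ⟨τ, Algebra.TensorProduct.ext' fun a b ↦ ?_⟩
    have h1 : (1 : A ⧸ I) ⊗ₜ[A] τ b = ψ (1 ⊗ₜ b) := by
      have := congr(e ($hτ b))
      simpa [e] using this
    calc Algebra.TensorProduct.map (AlgHom.id _ _) τ (a ⊗ₜ b) = a ⊗ₜ τ b := by simp
      _ = a • ((1 : A ⧸ I) ⊗ₜ[A] τ b) := by simp [TensorProduct.smul_tmul']
      _ = ψ (a • (1 ⊗ₜ b)) := by rw [h1, map_smul]
      _ = ψ (a ⊗ₜ b) := by simp [TensorProduct.smul_tmul']

variable {A : Type u} [CommRing A] (I : Ideal A) {E : Type u} [CommRing E] [Algebra A E]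

theorem quasiFiniteAt_of_finite_quotient [Algebra.FiniteType A E]
    [Module.Finite A (E ⧸ I.map (algebraMap A E))] (q : Ideal E) [q.IsPrime]
    (hq : I.map (algebraMap A E) ≤ q) : Algebra.QuasiFiniteAt A q := by
  have hle : I.map (algebraMap A E) ≤ (q.under A).map (algebraMap A E) :=
    Ideal.map_mono (Ideal.map_le_iff_le_comap.mp hq)
  have : Module.Finite A (E ⧸ (q.under A).map (algebraMap A E)) :=
    Module.Finite.of_surjective (Ideal.Quotient.factorₐ A hle).toLinearMap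
      (Ideal.Quotient.factor_surjective hle)
  have : (q.map (Ideal.Quotient.mk ((q.under A).map (algebraMap A E)))).IsPrime :=
    Ideal.map_isPrime_of_surjective Ideal.Quotient.mk_surjective
      (by rw [Ideal.mk_ker]; exact Ideal.map_comap_le)
  have : Algebra.WeaklyQuasiFiniteAt A q := inferInstanceAs
    (Algebra.QuasiFinite A (Localization.AtPrime _))
  exact Algebra.QuasiFiniteAt.of_weaklyQuasiFiniteAt q

theorem exists_zmt_nhd [Algebra.FiniteType A E] (q : Ideal E) [q.IsPrime]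
    [Algebra.QuasiFiniteAt A q] :
    ∃ (B : Subalgebra A E), B.toSubmodule.FG ∧ ∃ r ∈ B, r ∉ q ∧ ∀ x, ∃ k, r ^ k * x ∈ B := by
  obtain ⟨B', hB', r, hr, hbij⟩ :=
    Algebra.QuasiFiniteAt.exists_fg_and_exists_notMem_and_awayMap_bijective (R := A) q
  refine ⟨B', hB', r, r.2, hr, fun x ↦ ?_⟩
  obtain ⟨z, hz⟩ := hbij.2 (algebraMap E (Localization.Away (r.1)) x)
  obtain ⟨m', y, hy⟩ := IsLocalization.Away.surj r z
  have : algebraMap E (Localization.Away (r.1)) (x * r.1 ^ m') =
      algebraMap E (Localization.Away (r.1)) y.1 := by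
    have e := congr(Localization.awayMap B'.val.toRingHom r $hy)
    simp only [map_mul, map_pow, hz] at e
    simp only [Localization.awayMap, IsLocalization.Away.map, IsLocalization.map_eq] at e
    rw [map_mul, map_pow]
    exact e
  obtain ⟨⟨_, j, rfl⟩, hj⟩ :=
    (IsLocalization.eq_iff_exists (Submonoid.powers r.1) _).mp this
  refine ⟨j + m', ?_⟩
  rw [show r.1 ^ (j + m') * x = r.1 ^ j * (x * r.1 ^ m') by ring, hj]
  exact mul_mem (pow_mem r.2 j) y.2

/-- A finite subalgebra together with finitely many elements of it, generating the unit ideal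
modulo `I`, after inverting which the subalgebra is everything. -/
theorem exists_finite_subalgebra_cover [Algebra.FiniteType A E]
    [Module.Finite A (E ⧸ I.map (algebraMap A E))] :
    ∃ B : Subalgebra A E, Module.Finite A B ∧ ∃ s : Set B,
      (∀ r ∈ s, ∀ x : E, ∃ k : ℕ, r.1 ^ k * x ∈ B) ∧
      ∀ q : Ideal E, q.IsPrime → I.map (algebraMap A E) ≤ q → ∃ r ∈ s, r.1 ∉ q := by
  classical
  let S := {q : PrimeSpectrum E // I.map (algebraMap A E) ≤ q.asIdeal}
  have hz : ∀ q : S, ∃ (B : Subalgebra A E), B.toSubmodule.FG ∧ ∃ r ∈ B, r ∉ q.1.asIdeal ∧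
      ∀ x, ∃ k, r ^ k * x ∈ B := fun q ↦
    have := quasiFiniteAt_of_finite_quotient I q.1.asIdeal q.2
    exists_zmt_nhd q.1.asIdeal
  choose Bf hBf r hrB hrq hloc using hz
  have htop : Ideal.span (Set.range r) ⊔ I.map (algebraMap A E) = ⊤ := by
    by_contra hne
    obtain ⟨M, hM, hle⟩ := Ideal.exists_le_maximal _ hne
    exact hrq ⟨⟨M, hM.isPrime⟩, le_sup_right.trans hle⟩
      (le_sup_left.trans hle (Ideal.subset_span ⟨_, rfl⟩))
  obtain ⟨y, hy, z, hz, hyz⟩ := Submodule.mem_sup.mp (htop.ge (Submodule.mem_top (x := (1 : E))))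
  obtain ⟨T, hT, hyT⟩ := Submodule.mem_span_finite_of_mem_span hy
  have hT' : ∀ t : T, ∃ q, r q = t := fun t ↦ hT t.2
  choose p hp using hT'
  choose G hG using fun t : T ↦ hBf (p t)
  let B : Subalgebra A E := Algebra.adjoin A (⋃ t : T, (G t : Set E))
  have hGB : ∀ t : T, Bf (p t) ≤ B := fun t ↦ by
    have : (Bf (p t)).toSubmodule ≤ B.toSubmodule := by
      rw [← hG t, Submodule.span_le]
      exact fun y hy ↦ Algebra.subset_adjoin (Set.mem_iUnion.mpr ⟨t, hy⟩)
    exact this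
  have hBfg : B.toSubmodule.FG := by
    refine fg_adjoin_of_finite (Set.finite_iUnion fun x ↦ (G x).finite_toSet) fun y hy ↦ ?_
    obtain ⟨x, hx⟩ := Set.mem_iUnion.mp hy
    exact IsIntegral.of_mem_of_fg (Bf (p x)) (hBf (p x)) y
      (show y ∈ (Bf (p x)).toSubmodule from hG x ▸ Submodule.subset_span hx)
  refine ⟨B, ⟨(Submodule.fg_top _).mpr hBfg⟩, Set.range fun t : T ↦ ⟨r (p t), hGB t (hrB _)⟩,
    ?_, fun q hq hIq ↦ ?_⟩
  · rintro _ ⟨t, rfl⟩ x
    obtain ⟨k, hk⟩ := hloc (p t) x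
    exact ⟨k, hGB t hk⟩
  · by_contra! h
    refine hq.ne_top ((Ideal.eq_top_iff_one q).mpr (hyz ▸ add_mem ?_ (hIq hz)))
    refine Submodule.span_le.mpr (fun t ht ↦ ?_) hyT
    have := h _ ⟨⟨t, ht⟩, rfl⟩
    simpa [hp] using this

/-- An algebra of finite type which is finite modulo `I` splits off a finite part. -/
theorem exists_idem_split_pair [hH : HenselianRing A I] [Algebra.FiniteType A E]
    [Module.Finite A (E ⧸ I.map (algebraMap A E))] :
    ∃ e : E, IsIdempotentElem e ∧ 1 - e ∈ I.map (algebraMap A E) ∧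
      Module.Finite A (E ⧸ Ideal.span ({1 - e} : Set E)) := by
  classical
  obtain ⟨B, hB, s, hs, hcov⟩ := exists_finite_subalgebra_cover I (E := E)
  let J := I.map (algebraMap A B)
  let C := E ⧸ I.map (algebraMap A E)
  let π : B →ₐ[A] C := (Ideal.Quotient.mkₐ A _).comp B.val
  let 𝔞 := RingHom.ker π.toRingHom
  let 𝔯 := Ideal.span s
  have hJa : J ≤ 𝔞 := Ideal.map_le_iff_le_comap.mpr fun a ha ↦
    show Ideal.Quotient.mk _ (algebraMap A E a) = 0 from
      Ideal.Quotient.eq_zero_iff_mem.mpr (Ideal.mem_map_of_mem _ ha)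
  have htop : 𝔯 ⊔ 𝔞 = ⊤ := by
    by_contra hne
    obtain ⟨P, hP, hle⟩ := Ideal.exists_le_maximal _ hne
    let : Algebra B C := π.toRingHom.toAlgebra
    have : IsScalarTower A B C := .of_algebraMap_eq fun a ↦ (π.commutes a).symm
    have : Algebra.IsIntegral B C := Algebra.IsIntegral.tower_top (R := A)
    obtain ⟨Q, hQ, hQP⟩ := Ideal.exists_ideal_over_maximal_of_isIntegral (S := C) P
      (le_sup_right.trans hle)
    obtain ⟨r, hr, hrq⟩ := hcov (Q.comap (Ideal.Quotient.mk _))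
      (Ideal.comap_isPrime _ _) (Ideal.mk_ker.symm.trans_le (Ideal.ker_le_comap _))
    refine hrq ?_
    have : r ∈ Q.comap (algebraMap B C) := hQP ▸ hle (Ideal.mem_sup_left (Ideal.subset_span hr))
    exact this
  obtain ⟨ρ, hρ, α, hα, hsum⟩ := Submodule.mem_sup.mp (htop.ge (Submodule.mem_top (x := (1 : B))))
  -- `ρ ^ n * α ∈ J`
  obtain ⟨n, hn⟩ : ρ ∈ (Submodule.colon J {α}).radical := by
    refine Ideal.span_le.mpr (fun r hr ↦ ?_) hρ
    have hα' : α.1 ∈ I.map (algebraMap A E) := Ideal.Quotient.eq_zero_iff_mem.mp hα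
    rw [Ideal.map, Submodule.mem_span_iff_exists_finset_subset] at hα'
    obtain ⟨f, t, ht, -, hf⟩ := hα'
    choose k hk using hs r hr
    refine ⟨∑ a ∈ t, k (f a), Submodule.mem_colon_singleton.mpr ?_⟩
    have hx : ∀ a ∈ t, r.1 ^ (∑ a ∈ t, k (f a)) * f a ∈ B := fun a ha ↦ by
      rw [← Nat.sub_add_cancel (Finset.single_le_sum (fun i _ ↦ Nat.zero_le (k (f i))) ha),
        pow_add, mul_assoc]
      exact mul_mem (pow_mem r.2 _) (hk _)
    have hrα : r ^ (∑ a ∈ t, k (f a)) • α =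
        ∑ a ∈ t.attach, (⟨_, hx a.1 a.2⟩ : B) * ⟨a.1, by
          obtain ⟨i, -, hi⟩ := ht a.2
          exact hi ▸ B.algebraMap_mem i⟩ := by
      refine Subtype.ext ?_
      rw [AddSubmonoidClass.coe_finsetSum, smul_eq_mul, MulMemClass.coe_mul, SubmonoidClass.coe_pow,
        ← hf, Finset.mul_sum, ← Finset.sum_attach]
      simp [mul_assoc]
    rw [hrα]
    refine Ideal.sum_mem _ fun a _ ↦ Ideal.mul_mem_left _ _ ?_
    obtain ⟨i, hi, hi'⟩ := ht a.2
    exact (Subtype.ext hi' : algebraMap A B i = ⟨a.1, _⟩) ▸ Ideal.mem_map_of_mem _ hi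
  rw [Submodule.mem_colon_singleton, smul_eq_mul] at hn
  -- the idempotent modulo `J`
  obtain ⟨u, v, huv⟩ : ∃ u v : B, u * α + v * ρ ^ (n + 1) = 1 := by
    have : IsCoprime α ρ := ⟨1, 1, by rw [one_mul, one_mul, add_comm, hsum]⟩
    exact this.pow_right
  have hn' : ρ ^ (n + 1) * α ∈ J := by
    rw [pow_succ', mul_assoc]; exact J.mul_mem_left _ hn
  have hJ : HenselianRing B J := henselianRing_of_isIntegral B
  obtain ⟨e, he, hee⟩ := exists_idem_lift_of_finite (gabberRoot_of_henselianRing (I := I))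
    (v * ρ ^ (n + 1)) (by
      rw [show v * ρ ^ (n + 1) * (v * ρ ^ (n + 1)) - v * ρ ^ (n + 1) =
        -(u * v) * (ρ ^ (n + 1) * α) by linear_combination (v * ρ ^ (n + 1)) * huv]
      exact J.mul_mem_left _ hn')
  have he1 : 1 - e ∈ 𝔞 := by
    rw [show 1 - e = u * α - (e - v * ρ ^ (n + 1)) by linear_combination -huv]
    exact sub_mem (𝔞.mul_mem_left _ hα) (hJa hee)
  have her : e ∈ 𝔯 := by
    obtain ⟨j, hj, rfl⟩ : ∃ j ∈ J, v * ρ ^ (n + 1) + j = e := ⟨_, hee, by ring⟩
    set e := v * ρ ^ (n + 1) + j with he'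
    obtain ⟨w, hw⟩ := IsUnit.exists_left_inv
      (isUnit_of_sub_one_mem (x := 1 - j) hJ.jac (by simpa using neg_mem hj))
    rw [show e = w * e * v * ρ ^ (n + 1) by linear_combination (-e) * hw + w * e * he' - w * he.eq]
    exact Ideal.mul_mem_left _ _ (Ideal.pow_mem_of_mem _ hρ _ n.succ_pos)
  have hmul : ∀ x : E, e.1 * x ∈ B := fun x ↦ by
    let c : Ideal B :=
      { carrier := {b | b.1 * x ∈ B}
        zero_mem' := by simp
        add_mem' := fun {a b} ha hb ↦ by simpa [add_mul] using add_mem ha hb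
        smul_mem' := fun a b hb ↦ by simpa [mul_assoc] using mul_mem a.2 hb }
    obtain ⟨k, hk⟩ : e ∈ c.radical := Ideal.span_le.mpr (fun r hr ↦ by
      obtain ⟨k, hk⟩ := hs r hr x
      exact Ideal.mem_radical_iff.mpr ⟨k, show (r ^ k).1 * x ∈ B by simpa using hk⟩) her
    have hk' : e ^ (k + 1) ∈ c := by rw [pow_succ']; exact c.mul_mem_left _ hk
    rw [he.pow_succ_eq] at hk'
    exact hk'
  refine ⟨e.1, congr(Subtype.val $(he.eq)), Ideal.Quotient.eq_zero_iff_mem.mp he1,
    Module.Finite.of_surjective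
      (((Ideal.Quotient.mkₐ A (Ideal.span {1 - e.1})).comp B.val).toLinearMap) fun y ↦ ?_⟩
  obtain ⟨x, rfl⟩ := Ideal.Quotient.mk_surjective y
  refine ⟨⟨e.1 * x, hmul x⟩, ?_⟩
  change Ideal.Quotient.mk _ (e.1 * x) = Ideal.Quotient.mk _ x
  rw [Ideal.Quotient.eq, Ideal.mem_span_singleton]
  exact ⟨-x, by ring⟩

/-- Finite étale algebras lift along henselian pairs. -/
theorem exists_finite_etale_lift [HenselianRing A I] (C : Type u) [CommRing C]
    [Algebra (A ⧸ I) C] [Module.Finite (A ⧸ I) C] [Algebra.Etale (A ⧸ I) C] :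
    ∃ (B : Type u) (_ : CommRing B) (_ : Algebra A B), Module.Finite A B ∧ Algebra.Etale A B ∧
      Nonempty (TensorProduct A (A ⧸ I) B ≃ₐ[A ⧸ I] C) := by
  let : Algebra A C := ((algebraMap (A ⧸ I) C).comp (algebraMap A (A ⧸ I))).toAlgebra
  have : IsScalarTower A (A ⧸ I) C := .of_algebraMap_eq fun _ ↦ rfl
  have : Module.Finite A C := Module.Finite.trans (A ⧸ I) C
  obtain ⟨Q, _, _, σ, hQ, hσ, hker⟩ :=
    Groth.Agent.AlgSpc.exists_etale_lift A (A ⧸ I) C Ideal.Quotient.mk_surjective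
  rw [show RingHom.ker (algebraMap A (A ⧸ I)) = I from Ideal.mk_ker] at hker
  let eC : (Q ⧸ I.map (algebraMap A Q)) ≃ₐ[A] C :=
    (Ideal.quotientEquivAlgOfEq A hker.symm).trans
      (Ideal.quotientKerAlgEquivOfSurjective (f := σ) hσ)
  have : Module.Finite A (Q ⧸ I.map (algebraMap A Q)) := Module.Finite.equiv eC.symm.toLinearEquiv
  obtain ⟨ε, hε, hεI, hfin⟩ := exists_idem_split_pair (E := Q) I
  let B := Q ⧸ Ideal.span ({1 - ε} : Set Q)
  have : IsLocalization.Away ε B := IsLocalization.away_of_isIdempotentElem hε Ideal.mk_ker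
    Ideal.Quotient.mk_surjective
  have : Algebra.Etale Q B := Algebra.Etale.of_isLocalizationAway ε
  have hle : Ideal.span ({1 - ε} : Set Q) ≤ I.map (algebraMap A Q) :=
    (Ideal.span_singleton_le_iff_mem _).mpr hεI
  let eB : (B ⧸ I.map (algebraMap A B)) ≃ₐ[A] C :=
    (Ideal.quotientEquivAlgOfEq A
      (show I.map (algebraMap A B) = (I.map (algebraMap A Q)).map (Ideal.Quotient.mkₐ A _) by
        rw [← Ideal.map_coe (Ideal.Quotient.mkₐ A _), Ideal.map_map]; rfl)).trans
      ((DoubleQuot.quotQuotEquivQuotOfLEₐ A hle).trans eC)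
  let e₀ : TensorProduct A (A ⧸ I) B ≃ₐ[A] C :=
    ((Algebra.TensorProduct.quotIdealMapEquivQuotTensor (A := A) B I).symm.restrictScalars A).trans eB
  exact ⟨B, inferInstance, inferInstance, hfin, Algebra.Etale.comp A Q B,
    ⟨AlgEquiv.extendScalarsOfSurjective Ideal.Quotient.mk_surjective e₀⟩⟩

end Groth.Agent.Hensel
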