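import Groth.Agent.Hensel.PairHens
import Groth.Agent.Hensel.Pairs
import Groth.Agent.Hensel.Local
import Groth.Agent.Hensel.FiniteEtaleLift

/-!
# Henselian finitely presented maps of henselian pairs: basic lemmas
-/

set_option autoImplicit false

universe u

namespace Groth.Agent.Hensel

open Ideal

variable {R B : Type u} [CommRing R] [CommRing B] [Algebra R B] {J : Ideal R}

section general

/-- A henselization transported along an algebra isomorphism. -/
theorem isPairHenselization_of_algEquiv {B' : Type u} [CommRing B'] [Algebra R B']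
    (hB : Hens2.IsPairHenselization R J B) (e : B ≃ₐ[R] B') : Hens2.IsPairHenselization R J B' := by
  refine ⟨?_, fun C _ L f hC hf ↦ ?_⟩
  · have := hB.1
    have := henselianRing_of_ringEquiv e.toRingEquiv (J.map (algebraMap R B))
    rwa [Ideal.map_map, show (e.toRingEquiv : B →+* B').comp (algebraMap R B) = algebraMap R B' from
      e.toAlgHom.comp_algebraMap] at this
  · obtain ⟨g, hg, hu⟩ := hB.2 C L f hC hf
    refine ⟨g.comp e.symm.toAlgHom.toRingHom, ?_, fun g' hg' ↦ ?_⟩
    · dsimp only
      rw [RingHom.comp_assoc, AlgHom.toRingHom_eq_coe, AlgHom.comp_algebraMap, hg]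
    · rw [← hu (g'.comp e.toAlgHom.toRingHom) (by
        dsimp only at *
        rw [RingHom.comp_assoc, AlgHom.toRingHom_eq_coe, AlgHom.comp_algebraMap]; exact hg')]
      ext x; simp

/-- Henselization commutes with quotients. -/
theorem isPairHenselization_of_surjective (hB : Hens2.IsPairHenselization R J B)
    (R' : Type u) [CommRing R'] [Algebra R R'] (hs : Function.Surjective (algebraMap R R'))
    (B' : Type u) [CommRing B'] [Algebra R B'] [Algebra R' B'] [IsScalarTower R R' B']
    (g : B →ₐ[R] B') (hg : Function.Surjective g)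
    (hker : RingHom.ker g.toRingHom ≤ (RingHom.ker (algebraMap R R')).map (algebraMap R B)) :
    Hens2.IsPairHenselization R' (J.map (algebraMap R R')) B' := by
  refine ⟨?_, fun C _ L f hC hf ↦ ?_⟩
  · let := g.toRingHom.toAlgebra
    have : Module.Finite B B' := Module.Finite.of_surjective (Algebra.linearMap B B') hg
    have := hB.1
    have h := henselianRing_of_isIntegral (A := B) (I := J.map (algebraMap R B)) B'
    rw [Ideal.map_map, show (algebraMap B B').comp (algebraMap R B) = algebraMap R B' from g.comp_algebraMap,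
      IsScalarTower.algebraMap_eq R R' B', ← Ideal.map_map] at h
    exact h
  · rw [Ideal.map_map] at hf
    obtain ⟨G, hG, hu⟩ := hB.2 C L (f.comp (algebraMap R R')) hC hf
    have hle : RingHom.ker g.toRingHom ≤ RingHom.ker G := by
      refine hker.trans (Ideal.map_le_iff_le_comap.mpr fun r hr ↦ ?_)
      rw [Ideal.mem_comap, RingHom.mem_ker, ← RingHom.comp_apply, hG, RingHom.comp_apply,
        RingHom.mem_ker.mp hr, map_zero]
    let h := RingHom.liftOfSurjective g.toRingHom hg ⟨G, hle⟩
    have hh : ∀ x, h (g x) = G x := fun x ↦ RingHom.liftOfRightInverse_comp_apply _ _ _ _ x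
    refine ⟨h, RingHom.ext fun r' ↦ ?_, fun h' hh' ↦ RingHom.ext fun y ↦ ?_⟩
    · obtain ⟨r, rfl⟩ := hs r'
      rw [RingHom.comp_apply, ← IsScalarTower.algebraMap_apply, ← g.commutes, hh, ← RingHom.comp_apply, hG]
      rfl
    · obtain ⟨x, rfl⟩ := hg y
      rw [hh, ← hu (h'.comp g.toRingHom) (by
        dsimp only at *
        rw [RingHom.comp_assoc, AlgHom.toRingHom_eq_coe, g.comp_algebraMap, IsScalarTower.algebraMap_eq R R' B',
          ← RingHom.comp_assoc, hh'])]
      rfl

/-- `R/J^n = B/J^nB`: surjectivity. -/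
theorem pairHenselization_exists_sub_mem_pow (hB : Hens2.IsPairHenselization R J B) (n : ℕ) (x : B) :
    ∃ r, x - algebraMap R B r ∈ (J ^ n).map (algebraMap R B) := by
  induction n generalizing x with
  | zero => exact ⟨0, by rw [pow_zero, Ideal.one_eq_top, Ideal.map_top]; exact Submodule.mem_top⟩
  | succ n ih =>
    obtain ⟨r, hr⟩ := ih x
    have key : ∀ y ∈ (J ^ n).map (algebraMap R B),
        ∃ s, y - algebraMap R B s ∈ (J ^ (n + 1)).map (algebraMap R B) := by
      intro y hy
      induction hy using Submodule.span_induction with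
      | mem y hy =>
        obtain ⟨a, -, rfl⟩ := hy
        exact ⟨a, by simp⟩
      | zero => exact ⟨0, by simp⟩
      | add a b _ _ ha hb =>
        obtain ⟨s, hs⟩ := ha
        obtain ⟨t, ht⟩ := hb
        exact ⟨s + t, by rw [map_add, add_sub_add_comm]; exact add_mem hs ht⟩
      | smul c a ha0 ha =>
        obtain ⟨s, hs⟩ := ha
        obtain ⟨c', hc⟩ := pairHenselization_exists_sub_mem hB c
        refine ⟨c' * s, ?_⟩
        rw [smul_eq_mul, map_mul, show c * a - algebraMap R B c' * algebraMap R B s =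
          (c - algebraMap R B c') * a + algebraMap R B c' * (a - algebraMap R B s) by ring]
        refine add_mem ?_ (Ideal.mul_mem_left _ _ hs)
        rw [pow_succ', Ideal.map_mul]
        exact Ideal.mul_mem_mul hc ha0
    obtain ⟨s, hs⟩ := key _ hr
    exact ⟨r + s, by rw [map_add, ← sub_sub]; exact hs⟩

/-- `R/J^n = B/J^nB`: injectivity. -/
theorem pairHenselization_algebraMap_mem_pow_iff (hB : Hens2.IsPairHenselization R J B) (n : ℕ) (r : R) :
    algebraMap R B r ∈ (J ^ n).map (algebraMap R B) ↔ r ∈ J ^ n := by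
  refine ⟨fun h ↦ ?_, Ideal.mem_map_of_mem _⟩
  have hH : HenselianRing (R ⧸ J ^ n) (J.map (Ideal.Quotient.mk (J ^ n))) :=
    henselianRing_of_locally_nilpotent fun x hx ↦ by
      refine ⟨n, ?_⟩
      have := Ideal.pow_mem_pow hx n
      rwa [← Ideal.map_pow, Ideal.map_quotient_self, Ideal.mem_bot] at this
  obtain ⟨g, hg, -⟩ := hB.2 (R ⧸ J ^ n) _ (Ideal.Quotient.mk (J ^ n)) hH le_rfl
  have := Ideal.mem_map_of_mem g h
  rw [Ideal.map_map, hg, Ideal.map_quotient_self, Ideal.mem_bot, ← RingHom.comp_apply, hg] at this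
  exact Ideal.Quotient.eq_zero_iff_mem.mp this

theorem pairHenselization_quotientMap_bijective (hB : Hens2.IsPairHenselization R J B) (n : ℕ) :
    Function.Bijective (Ideal.quotientMap ((J ^ n).map (algebraMap R B)) (algebraMap R B) Ideal.le_comap_map) := by
  refine ⟨(injective_iff_map_eq_zero _).mpr fun x hx ↦ ?_, fun y ↦ ?_⟩
  · obtain ⟨r, rfl⟩ := Ideal.Quotient.mk_surjective x
    rw [Ideal.quotientMap_mk, Ideal.Quotient.eq_zero_iff_mem, pairHenselization_algebraMap_mem_pow_iff hB] at hx
    exact Ideal.Quotient.eq_zero_iff_mem.mpr hx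
  · obtain ⟨x, rfl⟩ := Ideal.Quotient.mk_surjective y
    obtain ⟨r, hr⟩ := pairHenselization_exists_sub_mem_pow hB n x
    exact ⟨Ideal.Quotient.mk _ r, (Ideal.Quotient.eq.mpr hr).symm⟩

/-- A henselization is the henselization of each of its trivial etale neighbourhoods. -/
theorem isPairHenselization_of_nbhd (hB : Hens2.IsPairHenselization R J B)
    (E : Type u) [CommRing E] [Algebra R E] [Algebra.Etale R E] (hE : IsTrivialModI J E)
    [Algebra E B] [IsScalarTower R E B] :
    Hens2.IsPairHenselization E (J.map (algebraMap R E)) B := by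
  refine ⟨?_, fun C _ L f hC hf ↦ ?_⟩
  · rw [Ideal.map_map, ← IsScalarTower.algebraMap_eq]; exact hB.1
  rw [Ideal.map_map] at hf
  obtain ⟨g, hg, hu⟩ := hB.2 C L (f.comp (algebraMap R E)) hC hf
  let := (f.comp (algebraMap R E)).toAlgebra
  have key : ∀ h : B →+* C, h.comp (algebraMap R B) = f.comp (algebraMap R E) →
      h.comp (algebraMap E B) = f := fun h hh ↦ by
    let f₁ : E →ₐ[R] C :=
      { toRingHom := h.comp (algebraMap E B)
        commutes' := fun r ↦ by
          change h (algebraMap E B (algebraMap R E r)) = _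
          rw [← IsScalarTower.algebraMap_apply]
          exact DFunLike.congr_fun hh r }
    let f₂ : E →ₐ[R] C := { toRingHom := f, commutes' := fun _ ↦ rfl }
    exact congrArg AlgHom.toRingHom (hE.algHom_ext (hf.trans hC.jac) f₁ f₂)
  refine ⟨g, key g hg, fun g' hg' ↦ hu g' ?_⟩
  dsimp only at *
  rw [IsScalarTower.algebraMap_eq R E B, ← RingHom.comp_assoc, hg']

/-- Finitely many elements of a henselization come from a trivial etale neighbourhood. -/
theorem exists_nbhd_range (hB : Hens2.IsPairHenselization R J B) {ι : Type*} [Finite ι] (z : ι → B) :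
    ∃ (E : Type u) (_ : CommRing E) (_ : Algebra R E) (_ : Algebra E B) (_ : IsScalarTower R E B),
      Algebra.Etale R E ∧ IsTrivialModI J E ∧ ∃ e : ι → E, ∀ i, algebraMap E B (e i) = z i := by
  obtain ⟨φ⟩ := exists_algEquiv_hens_pair hB
  obtain ⟨X, x, hx⟩ := Hens.exists_rep_fintype (fun i ↦ φ.symm (z i))
  obtain ⟨E, _, _, _, σ, ψ, hE, hψ⟩ := exists_trivial_nbhd X
  let γ : E →ₐ[R] B := (φ.toAlgHom.comp (Hens.of (Nbhd.mk' E σ))).comp (Nbhd.equiv E σ).symm.toAlgHom
  let := γ.toRingHom.toAlgebra
  refine ⟨E, inferInstance, inferInstance, inferInstance, .of_algebraMap_eq fun r ↦ (γ.commutes r).symm,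
    inferInstance, hE, fun i ↦ ψ (x i), fun i ↦ ?_⟩
  change γ (ψ (x i)) = z i
  rw [show γ (ψ (x i)) = φ (Hens.of X (x i)) from congrArg φ (Hens.of_hom (Nbhd.homMk' ψ hψ) (x i)), hx,
    AlgEquiv.apply_symm_apply]

end general

section tower

variable {A : Type u} [CommRing A] [Algebra A R] [Algebra A B] [IsScalarTower A R B] {I : Ideal A}


theorem map_map_tower' {A R B : Type u} [CommRing A] [CommRing R] [CommRing B]
    [Algebra A R] [Algebra R B] [Algebra A B] [IsScalarTower A R B] (I : Ideal A) :
    (I.map (algebraMap A R)).map (algebraMap R B) = I.map (algebraMap A B) := by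
  rw [Ideal.map_map, ← IsScalarTower.algebraMap_eq]

theorem henselianRing_of_pair (hB : Hens2.IsPairHenselization R (I.map (algebraMap A R)) B) :
    HenselianRing B (I.map (algebraMap A B)) := by
  rw [← map_map_tower' (R := R)]; exact hB.1

variable {C : Type u} [CommRing C] [Algebra A C] [HenselianRing C (I.map (algebraMap A C))]

theorem existsUnique_algHom_extend (hB : Hens2.IsPairHenselization R (I.map (algebraMap A R)) B)
    (f : R →ₐ[A] C) : ∃! g : B →ₐ[A] C, g.comp (IsScalarTower.toAlgHom A R B) = f := by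
  have hf : (I.map (algebraMap A R)).map f.toRingHom ≤ I.map (algebraMap A C) := by
    rw [Ideal.map_map, AlgHom.toRingHom_eq_coe, f.comp_algebraMap]
  obtain ⟨g, hg, hu⟩ := hB.2 C _ f.toRingHom inferInstance hf
  refine ⟨{ toRingHom := g, commutes' := fun a ↦ ?_ }, AlgHom.ext fun r ↦ DFunLike.congr_fun hg r, fun g' hg' ↦ ?_⟩
  · change g (algebraMap A B a) = _
    rw [IsScalarTower.algebraMap_apply A R B, ← RingHom.comp_apply, hg]
    exact f.commutes a
  · exact AlgHom.coe_ringHom_injective (hu g'.toRingHom (RingHom.ext fun r ↦ DFunLike.congr_fun hg' r))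

theorem algHom_ext_pair (hB : Hens2.IsPairHenselization R (I.map (algebraMap A R)) B) (f g : B →ₐ[A] C)
    (h : ∀ r, f (algebraMap R B r) = g (algebraMap R B r)) : f = g :=
  (existsUnique_algHom_extend hB (f.comp (IsScalarTower.toAlgHom A R B))).unique rfl
    (AlgHom.ext fun r ↦ (h r).symm)

end tower

section trunc

variable {A : Type u} [CommRing A] [Algebra A R] [Algebra A B] [IsScalarTower A R B] {I : Ideal A}

theorem map_map_pow (n : ℕ) :
    ((I.map (algebraMap A R)) ^ n).map (algebraMap R B) = (I ^ n).map (algebraMap A B) := by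
  rw [← Ideal.map_pow, map_map_tower']

/-- `R/I^nR = B/I^nB` over `A/I^n`. -/
theorem nonempty_quotientEquiv_pair (hB : Hens2.IsPairHenselization R (I.map (algebraMap A R)) B) (n : ℕ) :
    Nonempty ((R ⧸ (I ^ n).map (algebraMap A R)) ≃ₐ[A ⧸ I ^ n] (B ⧸ (I ^ n).map (algebraMap A B))) := by
  have hle : (I ^ n).map (algebraMap A R) ≤
      ((I ^ n).map (algebraMap A B)).comap (IsScalarTower.toAlgHom A R B) := by
    rw [← map_map_tower' (R := R) (B := B)]
    exact Ideal.le_comap_map
  let q : (R ⧸ (I ^ n).map (algebraMap A R)) →ₐ[A] (B ⧸ (I ^ n).map (algebraMap A B)) :=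
    Ideal.quotientMapₐ _ (IsScalarTower.toAlgHom A R B) hle
  refine ⟨AlgEquiv.extendScalarsOfSurjective Ideal.Quotient.mk_surjective (AlgEquiv.ofBijective q ⟨?_, ?_⟩)⟩
  · refine (injective_iff_map_eq_zero q).mpr fun x hx ↦ ?_
    obtain ⟨r, rfl⟩ := Ideal.Quotient.mk_surjective x
    have hx' : algebraMap R B r ∈ (I ^ n).map (algebraMap A B) := Ideal.Quotient.eq_zero_iff_mem.mp hx
    rw [← map_map_pow (R := R), pairHenselization_algebraMap_mem_pow_iff hB, ← Ideal.map_pow] at hx'
    exact Ideal.Quotient.eq_zero_iff_mem.mpr hx'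
  · intro y
    obtain ⟨b, rfl⟩ := Ideal.Quotient.mk_surjective y
    obtain ⟨r, hr⟩ := pairHenselization_exists_sub_mem_pow hB n b
    rw [map_map_pow] at hr
    exact ⟨Ideal.Quotient.mk _ r, (Ideal.Quotient.eq.mpr hr).symm⟩

theorem exists_sub_mem_pair (hB : Hens2.IsPairHenselization R (I.map (algebraMap A R)) B) (x : B) :
    ∃ r, x - algebraMap R B r ∈ I.map (algebraMap A B) := by
  obtain ⟨r, hr⟩ := pairHenselization_exists_sub_mem hB x
  exact ⟨r, by rwa [map_map_tower'] at hr⟩

end trunc

end Groth.Agent.Hensel
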