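import Groth.Agent.Hensel.PairHens
import Groth.Agent.Hensel.Hfp
import Groth.Agent.Hensel.Ascent
import Groth.Agent.Hensel.CplEquiv
import Groth.Agent.AdicNoeth.Basic
import Mathlib.RingTheory.AdicCompletion.AsTensorProduct
import Mathlib.RingTheory.AdicCompletion.LocalRing
import Mathlib.RingTheory.Flat.EquationalCriterion

/-!
# The henselization of a noetherian pair is noetherian
-/

set_option autoImplicit false

universe u

namespace Groth.Agent.Hensel

variable {A : Type u} [CommRing A] {I : Ideal A} {B : Type u} [CommRing B] [Algebra A B]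

theorem exists_sub_mem_pow {E : Type u} [CommRing E] [Algebra A E]
    (hE : ∀ x : E, ∃ a, x - algebraMap A E a ∈ I.map (algebraMap A E)) (n : ℕ) :
    ∀ x : E, ∃ a, x - algebraMap A E a ∈ (I ^ n).map (algebraMap A E) := by
  induction n with
  | zero => exact fun x => ⟨0, by simp [Ideal.map_top]⟩
  | succ n ih =>
    intro x
    obtain ⟨a, ha⟩ := ih x
    suffices H : ∀ y ∈ (I ^ n).map (algebraMap A E), ∃ b,
        y - algebraMap A E b ∈ (I ^ (n + 1)).map (algebraMap A E) by
      obtain ⟨b, hb⟩ := H _ ha
      exact ⟨a + b, by rwa [map_add, ← sub_sub]⟩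
    intro y hy
    refine Submodule.span_induction ?_ ⟨0, by simp⟩ ?_ ?_ hy
    · rintro _ ⟨i, hi, rfl⟩
      exact ⟨i, by simp⟩
    · rintro u v - - ⟨b, hb⟩ ⟨c, hc⟩
      exact ⟨b + c, by simpa [map_add, add_sub_add_comm] using Ideal.add_mem _ hb hc⟩
    · rintro r y hy' ⟨b, hb⟩
      obtain ⟨c, hc⟩ := hE r
      refine ⟨c * b, ?_⟩
      have h1 : (r - algebraMap A E c) * y ∈ (I ^ (n + 1)).map (algebraMap A E) := by
        rw [pow_succ', Ideal.map_mul]
        exact Ideal.mul_mem_mul hc hy'
      have h2 := Ideal.mul_mem_left _ (algebraMap A E c) hb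
      have := Ideal.add_mem _ h1 h2
      have e : r • y - algebraMap A E (c * b) =
          (r - algebraMap A E c) * y + algebraMap A E c * (y - algebraMap A E b) := by
        rw [map_mul, smul_eq_mul]; ring
      rw [e]; exact this

theorem quotientMap_pow_bijective (hB : Hens2.IsPairHenselization A I B) {E : Type u} [CommRing E]
    [Algebra A E] (hE : IsTrivialModI I E) (ρ : E →ₐ[A] B) (n : ℕ) :
    Function.Bijective
      (Ideal.quotientMap ((I ^ n).map (algebraMap A E)) (algebraMap A E) Ideal.le_comap_map) := by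
  refine ⟨(injective_iff_map_eq_zero _).mpr fun x hx => ?_, fun y => ?_⟩
  · obtain ⟨a, rfl⟩ := Ideal.Quotient.mk_surjective x
    rw [Ideal.quotientMap_mk, Ideal.Quotient.eq_zero_iff_mem] at hx
    have h := Ideal.mem_map_of_mem ρ.toRingHom hx
    rw [Ideal.map_map, AlgHom.toRingHom_eq_coe, ρ.comp_algebraMap, AlgHom.coe_toRingHom, ρ.commutes] at h
    exact Ideal.Quotient.eq_zero_iff_mem.mpr ((pairHenselization_algebraMap_mem_pow_iff hB _ _).mp h)
  · obtain ⟨y, rfl⟩ := Ideal.Quotient.mk_surjective y
    obtain ⟨a, ha⟩ := exists_sub_mem_pow (fun x => hE.exists_sub_mem x) n y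
    exact ⟨Ideal.Quotient.mk _ a, by rw [Ideal.quotientMap_mk]; exact (Ideal.Quotient.eq.mpr ha).symm⟩

section noetherian

variable [IsNoetherianRing A]

theorem henselianRing_completion (I : Ideal A) : HenselianRing (AdicCompletion I A)
    (I.map (algebraMap A (AdicCompletion I A))) := by
  have := AdicCompletion.isAdicComplete_self I I.fg_of_isNoetherianRing
  infer_instance

variable (I) in
/-- The comparison from a pair henselization to the completion is flat. -/
theorem flat_completion (hB : Hens2.IsPairHenselization A I B) (φ : B →ₐ[A] AdicCompletion I A) :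
    @Module.Flat B (AdicCompletion I A) _ _ φ.toRingHom.toAlgebra.toModule := by
  classical
  let := φ.toRingHom.toAlgebra
  obtain ⟨e⟩ := exists_algEquiv_hens_pair hB
  refine Module.Flat.of_forall_isTrivialRelation fun {l f x} h => ?_
  obtain ⟨X, v, hv⟩ := Hens.exists_rep_fintype (fun i => e.symm (f i))
  obtain ⟨E, _, _, _, σ, ψ, hE, hψ⟩ := exists_trivial_nbhd X
  let ρ : E →ₐ[A] B := (e.toAlgHom.comp (Hens.of (Nbhd.mk' E σ))).comp (Nbhd.equiv E σ).symm.toAlgHom
  have hρ : ∀ i, ρ (ψ (v i)) = f i := fun i =>
    (congrArg e (Hens.of_hom (Nbhd.homMk' ψ hψ) (v i))).trans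
      ((congrArg e (hv i)).trans (e.apply_symm_apply _))
  let χ : E →ₐ[A] AdicCompletion I A := φ.comp ρ
  let := χ.toRingHom.toAlgebra
  have : IsNoetherianRing E := Algebra.FiniteType.isNoetherianRing A E
  let J := I.map (algebraMap A E)
  obtain ⟨g, hg⟩ := exists_completion_equiv I J (fun n => Ideal.map_pow _ I n)
    (quotientMap_pow_bijective hB hE ρ)
  let θ : E →ₐ[A] AdicCompletion I A :=
    { g.symm.toRingHom.comp (algebraMap E (AdicCompletion J E)) with
      commutes' := fun a => g.injective (by
        refine (g.apply_symm_apply _).trans ?_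
        rw [AdicCompletion.algebraMap_apply, Algebra.algebraMap_self, RingHom.id_apply,
          AdicCompletion.algebraMap_apply, Algebra.algebraMap_self, RingHom.id_apply, hg]) }
  have hθ : θ = χ := hE.algHom_ext (henselianRing_completion I).jac θ χ
  have hflat : Module.Flat E (AdicCompletion I A) := by
    let g' : AdicCompletion J E ≃ₗ[E] AdicCompletion I A :=
      { g.symm.toAddEquiv with
        map_smul' := fun c z => by
          show g.symm (c • z) = χ c * g.symm z
          rw [Algebra.smul_def, map_mul, ← hθ]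
          rfl }
    exact Module.Flat.of_linearEquiv g'.symm
  have h' : ∑ i, ψ (v i) • x i = 0 := by
    refine Eq.trans (Finset.sum_congr rfl fun i _ => ?_) h
    show φ (ρ (ψ (v i))) * x i = φ (f i) * x i
    rw [hρ]
  obtain ⟨k, a, y, hy, ha⟩ := Module.Flat.isTrivialRelation_of_sum_smul_eq_zero (R := E) (M := AdicCompletion I A) h'
  refine ⟨k, fun i j => ρ (a i j), y, fun i => (hy i).trans (Finset.sum_congr rfl fun j _ => rfl), fun j => ?_⟩
  rw [← map_zero ρ, ← ha j, map_sum]
  exact Finset.sum_congr rfl fun i _ => by rw [map_mul, hρ]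

theorem pairHenselization_isNoetherianRing (hB : Hens2.IsPairHenselization A I B) : IsNoetherianRing B := by
  obtain ⟨φ₀, hφ, -⟩ := hB.2 (AdicCompletion I A) _ (algebraMap A (AdicCompletion I A))
    (henselianRing_completion I) le_rfl
  let φ : B →ₐ[A] AdicCompletion I A := { φ₀ with commutes' := fun a => congrArg (fun k => k a) hφ }
  let := φ.toRingHom.toAlgebra
  have := flat_completion I hB φ
  have : IsNoetherianRing (AdicCompletion I A) := AdicNoeth.isNoetherianRing_adicCompletion _
  have : Module.FaithfullyFlat B (AdicCompletion I A) := ⟨fun m hm htop => ?_⟩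
  · exact isNoetherianRing_of_faithfullyFlat B (AdicCompletion I A)
  rw [Ideal.smul_top_eq_map, Submodule.restrictScalars_eq_top_iff] at htop
  let κ : B →+* A ⧸ I := (AdicCompletion.evalOneₐ I).toRingHom.comp φ.toRingHom
  have hκA : ∀ a, κ (algebraMap A B a) = Ideal.Quotient.mk I a := fun a => by
    show AdicCompletion.evalOneₐ I (φ (algebraMap A B a)) = _
    rw [φ.commutes, AlgHom.commutes]
    rfl
  have hκI : ∀ z ∈ I.map (algebraMap A B), κ z = 0 := fun z hz => by
    have hle : I.map (algebraMap A B) ≤ RingHom.ker κ := Ideal.map_le_iff_le_comap.mpr fun a ha => by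
      rw [Ideal.mem_comap, RingHom.mem_ker, hκA]
      exact Ideal.Quotient.eq_zero_iff_mem.mpr ha
    exact hle hz
  have hIm : I.map (algebraMap A B) ≤ m :=
    (pairHenselization_jacobson hB).trans (sInf_le ⟨bot_le, hm⟩)
  have hker : RingHom.ker κ ≤ m := fun z hz => by
    obtain ⟨a, ha⟩ := pairHenselization_exists_sub_mem hB z
    have h0 := hκI _ ha
    rw [map_sub, RingHom.mem_ker.mp hz, hκA, zero_sub, neg_eq_zero, Ideal.Quotient.eq_zero_iff_mem] at h0
    have := Ideal.add_mem _ (hIm ha) (hIm (Ideal.mem_map_of_mem (algebraMap A B) h0))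
    rwa [sub_add_cancel] at this
  have hsurj : Function.Surjective κ := fun z => by
    obtain ⟨a, rfl⟩ := Ideal.Quotient.mk_surjective z
    exact ⟨_, hκA a⟩
  have h1 : m.map κ = ⊤ := by
    show m.map ((AdicCompletion.evalOneₐ I).toRingHom.comp φ.toRingHom) = ⊤
    rw [← Ideal.map_map]
    exact (congrArg (Ideal.map _) htop).trans (Ideal.map_top _)
  have := congrArg (Ideal.comap κ) h1
  rw [Ideal.comap_map_of_surjective κ hsurj, Ideal.comap_top, ← RingHom.ker_eq_comap_bot,
    sup_eq_left.mpr hker] at this
  exact hm.ne_top this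

theorem pairHenselization_completion_bijective (hB : Hens2.IsPairHenselization A I B) :
    Function.Bijective (AdicCompletion.map I (Algebra.linearMap A B) :
      AdicCompletion I A → AdicCompletion I B) := by
  refine ⟨(injective_iff_map_eq_zero _).mpr fun x hx => ?_, fun y => ?_⟩
  · obtain ⟨s, rfl⟩ := AdicCompletion.mk_surjective I A x
    refine AdicCompletion.ext fun n => ?_
    have h : (AdicCompletion.map I (Algebra.linearMap A B) (AdicCompletion.mk I A s)).val n = 0 := by
      rw [hx]; rfl
    rw [AdicCompletion.map_mk, AdicCompletion.mk_apply_coe, Submodule.mkQ_apply,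
      Submodule.Quotient.mk_eq_zero, Ideal.smul_top_eq_map, Submodule.restrictScalars_mem] at h
    rw [AdicCompletion.mk_apply_coe, Submodule.mkQ_apply]
    refine (Submodule.Quotient.mk_eq_zero _).mpr ?_
    rw [smul_eq_mul, Ideal.mul_top]
    exact (pairHenselization_algebraMap_mem_pow_iff hB _ _).mp h
  · obtain ⟨t, rfl⟩ := AdicCompletion.mk_surjective I B y
    choose a ha using fun n => exists_sub_mem_pow (fun x => pairHenselization_exists_sub_mem hB x) n (t n)
    have hc : AdicCompletion.IsAdicCauchy I A a := fun {p q} hpq => by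
      have h1 : t q - algebraMap A B (a q) ∈ (I ^ p).map (algebraMap A B) :=
        Ideal.map_mono (Ideal.pow_le_pow_right hpq) (ha q)
      have h2 := SModEq.sub_mem.mp (t.2 hpq)
      rw [Ideal.smul_top_eq_map, Submodule.restrictScalars_mem] at h2
      refine SModEq.sub_mem.mpr ?_
      rw [smul_eq_mul, Ideal.mul_top]
      refine (pairHenselization_algebraMap_mem_pow_iff hB _ _).mp ?_
      have := Ideal.add_mem _ (Ideal.sub_mem _ h2 (ha p)) h1
      rw [map_sub]
      convert this using 1
      ring
    refine ⟨AdicCompletion.mk I A ⟨a, hc⟩, ?_⟩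
    rw [AdicCompletion.map_mk]
    refine AdicCompletion.ext fun n => ?_
    rw [AdicCompletion.mk_apply_coe, AdicCompletion.mk_apply_coe, Submodule.mkQ_apply, Submodule.mkQ_apply]
    refine (Submodule.Quotient.eq _).mpr ?_
    rw [Ideal.smul_top_eq_map, Submodule.restrictScalars_mem]
    show algebraMap A B (a n) - t n ∈ _
    rw [← neg_sub]
    exact neg_mem (ha n)

end noetherian

end Groth.Agent.Hensel
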