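import Groth.Agent.Hensel.Main
import Mathlib.Algebra.Colimit.DirectLimit

/-!
# Direct limits of henselian pairs
-/

set_option autoImplicit false

universe u v

namespace Groth.Agent.Hensel

open DirectLimit Polynomial

variable {ι : Type v} [Preorder ι] [IsDirectedOrder ι] [Nonempty ι]
variable {G : ι → Type u} [∀ i, CommRing (G i)] (f : ∀ i j : ι, i ≤ j → (G i →+* G j))
variable [DirectedSystem G (fun i j h => f i j h)]

theorem exists_of (x : DirectLimit G f) : ∃ i y, DirectLimit.Ring.of G f i y = x := by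
  obtain ⟨i, y, rfl⟩ := DirectLimit.exists_eq_mk _ x
  exact ⟨i, y, rfl⟩

theorem of_eq_of {i : ι} {x y : G i} (h : DirectLimit.Ring.of G f i x = DirectLimit.Ring.of G f i y) :
    ∃ (j : ι) (hij : i ≤ j), f i j hij x = f i j hij y := by
  obtain ⟨j, h1, h2, h3⟩ := Quotient.exact h
  exact ⟨j, h1, h3⟩

theorem of_map {i j : ι} (h : i ≤ j) (x : G i) :
    DirectLimit.Ring.of G f j (f i j h x) = DirectLimit.Ring.of G f i x :=
  DirectLimit.Ring.of_f h x

theorem exists_of_finite {κ : Type*} [Finite κ] (x : κ → DirectLimit G f) :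
    ∃ (i : ι) (y : κ → G i), ∀ k, DirectLimit.Ring.of G f i (y k) = x k := by
  choose j z hz using fun k ↦ exists_of f (x k)
  obtain ⟨i, hi⟩ := Finite.exists_le j
  exact ⟨i, fun k ↦ f (j k) i (hi k) (z k), fun k ↦ (of_map f _ _).trans (hz k)⟩

variable (J : ∀ i, Ideal (G i))

theorem exists_mem_of_mem_iSup (hJ : ∀ (i j : ι) (h : i ≤ j), (J i).map (f i j h) ≤ J j)
    {x : DirectLimit G f} (hx : x ∈ ⨆ i, (J i).map (DirectLimit.Ring.of G f i)) :
    ∃ i, ∃ y ∈ J i, DirectLimit.Ring.of G f i y = x := by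
  let K : Ideal (DirectLimit G f) :=
    { carrier := {x | ∃ i, ∃ y ∈ J i, DirectLimit.Ring.of G f i y = x}
      zero_mem' := ⟨Classical.arbitrary ι, 0, zero_mem _, map_zero _⟩
      add_mem' := by
        rintro _ _ ⟨i, y, hy, rfl⟩ ⟨j, z, hz, rfl⟩
        obtain ⟨k, hik, hjk⟩ := exists_ge_ge i j
        refine ⟨k, f i k hik y + f j k hjk z, add_mem (hJ i k hik (Ideal.mem_map_of_mem _ hy))
          (hJ j k hjk (Ideal.mem_map_of_mem _ hz)), ?_⟩
        rw [map_add, of_map, of_map]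
      smul_mem' := by
        rintro c _ ⟨j, z, hz, rfl⟩
        obtain ⟨i, y, rfl⟩ := exists_of f c
        obtain ⟨k, hik, hjk⟩ := exists_ge_ge i j
        refine ⟨k, f i k hik y * f j k hjk z,
          Ideal.mul_mem_left _ _ (hJ j k hjk (Ideal.mem_map_of_mem _ hz)), ?_⟩
        rw [map_mul, of_map, of_map, smul_eq_mul] }
  have : (⨆ i, (J i).map (DirectLimit.Ring.of G f i)) ≤ K :=
    iSup_le fun i ↦ Ideal.map_le_iff_le_comap.mpr fun y hy ↦ ⟨i, y, hy, rfl⟩
  exact this hx

theorem henselianRing_directLimit (hJ : ∀ (i j : ι) (h : i ≤ j), (J i).map (f i j h) ≤ J j)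
    (h : ∀ i, HenselianRing (G i) (J i)) :
    HenselianRing (DirectLimit G f) (⨆ i, (J i).map (DirectLimit.Ring.of G f i)) := by
  refine GabberRoot.henselianRing ⟨fun x hx ↦ Ideal.mem_jacobson_bot.mpr fun z ↦ ?_, fun n hn p hp hpJ ↦ ?_⟩
  · obtain ⟨i, y, hy, rfl⟩ := exists_mem_of_mem_iSup f J hJ hx
    obtain ⟨j, w, rfl⟩ := exists_of f z
    obtain ⟨k, hik, hjk⟩ := exists_ge_ge i j
    rw [← of_map f hik, ← of_map f hjk, ← map_mul, ← map_one (DirectLimit.Ring.of G f k), ← map_add]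
    exact (Ideal.mem_jacobson_bot.mp ((h k).jac (hJ i k hik (Ideal.mem_map_of_mem _ hy))) _).map _
  · choose i y hy hyx using fun m : Fin (n + 1) ↦ exists_mem_of_mem_iSup f J hJ (hpJ m)
    obtain ⟨k, hk⟩ := Finite.exists_le i
    let c : Fin (n + 1) → G k := fun m ↦ f (i m) k (hk m) (y m)
    have hc : ∀ m, c m ∈ J k := fun m ↦ hJ _ k (hk m) (Ideal.mem_map_of_mem _ (hy m))
    let q : (G k)[X] := ∑ m : Fin (n + 1), monomial m.1 (c m)
    have hqd : q.natDegree ≤ n := natDegree_sum_le_of_forall_le _ _ fun m _ ↦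
      (natDegree_monomial_le _).trans (Nat.lt_succ_iff.mp m.2)
    have hqJ : ∀ j, q.coeff j ∈ J k := fun j ↦ by
      rw [finset_sum_coeff]
      refine Ideal.sum_mem _ fun m _ ↦ ?_
      rw [coeff_monomial]
      split_ifs
      · exact hc m
      · exact zero_mem _
    have := h k
    obtain ⟨α, hα, hroot⟩ := (gabberRoot_of_henselianRing (I := J k)).root n hn q hqd hqJ
    have hqp : q.map (DirectLimit.Ring.of G f k) = p := by
      rw [Polynomial.map_sum, p.as_sum_range' (n + 1) (Nat.lt_succ_of_le hp), ← Fin.sum_univ_eq_sum_range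
        (fun m ↦ monomial m (p.coeff m))]
      refine Finset.sum_congr rfl fun m _ ↦ ?_
      rw [map_monomial, of_map, hyx]
    refine ⟨DirectLimit.Ring.of G f k α, ?_, ?_⟩
    · refine le_iSup (fun i ↦ (J i).map (DirectLimit.Ring.of G f i)) k ?_
      rw [← map_one (DirectLimit.Ring.of G f k), ← map_sub]
      exact Ideal.mem_map_of_mem _ hα
    · have h2 := hroot.map (f := DirectLimit.Ring.of G f k)
      rwa [Polynomial.map_add, hqp, Polynomial.map_mul, Polynomial.map_pow, Polynomial.map_sub, map_X,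
        Polynomial.map_one] at h2

end Groth.Agent.Hensel
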