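import Mathlib.RingTheory.Henselian
import Mathlib.RingTheory.ZariskisMainTheorem
import Mathlib.RingTheory.Etale.StandardEtale
import Mathlib.RingTheory.Etale.QuasiFinite
import Mathlib.RingTheory.Polynomial.UniversalFactorizationRing
import Mathlib.RingTheory.Ideal.Pure
import Mathlib.RingTheory.Smooth.Flat
import Mathlib.RingTheory.Unramified.LocalStructure
import Mathlib.LinearAlgebra.Matrix.Charpoly.LinearMap

/-!
# Henselian pairs: the main equivalences (Gabber's criterion)

Everything is derived from the condition `GabberRoot` (roots of `T^n(T-1) + I[T]` in `1 + I`).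
-/

set_option autoImplicit false

universe u v

open Polynomial TensorProduct

namespace Groth.Agent.Hensel

variable {A : Type u} [CommRing A] {I : Ideal A}

section basics

variable {B : Type v} [CommRing B] [Algebra A B]

theorem map_le_jacobson_of_isIntegral [Algebra.IsIntegral A B]
    (hI : I ≤ Ideal.jacobson ⊥) : I.map (algebraMap A B) ≤ Ideal.jacobson ⊥ := by
  refine le_sInf fun m hm ↦ ?_
  have : m.IsMaximal := hm.2
  have hmax : (m.comap (algebraMap A B)).IsMaximal :=
    Ideal.isMaximal_comap_of_isIntegral_of_isMaximal (R := A) m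
  exact Ideal.map_le_iff_le_comap.mpr (hI.trans (sInf_le ⟨bot_le, hmax⟩))

theorem eq_zero_of_mul_self_eq_of_mem_jacobson {x : B} (h : x * x = x)
    (hx : x ∈ Ideal.jacobson (⊥ : Ideal B)) : x = 0 := by
  have hu := Ideal.mem_jacobson_bot.mp hx (-1)
  exact hu.mul_left_eq_zero.mp (show x * (x * -1 + 1) = 0 by linear_combination -h)

theorem idem_eq_of_sub_mem_jacobson {e e' : B} (he : IsIdempotentElem e)
    (he' : IsIdempotentElem e') (h : e - e' ∈ Ideal.jacobson (⊥ : Ideal B)) : e = e' := by
  have hu := Ideal.mem_jacobson_bot.mp h (-(e - e'))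
  refine sub_eq_zero.mp (hu.mul_left_eq_zero.mp ?_)
  linear_combination (-e + 3 * e' - 1) * he.eq + (e' - 3 * e + 1) * he'.eq

theorem isUnit_of_sub_one_mem {x : A} (hI : I ≤ Ideal.jacobson ⊥) (hx : x - 1 ∈ I) :
    IsUnit x := by
  simpa using Ideal.mem_jacobson_bot.mp (hI hx) 1

end basics

/-- Gabber's condition on a pair `(A, I)`. -/
structure GabberRoot (A : Type u) [CommRing A] (I : Ideal A) : Prop where
  jac : I ≤ Ideal.jacobson ⊥
  root : ∀ n : ℕ, 0 < n → ∀ p : A[X], p.natDegree ≤ n → (∀ i, p.coeff i ∈ I) →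
    ∃ α : A, α - 1 ∈ I ∧ (X ^ n * (X - 1) + p).IsRoot α

theorem natDegree_X_pow_mul_X_sub_one [Nontrivial A] (n : ℕ) :
    (X ^ n * (X - 1) : A[X]).natDegree = n + 1 := by
  rw [← C_1, Monic.natDegree_mul (monic_X_pow n) (monic_X_sub_C 1), natDegree_X_pow,
    natDegree_X_sub_C]

theorem gabberRoot_of_henselianRing [h : HenselianRing A I] : GabberRoot A I := by
  refine ⟨h.jac, fun n hn p hp hpI ↦ ?_⟩
  cases subsingleton_or_nontrivial A
  · exact ⟨1, by simp, Subsingleton.elim _ _⟩
  have hm : (X ^ n * (X - 1) : A[X]).Monic := (monic_X_pow n).mul (monic_X_sub_C 1)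
  have hmon : (X ^ n * (X - 1) + p).Monic := by
    refine hm.add_of_left (lt_of_le_of_lt degree_le_natDegree ?_)
    rw [degree_eq_natDegree hm.ne_zero, natDegree_X_pow_mul_X_sub_one]
    exact_mod_cast Nat.lt_succ_of_le hp
  have hmap : p.map (Ideal.Quotient.mk I) = 0 := by
    ext i; simpa [Ideal.Quotient.eq_zero_iff_mem] using hpI i
  obtain ⟨α, hα, hα1⟩ := h.is_henselian _ hmon 1 (by
    rw [← Ideal.Quotient.eq_zero_iff_mem, ← eval_map_apply, Polynomial.map_add, hmap]
    simp) (by
    rw [← eval_map_apply, ← derivative_map, Polynomial.map_add, hmap]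
    simp [derivative_pow])
  exact ⟨α, hα1, hα⟩

/-- Rank one idempotents lift. -/
theorem exists_idem_of_rankOne (h : GabberRoot A I) {B : Type v} [CommRing B] [Algebra A B]
    [Module.Finite A B] (b : B) (hb : b * b - b ∈ I.map (algebraMap A B))
    (hrank : ∀ x : B, ∃ a : A, b * x - a • b ∈ I.map (algebraMap A B)) :
    ∃ e : B, IsIdempotentElem e ∧ e - b ∈ I.map (algebraMap A B) := by
  classical
  cases subsingleton_or_nontrivial A
  · exact ⟨b, by
      have := Module.subsingleton A B
      exact Subsingleton.elim _ _, by simp⟩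
  obtain ⟨k, s, hs⟩ := Module.Finite.exists_fin (R := A) (M := B)
  choose a ha using hrank
  let ι := Option (Fin (k + 1))
  let s' : Fin (k + 1) → B := Fin.cons 0 s
  let t : ι → B := fun o ↦ o.elim b fun i ↦ s' i - a (s' i) • b
  have ht : Submodule.span A (Set.range t) = ⊤ := by
    refine top_unique (hs.ge.trans (Submodule.span_le.mpr ?_))
    rintro _ ⟨i, rfl⟩
    have h₁ : t (some i.succ) ∈ Submodule.span A (Set.range t) := Submodule.subset_span ⟨_, rfl⟩
    have h₂ : t none ∈ Submodule.span A (Set.range t) := Submodule.subset_span ⟨_, rfl⟩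
    simpa [t, s'] using add_mem h₁ (Submodule.smul_mem _ (a (s i)) h₂)
  let d : ι → A := fun o ↦ o.elim 1 fun _ ↦ 0
  have hcol : ∀ j, ∃ c : ι → A, (∀ i, c i ∈ I) ∧ ∑ i, c i • t i = b * t j - d j • t j := by
    intro j
    have hmem : b * t j - d j • t j ∈ I.map (algebraMap A B) := by
      cases j with
      | none => simpa [t, d] using hb
      | some i =>
        have e : b * (s' i - a (s' i) • b) =
            (b * s' i - a (s' i) • b) - a (s' i) • (b * b - b) := by
          simp [mul_sub, Algebra.smul_def]; ring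
        simpa [t, d, e] using sub_mem (ha (s' i)) (Submodule.smul_of_tower_mem _ (a (s' i)) hb)
    have hmem' : b * t j - d j • t j ∈ I • Submodule.span A (Set.range t) := by
      rw [ht, Ideal.smul_top_eq_map]; exact hmem
    obtain ⟨c, hc, hsum⟩ := (Submodule.mem_ideal_smul_span_iff_exists_sum I t _).mp hmem'
    refine ⟨c, hc, ?_⟩
    rw [← hsum, Finsupp.sum_fintype _ _ fun i ↦ zero_smul A (t i)]
  choose c hcI hc using hcol
  let M : Matrix ι ι A := Matrix.of fun i j ↦ (if i = j then d j else 0) + c j i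
  have hM : M.Represents t (LinearMap.mulLeft A b) := by
    rw [Matrix.represents_iff']
    intro j
    simp [M, add_smul, Finset.sum_add_distrib, ite_smul, hc j]
    rw [Finset.sum_eq_single j (fun x _ hx ↦ if_neg hx) (by simp), if_pos rfl]
    abel
  have hker : aeval b M.charpoly = 0 := by
    let M' : Matrix.isRepresentation A t := ⟨M, _, hM⟩
    have h₁ : aeval M' M.charpoly = 0 := by
      apply Subtype.ext
      rw [Polynomial.aeval_subalgebra_coe]
      exact Matrix.aeval_self_charpoly M
    have h₂ : aeval (LinearMap.mulLeft A b) M.charpoly = 0 := by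
      rw [← Matrix.isRepresentation.eq_toEnd_of_represents A t ht M' hM, aeval_algHom_apply, h₁,
        map_zero]
    have h₃ := aeval_algHom_apply (Algebra.lmul A B) b M.charpoly
    rw [show Algebra.lmul A B b = LinearMap.mulLeft A b from rfl, h₂] at h₃
    simpa using congr($h₃.symm 1)
  let n := k + 1
  have hdeg : M.charpoly.natDegree = n + 1 := by
    rw [Matrix.charpoly_natDegree_eq_dim]; simp [ι, n]
  have hmap : M.charpoly.map (Ideal.Quotient.mk I) = X ^ n * (X - 1) := by
    rw [← Matrix.charpoly_map]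
    have hMd : M.map (Ideal.Quotient.mk I) = Matrix.diagonal (fun j ↦ Ideal.Quotient.mk I (d j)) := by
      ext i j
      simp [M, Matrix.diagonal_apply, Ideal.Quotient.eq_zero_iff_mem.mpr (hcI j i), apply_ite]
      split <;> simp_all
    simp [hMd, Matrix.charpoly_diagonal, ι, d, Fintype.prod_option, n, mul_comm]
  let p := M.charpoly - X ^ n * (X - 1)
  have hm : (X ^ n * (X - 1) : A[X]).Monic := (monic_X_pow n).mul (monic_X_sub_C 1)
  have hmd : (X ^ n * (X - 1) : A[X]).natDegree = n + 1 := by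
    exact natDegree_X_pow_mul_X_sub_one n
  have hpd : p.natDegree ≤ n := by
    rw [natDegree_le_iff_coeff_eq_zero]
    intro i hi
    rcases Nat.eq_or_lt_of_le (Nat.succ_le_of_lt hi) with h' | h'
    · subst h'
      have e1 := M.charpoly_monic.coeff_natDegree
      have e2 := hm.coeff_natDegree
      rw [hdeg] at e1; rw [hmd] at e2
      simp [p, e1, e2]
    · simp only [p, coeff_sub]
      rw [coeff_eq_zero_of_natDegree_lt (by omega), coeff_eq_zero_of_natDegree_lt (by omega),
        sub_zero]
  have hpI : ∀ i, p.coeff i ∈ I := by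
    intro i
    rw [← Ideal.Quotient.eq_zero_iff_mem, ← coeff_map]
    simp [p, hmap]
  obtain ⟨α, hα1, hα⟩ := h.root n k.succ_pos p hpd hpI
  have hroot : M.charpoly.IsRoot α := by simpa [p] using hα
  set q := M.charpoly /ₘ (X - C α) with hq
  have hfac : (X - C α) * q = M.charpoly := mul_divByMonic_eq_iff_isRoot.mpr hroot
  have hqm : q.map (Ideal.Quotient.mk I) = X ^ n := by
    have hα' : Ideal.Quotient.mk I α = 1 := by
      rw [← map_one (Ideal.Quotient.mk I), Ideal.Quotient.eq]; exact hα1
    have e := congr(Polynomial.map (Ideal.Quotient.mk I) $hfac)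
    rw [hmap, Polynomial.map_mul, Polynomial.map_sub, map_X, map_C, hα', mul_comm (X ^ n)] at e
    exact (monic_X_sub_C (1 : A ⧸ I)).isRegular.left e
  have hqα : IsUnit (q.eval α) := by
    refine isUnit_of_sub_one_mem h.jac ?_
    rw [← Ideal.Quotient.eq_zero_iff_mem, map_sub, ← eval_map_apply, hqm,
      Ideal.Quotient.mk_eq_mk_iff_sub_mem α 1 |>.mpr hα1]
    simp
  obtain ⟨w, hw⟩ := hqα.exists_left_inv
  let β := algebraMap A B α
  have hbq : (b - β) * aeval b q = 0 := by
    have := congr(aeval b $hfac)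
    simpa [β, hker] using this
  have hdiv : (b - β) ∣ aeval b q - algebraMap A B (q.eval α) := by
    rw [← aeval_algebraMap_apply_eq_algebraMap_eval]
    have hd := sub_dvd_eval_sub b β (q.map (algebraMap A B))
    rw [eval_map, eval_map, ← aeval_def, ← aeval_def] at hd
    exact hd
  refine ⟨algebraMap A B w * aeval b q, ?_, ?_⟩
  · obtain ⟨z, hz⟩ := hdiv
    have hw' : algebraMap A B w * algebraMap A B (q.eval α) = 1 := by
      rw [← map_mul, hw, map_one]
    unfold IsIdempotentElem
    linear_combination (algebraMap A B w) ^ 2 * z * hbq +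
      (algebraMap A B w) ^ 2 * aeval b q * hz + algebraMap A B w * aeval b q * hw'
  · let π := Ideal.Quotient.mk (I.map (algebraMap A B))
    change _ ∈ _
    rw [← Ideal.Quotient.eq_zero_iff_mem, map_sub, map_mul, sub_eq_zero]
    have hπb : π b * π b = π b := by
      rw [← map_mul, Ideal.Quotient.eq]; exact hb
    have hw1 : π (algebraMap A B w) = 1 := by
      rw [← map_one π, Ideal.Quotient.eq, ← map_one (algebraMap A B), ← map_sub]
      refine Ideal.mem_map_of_mem _ ?_
      have hq1 : q.eval α - 1 ∈ I := by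
        rw [← Ideal.Quotient.eq_zero_iff_mem, map_sub, ← eval_map_apply, hqm,
          (Ideal.Quotient.mk_eq_mk_iff_sub_mem α 1).mpr hα1]
        simp
      have : w - 1 = w * (1 - q.eval α) := by linear_combination hw
      exact this ▸ I.mul_mem_left w (by simpa using neg_mem hq1)
    have hqb : π (aeval b q) = π b ^ n := by
      let φ : A ⧸ I →+* B ⧸ I.map (algebraMap A B) :=
        Ideal.quotientMap _ (algebraMap A B) Ideal.le_comap_map
      rw [aeval_def, hom_eval₂, show π.comp (algebraMap A B) = φ.comp (Ideal.Quotient.mk I) from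
        RingHom.ext fun x ↦ rfl, ← eval₂_map, hqm]
      simp [π]
    change π (algebraMap A B w) * π (aeval b q) = π b
    rw [hw1, hqb, one_mul]
    have hpow : ∀ m : ℕ, 0 < m → π b ^ m = π b := fun m hm ↦
      IsIdempotentElem.pow_eq (show IsIdempotentElem (π b) from hπb) hm.ne'
    exact hpow n k.succ_pos

/-- Étale algebras: a point over `A ⧸ I` lifts to a section. -/
theorem exists_algHom_lift_of_etale (h : GabberRoot A I) (S : Type u) [CommRing S] [Algebra A S]
    [Algebra.Etale A S] (σ : S →ₐ[A] A ⧸ I) :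
    ∃ τ : S →ₐ[A] A, (Ideal.Quotient.mkₐ A I).comp τ = σ := by
  classical
  -- finite subalgebra `B` with an element `r`, `σ r = 1`, such that `S` is `B` after inverting `r`
  obtain ⟨B, hBfg, r, hrB, hσr, hr⟩ : ∃ B : Subalgebra A S, B.toSubmodule.FG ∧ ∃ r ∈ B,
      σ r = 1 ∧ ∀ x, ∃ k, r ^ k * x ∈ B := by
    let T : Set S := {r | ∃ B : Subalgebra A S, B.toSubmodule.FG ∧ r ∈ B ∧ ∀ x, ∃ k, r ^ k * x ∈ B}
    have hT : Ideal.span T = ⊤ := by
      by_contra hne
      obtain ⟨m, hm, hle⟩ := Ideal.exists_le_maximal _ hne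
      have : Algebra.QuasiFiniteAt A m := inferInstance
      obtain ⟨B, hB, r, hrm, hbij⟩ :=
        Algebra.QuasiFiniteAt.exists_fg_and_exists_notMem_and_awayMap_bijective (R := A) m
      refine hrm (hle (Ideal.subset_span ⟨B, hB, r.2, fun x ↦ ?_⟩))
      obtain ⟨z, hz⟩ := hbij.2 (algebraMap S (Localization.Away (r.1)) x)
      obtain ⟨m', y, hy⟩ := IsLocalization.Away.surj r z
      have : algebraMap S (Localization.Away (r.1)) (x * r.1 ^ m') =
          algebraMap S (Localization.Away (r.1)) y.1 := by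
        have e := congr(Localization.awayMap B.val.toRingHom r $hy)
        simp only [map_mul, map_pow, hz] at e
        simp only [Localization.awayMap, IsLocalization.Away.map, IsLocalization.map_eq] at e
        rw [map_mul, map_pow]
        exact e
      obtain ⟨⟨_, j, rfl⟩, hj⟩ :=
        (IsLocalization.eq_iff_exists (Submonoid.powers r.1) _).mp this
      refine ⟨j + m', ?_⟩
      rw [show r.1 ^ (j + m') * x = r.1 ^ j * (x * r.1 ^ m') by ring, hj]
      exact mul_mem (pow_mem r.2 j) y.2
    obtain ⟨T', hT', h1⟩ := Submodule.mem_span_finite_of_mem_span (hT ▸ Submodule.mem_top : (1 : S) ∈ Ideal.span T)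
    obtain ⟨c, -, hc⟩ := Submodule.mem_span_finset.mp h1
    choose Bf hBf hmem hloc using fun x : T' ↦ hT' x.2
    choose G hG using fun x : T' ↦ hBf x
    choose aσ haσ using fun x : S ↦ Ideal.Quotient.mk_surjective (σ x)
    let gens : Set S := ⋃ x : T', (G x : Set S)
    let B : Subalgebra A S := Algebra.adjoin A gens
    have hGB : ∀ x, Bf x ≤ B := fun x ↦ by
      have : (Bf x).toSubmodule ≤ B.toSubmodule := by
        rw [← hG x, Submodule.span_le]
        exact fun y hy ↦ Algebra.subset_adjoin (Set.mem_iUnion.mpr ⟨x, hy⟩)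
      exact this
    have hB : B.toSubmodule.FG := by
      refine fg_adjoin_of_finite (Set.finite_iUnion fun x ↦ (G x).finite_toSet) fun y hy ↦ ?_
      obtain ⟨x, hx⟩ := Set.mem_iUnion.mp hy
      exact IsIntegral.of_mem_of_fg (Bf x) (hBf x) y
        (show y ∈ (Bf x).toSubmodule from hG x ▸ Submodule.subset_span hx)
    let r : B := ∑ x : T', algebraMap A B (aσ (c x)) * ⟨x.1, hGB x (hmem x)⟩
    refine ⟨B, hB, r.1, r.2, ?_, fun y ↦ ?_⟩
    · have hc' := congr(σ $hc)
      rw [← Finset.sum_coe_sort, map_sum, map_one] at hc'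
      simp [r, map_sum, ← hc', haσ]
    · let J : Ideal B :=
        { carrier := {c | c.1 * y ∈ B}
          add_mem' := fun {a b} (ha : a.1 * y ∈ B) (hb : b.1 * y ∈ B) ↦
            show (a.1 + b.1) * y ∈ B by rw [add_mul]; exact add_mem ha hb
          zero_mem' := show (0 : S) * y ∈ B by rw [zero_mul]; exact zero_mem B
          smul_mem' := fun a b (hb : b.1 * y ∈ B) ↦
            show a.1 * b.1 * y ∈ B by rw [mul_assoc]; exact mul_mem a.2 hb }
      have hrad : r ∈ J.radical := by
        refine sum_mem fun x _ ↦ Ideal.mul_mem_left _ _ ?_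
        obtain ⟨k, hk⟩ := hloc x y
        exact ⟨k, show ((⟨x.1, hGB x (hmem x)⟩ : B) ^ k).1 * y ∈ B from hGB x (by simpa using hk)⟩
      obtain ⟨k, hk⟩ := hrad
      exact ⟨k, by simpa [J] using hk⟩
  have : Module.Finite A B := ⟨(Submodule.fg_top _).mpr hBfg⟩
  -- the idempotent cutting out the section modulo `I`
  obtain ⟨η, hση, hη⟩ : ∃ η : S, σ η = 1 ∧ ∀ x, σ x = 0 → η * x ∈ I.map (algebraMap A S) := by
    let σ' : (A ⧸ I) ⊗[A] S →ₐ[A ⧸ I] A ⧸ I :=
      Algebra.TensorProduct.lift (AlgHom.id _ _) σ fun _ _ ↦ .all _ _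
    have hσ' : ∀ x, σ' (1 ⊗ₜ x) = σ x := fun x ↦ by simp [σ']
    have hsurj : Function.Surjective σ' := fun x ↦ ⟨algebraMap _ _ x, σ'.commutes x⟩
    let := σ'.toAlgebra
    have : IsScalarTower (A ⧸ I) ((A ⧸ I) ⊗[A] S) (A ⧸ I) :=
      .of_algebraMap_eq' σ'.comp_algebraMap.symm
    obtain ⟨e, he, hspan⟩ :=
      (Ideal.isIdempotentElem_iff_of_fg _
        (Algebra.FinitePresentation.ker_fG_of_surjective σ' hsurj)).mp
        ((Algebra.FormallyEtale.iff_of_surjective hsurj).mp (.of_restrictScalars (R := A ⧸ I)))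
    obtain ⟨ε, rfl⟩ := Algebra.TensorProduct.includeRight_surjective S
      (Ideal.Quotient.mk_surjective (I := I) : Function.Surjective (algebraMap A (A ⧸ I))) e
    refine ⟨1 - ε, ?_, fun x hx ↦ ?_⟩
    · have : Algebra.TensorProduct.includeRight ε ∈ RingHom.ker σ'.toRingHom :=
        hspan.ge (Ideal.mem_span_singleton_self _)
      have h0 : σ ε = 0 := (hσ' ε).symm.trans this
      rw [map_sub, map_one, h0, sub_zero]
    · have h1 : ((1 : A ⧸ I) ⊗ₜ[A] x) ∈ RingHom.ker σ'.toRingHom := by simp [RingHom.mem_ker, hσ', hx]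
      rw [hspan] at h1
      obtain ⟨z, hz⟩ := Ideal.mem_span_singleton'.mp h1
      have h2 : (1 - Algebra.TensorProduct.includeRight ε) * ((1 : A ⧸ I) ⊗ₜ[A] x) = 0 := by
        rw [← hz]; linear_combination -z * he.eq
      have h3 : (1 : A ⧸ I) ⊗ₜ[A] ((1 - ε) * x) = 0 := by
        rw [← h2]
        simp [sub_mul, TensorProduct.tmul_sub]
      have h4 := congr(TensorProduct.quotTensorEquivQuotSMul S I $h3)
      rw [TensorProduct.quotTensorEquivQuotSMul_mk_one_tmul, map_zero,
        Submodule.Quotient.mk_eq_zero, Ideal.smul_top_eq_map] at h4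
      exact h4
  -- move everything into `B`
  obtain ⟨m, hm⟩ := hr η
  obtain ⟨N, s, hs⟩ := Module.Finite.exists_fin (R := A) (M := B)
  choose a ha using fun x : S ↦ Ideal.Quotient.mk_surjective (σ x)
  have hσa : ∀ x : S, σ (x - algebraMap A S (a x)) = 0 := fun x ↦ by simp [ha]
  let J : B → Prop := fun c ↦ ∀ i, c * (s i - algebraMap A B (a (s i).1)) ∈ I.map (algebraMap A B)
  let b₀ : B := ⟨r ^ m * η, hm⟩
  have hkey : ∀ z ∈ I.map (algebraMap A S), ∃ k, ∀ k', k ≤ k' →
      ∀ (hz : r ^ k' * z ∈ B), (⟨r ^ k' * z, hz⟩ : B) ∈ I.map (algebraMap A B) := by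
    intro z hz
    rw [Ideal.map] at hz
    induction hz using Submodule.span_induction with
    | mem x hx =>
      obtain ⟨i, hi, rfl⟩ := hx
      refine ⟨0, fun k' _ hz ↦ ?_⟩
      have : (⟨r ^ k' * algebraMap A S i, hz⟩ : B) = algebraMap A B i * ⟨r ^ k', pow_mem hrB k'⟩ :=
        Subtype.ext (mul_comm _ _)
      rw [this]
      exact Ideal.mul_mem_right _ _ (Ideal.mem_map_of_mem _ hi)
    | zero =>
      refine ⟨0, fun k' _ hz ↦ ?_⟩
      convert zero_mem (I.map (algebraMap A B)) using 1
      exact Subtype.ext (mul_zero _)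
    | add x y _ _ hx hy =>
      obtain ⟨k₁, h₁⟩ := hx
      obtain ⟨k₂, h₂⟩ := hy
      obtain ⟨j₁, hj₁⟩ := hr x
      obtain ⟨j₂, hj₂⟩ := hr y
      refine ⟨k₁ + k₂ + j₁ + j₂, fun k' hk' hz ↦ ?_⟩
      have hx' : r ^ k' * x ∈ B := by
        rw [show k' = (k' - j₁) + j₁ by omega, pow_add, mul_assoc]
        exact mul_mem (pow_mem hrB _) hj₁
      have hy' : r ^ k' * y ∈ B := by
        rw [show k' = (k' - j₂) + j₂ by omega, pow_add, mul_assoc]
        exact mul_mem (pow_mem hrB _) hj₂
      convert add_mem (h₁ k' (by omega) hx') (h₂ k' (by omega) hy') using 1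
      exact Subtype.ext (mul_add _ _ _)
    | smul c x _ hx =>
      obtain ⟨k, hk⟩ := hx
      obtain ⟨j, hj⟩ := hr c
      obtain ⟨j', hj'⟩ := hr x
      refine ⟨k + j + j', fun k' hk' hz ↦ ?_⟩
      have hx' : r ^ (k' - j) * x ∈ B := by
        rw [show k' - j = (k' - j - j') + j' by omega, pow_add, mul_assoc]
        exact mul_mem (pow_mem hrB _) hj'
      convert Ideal.mul_mem_left _ ⟨r ^ j * c, hj⟩ (hk (k' - j) (by omega) hx') using 1
      refine Subtype.ext ?_
      show r ^ k' * (c • x) = r ^ j * c * (r ^ (k' - j) * x)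
      rw [smul_eq_mul, show r ^ k' = r ^ j * r ^ (k' - j) by rw [← pow_add]; congr 1; omega]
      ring
  have hex : ∀ i, ∃ k, ∀ k', k ≤ k' → (⟨r ^ k', pow_mem hrB k'⟩ : B) *
      (b₀ * (s i - algebraMap A B (a (s i).1))) ∈ I.map (algebraMap A B) := by
    intro i
    obtain ⟨k, hk⟩ := hkey _ (hη _ (hσa (s i).1))
    refine ⟨k, fun k' hk' ↦ ?_⟩
    let z : B := (⟨r ^ k', pow_mem hrB k'⟩ : B) * (b₀ * (s i - algebraMap A B (a (s i).1)))
    have hz : z.1 = r ^ (k' + m) * (η * ((s i).1 - algebraMap A S (a (s i).1))) := by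
      show r ^ k' * (r ^ m * η * ((s i).1 - algebraMap A S (a (s i).1))) = _
      ring
    show z ∈ _
    convert hk (k' + m) (by omega) (hz ▸ z.2) using 1
    exact Subtype.ext hz
  choose k hk using hex
  let K := Finset.univ.sup k
  let b : B := ⟨r ^ K, pow_mem hrB K⟩ * b₀
  let σB : B →ₐ[A] A ⧸ I := σ.comp B.val
  have hb1 : σB b = 1 := by
    show σ (r ^ K * (r ^ m * η)) = 1
    simp [hσr, hση]
  have hσB : ∀ x : B, x ∈ I.map (algebraMap A B) → σB x = 0 := by
    intro x hx
    have : I.map (algebraMap A B) ≤ RingHom.ker σB.toRingHom := by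
      rw [Ideal.map_le_iff_le_comap]
      intro i hi
      simp [RingHom.mem_ker, Ideal.Quotient.eq_zero_iff_mem.mpr hi]
    exact this hx
  have hbx : ∀ (x : B) (α : A), Ideal.Quotient.mk I α = σB x →
      b * x - α • b ∈ I.map (algebraMap A B) := by
    intro x α hα
    obtain ⟨cs, rfl⟩ : ∃ cs : Fin N → A, ∑ i, cs i • s i = x :=
      Submodule.mem_span_range_iff_exists_fun A |>.mp (hs.ge Submodule.mem_top)
    have h1 : (∑ i, cs i * a (s i).1) - α ∈ I := by
      rw [← Ideal.Quotient.eq_zero_iff_mem, map_sub, map_sum, hα, sub_eq_zero, map_sum]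
      refine Finset.sum_congr rfl fun i _ ↦ ?_
      rw [map_smul, map_mul, ha, Algebra.smul_def]
      rfl
    have h2 : b * (∑ i, cs i • s i) - α • b =
        (∑ i, cs i • (b * (s i - algebraMap A B (a (s i).1)))) +
          b * algebraMap A B ((∑ i, cs i * a (s i).1) - α) := by
      simp only [Algebra.smul_def, map_sub, map_sum, map_mul, mul_sub, Finset.mul_sum,
        Finset.sum_sub_distrib]
      rw [show ∑ i, b * (algebraMap A B (cs i) * s i) = ∑ i, algebraMap A B (cs i) * (b * s i) from
        Finset.sum_congr rfl fun i _ ↦ by ring,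
        show ∑ i, b * (algebraMap A B (cs i) * algebraMap A B (a (s i).1)) =
          ∑ i, algebraMap A B (cs i) * (b * algebraMap A B (a (s i).1)) from
        Finset.sum_congr rfl fun i _ ↦ by ring]
      ring
    rw [h2]
    refine add_mem (sum_mem fun i _ ↦ Submodule.smul_of_tower_mem _ _ ?_)
      (Ideal.mul_mem_left _ _ (Ideal.mem_map_of_mem _ h1))
    rw [show b * (s i - algebraMap A B (a (s i).1)) =
      (⟨r ^ K, pow_mem hrB K⟩ : B) * (b₀ * (s i - algebraMap A B (a (s i).1))) from mul_assoc _ _ _]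
    exact hk i K (Finset.le_sup (Finset.mem_univ i))
  obtain ⟨e, he, heb⟩ := exists_idem_of_rankOne h b
    (by simpa using hbx b 1 (by simp [hb1]))
    (fun x ↦ (Ideal.Quotient.mk_surjective (σB x)).imp fun α hα ↦ hbx x α hα)
  have hσe : σ e.1 = 1 := by
    have := hσB _ heb
    rw [map_sub, hb1, sub_eq_zero] at this
    exact this
  have hex' : ∀ x : B, ∃ α : A, e * x = α • e := by
    let L : B →ₗ[A] B := LinearMap.mulLeft A e
    have hle : LinearMap.range L ≤ (A ∙ e) ⊔ I • LinearMap.range L := by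
      rintro _ ⟨x, rfl⟩
      obtain ⟨α, hα⟩ := Ideal.Quotient.mk_surjective (σB x)
      have hmem : x * e - α • e ∈ I.map (algebraMap A B) := by
        rw [show x * e - α • e = (b * x - α • b) + (x * (e - b) - α • (e - b)) by
          simp [mul_sub, smul_sub]; ring]
        exact add_mem (hbx x α hα) (sub_mem (Ideal.mul_mem_left _ _ heb)
          (Submodule.smul_of_tower_mem _ _ heb))
      have h' : L (x * e - α • e) ∈ I • LinearMap.range L := by
        rw [LinearMap.range_eq_map, ← Submodule.map_smul'', Ideal.smul_top_eq_map]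
        exact Submodule.mem_map_of_mem hmem
      have : L x = α • e + L (x * e - α • e) := by
        simp only [L, LinearMap.mulLeft_apply, mul_sub, mul_smul_comm, he.eq, ← mul_assoc]
        rw [mul_right_comm, he.eq]
        abel
      rw [this]
      exact Submodule.add_mem_sup (Submodule.smul_mem _ _ (Submodule.mem_span_singleton_self e)) h'
    have := Submodule.le_of_le_smul_of_le_jacobson_bot
      (Module.Finite.fg_top.map L |> fun h ↦ by rwa [Submodule.map_top] at h) h.jac hle
    intro x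
    obtain ⟨α, hα⟩ := Submodule.mem_span_singleton.mp (this ⟨x, rfl⟩)
    exact ⟨α, hα.symm⟩
  -- every element of `S` becomes a scalar after multiplying by `e`
  obtain ⟨c, hc⟩ := hex' ⟨r, hrB⟩
  have hc1 : IsUnit c := by
    refine isUnit_of_sub_one_mem h.jac ?_
    rw [← Ideal.Quotient.eq_zero_iff_mem, map_sub, map_one, sub_eq_zero]
    have := congr(σ (Subtype.val $hc))
    simp [hσe, hσr, Algebra.smul_def] at this
    exact this.symm
  obtain ⟨d, hd⟩ := hc1.exists_left_inv
  have hall : ∀ x : S, ∃ α : A, e.1 * x = α • e.1 := by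
    intro x
    obtain ⟨j, hj⟩ := hr x
    obtain ⟨β, hβ⟩ := hex' ⟨r ^ j * x, hj⟩
    refine ⟨d ^ j * β, ?_⟩
    have hcj : ∀ j : ℕ, e.1 * r ^ j = c ^ j • e.1 := by
      intro j
      induction j with
      | zero => simp
      | succ j ih =>
        rw [pow_succ, ← mul_assoc, ih, smul_mul_assoc, show e.1 * r = c • e.1 from congr(Subtype.val $hc),
          smul_smul, pow_succ]
    have h1 : c ^ j • (e.1 * x) = β • e.1 := by
      rw [← smul_mul_assoc, ← hcj, mul_assoc]
      exact congr(Subtype.val $hβ)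
    have := congr(d ^ j • $h1)
    rwa [smul_smul, ← mul_pow, hd, one_pow, one_smul, smul_smul] at this
  let T := S ⧸ Ideal.span {1 - e.1}
  have hmk : ∀ x : S, (Ideal.Quotient.mk _ x : T) = Ideal.Quotient.mk _ (e.1 * x) := by
    intro x
    rw [Ideal.Quotient.eq, Ideal.mem_span_singleton]
    exact ⟨x, by ring⟩
  have hsurj : Function.Surjective (algebraMap A T) := by
    intro t
    obtain ⟨x, rfl⟩ := Ideal.Quotient.mk_surjective t
    obtain ⟨α, hα⟩ := hall x
    exact ⟨α, by rw [hmk x, hα, Algebra.smul_def, mul_comm, ← hmk, Ideal.Quotient.mk_algebraMap]⟩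
  have heS : IsIdempotentElem e.1 := congr(Subtype.val $he.eq)
  have : IsLocalization.Away e.1 T :=
    IsLocalization.away_of_isIdempotentElem heS Ideal.mk_ker Ideal.Quotient.mk_surjective
  have : Algebra.Etale S T := Algebra.Etale.of_isLocalizationAway e.1
  have : Algebra.Etale A T := Algebra.Etale.comp A S T
  have hsurj' : Function.Surjective (Algebra.ofId A T) := hsurj
  have hinj : Function.Injective (algebraMap A T) := by
    rw [RingHom.injective_iff_ker_eq_bot]
    have hfg := Algebra.FinitePresentation.ker_fG_of_surjective (Algebra.ofId A T) hsurj'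
    have hidem : IsIdempotentElem (RingHom.ker (algebraMap A T)) :=
      (Algebra.FormallyEtale.iff_of_surjective hsurj).mp inferInstance
    obtain ⟨z, hz, hzJ⟩ := (Ideal.isIdempotentElem_iff_of_fg _ hfg).mp hidem
    have hzI : z ∈ I := by
      rw [← Ideal.Quotient.eq_zero_iff_mem]
      have hz0 : algebraMap A T z = 0 :=
        RingHom.mem_ker.mp (hzJ.ge (Ideal.mem_span_singleton_self z))
      rw [← Ideal.Quotient.mk_algebraMap, Ideal.Quotient.eq_zero_iff_mem,
        Ideal.mem_span_singleton] at hz0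
      obtain ⟨w, hw⟩ := hz0
      have := congr(σ $hw)
      simpa [hσe] using this
    rw [eq_bot_iff]
    intro x hx
    replace hx : x ∈ A ∙ z := hzJ.le hx
    rw [eq_zero_of_mul_self_eq_of_mem_jacobson hz.eq (h.jac hzI)] at hx
    simpa using hx
  let e₁ : A ≃ₐ[A] T := AlgEquiv.ofBijective (Algebra.ofId A T) ⟨hinj, hsurj⟩
  refine ⟨e₁.symm.toAlgHom.comp (Ideal.Quotient.mkₐ A _), AlgHom.ext fun x ↦ ?_⟩
  obtain ⟨α, hα⟩ := hall x
  have : e₁.symm (Ideal.Quotient.mk _ x) = α := by
    rw [AlgEquiv.symm_apply_eq, hmk x, hα, Algebra.smul_def, mul_comm, ← hmk,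
      Ideal.Quotient.mk_algebraMap]
    rfl
  have hαx := congr(σ $hα)
  simp [hσe, Algebra.smul_def] at hαx
  show Ideal.Quotient.mk I (e₁.symm (Ideal.Quotient.mk _ x)) = σ x
  rw [this, hαx]

end Groth.Agent.Hensel
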