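import Groth.Agent.Hensel.EtaleNbhd
import Groth.Agent.Hensel.Pairs
import Mathlib.Algebra.Category.Ring.Basic
import Mathlib.Algebra.Category.Ring.Colimits
import Mathlib.Algebra.Category.Ring.FilteredColimits
import Mathlib.CategoryTheory.Limits.ConcreteCategory.Basic
import Mathlib.RingTheory.Flat.EquationalCriterion

/-!
# The henselization of a ring at a point

For an `R`-algebra `K` the colimit `Hens R K` of all étale `R`-algebras `E` equipped with an
`R`-algebra map `E →ₐ[R] K` (an "étale neighbourhood of `Spec K`"), together with `Hens.π : Hens R K →ₐ[R] K`.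
For `K = A ⧸ I` this is the henselization of a pair, for `K` a residue field the henselization of a
local ring, for `K` a separable closure of it the strict henselization.
-/

set_option autoImplicit false

universe u

open CategoryTheory CategoryTheory.Limits TensorProduct

namespace Groth.Agent.Hensel

variable (R K : Type u) [CommRing R] [CommRing K] [Algebra R K]

/-- A presented étale `R`-algebra with a `K`-point. -/
structure Nbhd : Type u where
  /-- number of generators -/
  n : ℕ
  /-- the relations -/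
  rels : Ideal (MvPolynomial (Fin n) R)
  etale : Algebra.Etale R (MvPolynomial (Fin n) R ⧸ rels)
  /-- the point -/
  pt : (MvPolynomial (Fin n) R ⧸ rels) →ₐ[R] K

variable {R K}

namespace Nbhd

/-- the underlying algebra -/
def carrier (X : Nbhd R K) : Type u := MvPolynomial (Fin X.n) R ⧸ X.rels

noncomputable instance (X : Nbhd R K) : CommRing X.carrier :=
  inferInstanceAs (CommRing (MvPolynomial (Fin X.n) R ⧸ X.rels))

noncomputable instance (X : Nbhd R K) : Algebra R X.carrier :=
  inferInstanceAs (Algebra R (MvPolynomial (Fin X.n) R ⧸ X.rels))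

instance (X : Nbhd R K) : Algebra.Etale R X.carrier := X.etale

/-- the point, on `carrier` -/
noncomputable def point (X : Nbhd R K) : X.carrier →ₐ[R] K := X.pt

theorem exists_of (E : Type u) [CommRing E] [Algebra R E] [Algebra.Etale R E] (σ : E →ₐ[R] K) :
    ∃ (X : Nbhd R K) (e : X.carrier ≃ₐ[R] E), ∀ x, X.point x = σ (e x) := by
  obtain ⟨n, f, hf⟩ := Algebra.FiniteType.iff_quotient_mvPolynomial''.mp
    (inferInstance : Algebra.FiniteType R E)
  let e := Ideal.quotientKerAlgEquivOfSurjective hf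
  exact ⟨⟨n, RingHom.ker f, Algebra.Etale.of_equiv e.symm, σ.comp e.toAlgHom⟩, e, fun _ ↦ rfl⟩

/-- a presentation of `(E, σ)` -/
noncomputable def mk' (E : Type u) [CommRing E] [Algebra R E] [Algebra.Etale R E]
    (σ : E →ₐ[R] K) : Nbhd R K := (exists_of E σ).choose

/-- the algebra underlying `mk'` -/
noncomputable def equiv (E : Type u) [CommRing E] [Algebra R E] [Algebra.Etale R E]
    (σ : E →ₐ[R] K) : (mk' E σ).carrier ≃ₐ[R] E := (exists_of E σ).choose_spec.choose

theorem pt_mk' (E : Type u) [CommRing E] [Algebra R E] [Algebra.Etale R E]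
    (σ : E →ₐ[R] K) (x : (mk' E σ).carrier) : (mk' E σ).point x = σ (equiv E σ x) :=
  (exists_of E σ).choose_spec.choose_spec x

noncomputable instance : Category (Nbhd R K) where
  Hom X Y := {φ : X.carrier →ₐ[R] Y.carrier // Y.point.comp φ = X.point}
  id X := ⟨AlgHom.id R _, AlgHom.comp_id _⟩
  comp f g := ⟨g.1.comp f.1, by rw [← AlgHom.comp_assoc, g.2, f.2]⟩

theorem hom_ext {X Y : Nbhd R K} {f g : X ⟶ Y} (h : ∀ x, f.1 x = g.1 x) : f = g :=
  Subtype.ext (AlgHom.ext h)

theorem pt_hom {X Y : Nbhd R K} (f : X ⟶ Y) (x : X.carrier) : Y.point (f.1 x) = X.point x :=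
  DFunLike.congr_fun f.2 x

/-- a morphism into a presented algebra -/
noncomputable def homMk' {X : Nbhd R K} {E : Type u} [CommRing E] [Algebra R E] [Algebra.Etale R E]
    {σ : E →ₐ[R] K} (φ : X.carrier →ₐ[R] E) (h : ∀ x, σ (φ x) = X.point x) : X ⟶ mk' E σ :=
  ⟨(equiv E σ).symm.toAlgHom.comp φ, AlgHom.ext fun x ↦ by simp [pt_mk', h]⟩

theorem homMk'_apply {X : Nbhd R K} {E : Type u} [CommRing E] [Algebra R E] [Algebra.Etale R E]
    {σ : E →ₐ[R] K} (φ : X.carrier →ₐ[R] E) (h : ∀ x, σ (φ x) = X.point x) (x : X.carrier) :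
    (homMk' φ h).1 x = (equiv E σ).symm (φ x) := rfl

/-- the trivial neighbourhood -/
noncomputable def base : Nbhd R K := mk' R (Algebra.ofId R K)

/-- the trivial neighbourhood maps to every other -/
noncomputable def fromBase (X : Nbhd R K) : base ⟶ X :=
  ⟨(Algebra.ofId R X.carrier).comp (equiv R (Algebra.ofId R K)).toAlgHom, AlgHom.ext fun x ↦
    (X.point.commutes _).trans (pt_mk' R (Algebra.ofId R K) x).symm⟩

instance : IsFiltered (Nbhd R K) where
  cocone_objs X Y := by
    let σ := Algebra.TensorProduct.lift X.point Y.point fun _ _ ↦ .all _ _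
    have : Algebra.Etale R (X.carrier ⊗[R] Y.carrier) := Algebra.Etale.comp R X.carrier _
    exact ⟨mk' (X.carrier ⊗[R] Y.carrier) σ,
      homMk' Algebra.TensorProduct.includeLeft fun x ↦
        (Algebra.TensorProduct.lift_tmul _ _ _ x 1).trans (by simp),
      homMk' Algebra.TensorProduct.includeRight fun y ↦
        (Algebra.TensorProduct.lift_tmul _ _ _ 1 y).trans (by simp), trivial⟩
  cocone_maps {X Y} f g := by
    obtain ⟨v, hv, hcomp⟩ := exists_away_coequalizing f.1 g.1
    have h1 : Y.point v = 1 := hv K Y.point.toRingHom (RingHom.ext fun x ↦ by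
      simp [pt_hom f x, pt_hom g x])
    let σ : Localization.Away v →ₐ[R] K := IsLocalization.liftAlgHom (M := Submonoid.powers v)
      (f := Y.point) fun ⟨_, n, hn⟩ ↦ by subst hn; simp [h1]
    refine ⟨mk' (Localization.Away v) σ,
      homMk' (IsScalarTower.toAlgHom R Y.carrier (Localization.Away v)) fun y ↦
        IsLocalization.lift_eq _ y, hom_ext fun x ↦ ?_⟩
    exact congrArg (equiv _ σ).symm (DFunLike.congr_fun hcomp x)
  nonempty := ⟨base⟩

variable (R K) in
/-- the diagram of underlying rings -/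
noncomputable def diagram : Nbhd R K ⥤ CommRingCat.{u} where
  obj X := CommRingCat.of X.carrier
  map f := CommRingCat.ofHom f.1.toRingHom

end Nbhd

open Nbhd

variable (R K) in
/-- The henselization of `R` at `R → K`. -/
def Hens : Type u := ↥(colimit (diagram R K))

noncomputable instance : CommRing (Hens R K) :=
  inferInstanceAs (CommRing ↥(colimit (diagram R K)))

namespace Hens

/-- the map from a neighbourhood, as a ring map -/
noncomputable def of₀ (X : Nbhd R K) : X.carrier →+* Hens R K := (colimit.ι (diagram R K) X).hom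

theorem of₀_hom {X Y : Nbhd R K} (f : X ⟶ Y) (x : X.carrier) : of₀ Y (f.1 x) = of₀ X x :=
  DFunLike.congr_fun (congrArg CommRingCat.Hom.hom (colimit.w (diagram R K) f)) x

noncomputable instance : Algebra R (Hens R K) :=
  ((of₀ base).comp (algebraMap R base.carrier)).toAlgebra

/-- the map from a neighbourhood -/
noncomputable def of (X : Nbhd R K) : X.carrier →ₐ[R] Hens R K where
  __ := of₀ X
  commutes' r := by
    change of₀ X (algebraMap R _ r) = of₀ base (algebraMap R _ r)
    rw [← (fromBase X).1.commutes r, of₀_hom]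

theorem of_hom {X Y : Nbhd R K} (f : X ⟶ Y) (x : X.carrier) : of Y (f.1 x) = of X x := of₀_hom f x

theorem exists_rep (z : Hens R K) : ∃ (X : Nbhd R K) (x : X.carrier), of X x = z :=
  Concrete.colimit_exists_rep (diagram R K) z

theorem of_eq_iff {X : Nbhd R K} (x y : X.carrier) :
    of X x = of X y ↔ ∃ (Y : Nbhd R K) (f : X ⟶ Y), f.1 x = f.1 y := by
  refine ⟨fun h ↦ ?_, fun ⟨Y, f, h⟩ ↦ by rw [← of_hom f x, h, of_hom]⟩
  obtain ⟨k, f, g, hk⟩ := Concrete.colimit_exists_of_rep_eq (diagram R K) x y h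
  refine ⟨IsFiltered.coeq f g, f ≫ IsFiltered.coeqHom f g, ?_⟩
  conv_rhs => rw [IsFiltered.coeq_condition]
  exact congrArg (IsFiltered.coeqHom f g).1 hk

theorem exists_rep₂ (z w : Hens R K) :
    ∃ (X : Nbhd R K) (x y : X.carrier), of X x = z ∧ of X y = w := by
  obtain ⟨X, x, rfl⟩ := exists_rep z
  obtain ⟨Y, y, rfl⟩ := exists_rep w
  exact ⟨IsFiltered.max X Y, (IsFiltered.leftToMax X Y).1 x, (IsFiltered.rightToMax X Y).1 y,
    of_hom _ _, of_hom _ _⟩

theorem exists_rep_fintype {ι : Type*} [Finite ι] (z : ι → Hens R K) :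
    ∃ (X : Nbhd R K) (x : ι → X.carrier), ∀ i, of X (x i) = z i := by
  classical
  have := Fintype.ofFinite ι
  choose X x hx using fun i ↦ exists_rep (z i)
  obtain ⟨Y, hY⟩ := IsFiltered.sup_objs_exists (Finset.univ.image X)
  have f := fun i ↦ (hY (Finset.mem_image_of_mem X (Finset.mem_univ i))).some
  exact ⟨Y, fun i ↦ (f i).1 (x i), fun i ↦ (of_hom _ _).trans (hx i)⟩

variable {C : Type u} [CommRing C] [Algebra R C]

/-- maps out of the henselization -/
noncomputable def lift (g : ∀ X : Nbhd R K, X.carrier →ₐ[R] C)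
    (hg : ∀ (X Y : Nbhd R K) (f : X ⟶ Y) (x : X.carrier), g Y (f.1 x) = g X x) :
    Hens R K →ₐ[R] C where
  __ := (colimit.desc (diagram R K)
    { pt := CommRingCat.of C
      ι := { app := fun X ↦ CommRingCat.ofHom (g X).toRingHom
             naturality := fun X Y f ↦ CommRingCat.hom_ext (RingHom.ext fun x ↦ hg X Y f x) } }).hom
  commutes' r := by
    refine Eq.trans ?_ ((g base).commutes r)
    exact ConcreteCategory.congr_hom (colimit.ι_desc (F := diagram R K) _ base) _

theorem lift_of (g : ∀ X : Nbhd R K, X.carrier →ₐ[R] C)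
    (hg : ∀ (X Y : Nbhd R K) (f : X ⟶ Y) (x : X.carrier), g Y (f.1 x) = g X x)
    (X : Nbhd R K) (x : X.carrier) : lift g hg (of X x) = g X x :=
  ConcreteCategory.congr_hom (colimit.ι_desc (F := diagram R K) _ X) x

variable (R K) in
/-- the point of the henselization -/
noncomputable def π : Hens R K →ₐ[R] K := lift (fun X ↦ X.point) fun _ _ f x ↦ pt_hom f x

theorem π_of (X : Nbhd R K) (x : X.carrier) : π R K (of X x) = X.point x := lift_of _ _ X x

/-- every étale neighbourhood maps to the henselization compatibly -/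
theorem exists_algHom (E : Type u) [CommRing E] [Algebra R E] [Algebra.Etale R E] (σ : E →ₐ[R] K) :
    ∃ φ : E →ₐ[R] Hens R K, (π R K).comp φ = σ :=
  ⟨(of (mk' E σ)).comp (equiv E σ).symm.toAlgHom, AlgHom.ext fun x ↦ by simp [π_of, pt_mk']⟩

theorem exists_rep_algHom (z : Hens R K) : ∃ (E : Type u) (_ : CommRing E) (_ : Algebra R E)
    (_ : Algebra.Etale R E) (φ : E →ₐ[R] Hens R K) (e : E), φ e = z := by
  obtain ⟨X, x, rfl⟩ := exists_rep z
  exact ⟨X.carrier, inferInstance, inferInstance, inferInstance, of X, x, rfl⟩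

/-- `π` reflects units. -/
theorem isUnit_of_isUnit_π {z : Hens R K} (h : IsUnit (π R K z)) : IsUnit z := by
  obtain ⟨X, x, rfl⟩ := exists_rep z
  rw [π_of] at h
  let σ : Localization.Away x →ₐ[R] K := IsLocalization.liftAlgHom (M := Submonoid.powers x)
    (f := X.point) fun ⟨_, n, hn⟩ ↦ by subst hn; rw [map_pow]; exact h.pow n
  let f : X ⟶ mk' (Localization.Away x) σ :=
    homMk' (IsScalarTower.toAlgHom R X.carrier (Localization.Away x)) fun y ↦
      IsLocalization.lift_eq _ y
  rw [← of_hom f x]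
  exact ((IsLocalization.Away.algebraMap_isUnit (S := Localization.Away x) x).map
    (equiv _ σ).symm).map (of _)

theorem ker_π_le_jacobson : RingHom.ker (π R K).toRingHom ≤ Ideal.jacobson ⊥ := fun z hz ↦
  Ideal.mem_jacobson_bot.mpr fun y ↦ isUnit_of_isUnit_π (by
    rw [RingHom.mem_ker] at hz
    simp [show π R K z = 0 from hz])

theorem isLocalRing [IsLocalRing K] : IsLocalRing (Hens R K) :=
  have : Nontrivial (Hens R K) := (π R K).toRingHom.domain_nontrivial
  IsLocalRing.of_isUnit_or_isUnit_one_sub_self fun a ↦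
    (IsLocalRing.isUnit_or_isUnit_one_sub_self (π R K a)).imp isUnit_of_isUnit_π
      fun h ↦ isUnit_of_isUnit_π (by simpa using h)

variable (R K) in
theorem henselianRing : HenselianRing (Hens R K) (RingHom.ker (π R K).toRingHom) := by
  refine ⟨ker_π_le_jacobson, fun f hf a₀ hfa hd ↦ ?_⟩
  set I := RingHom.ker (π R K).toRingHom
  obtain ⟨X, c, hc⟩ := exists_rep_fintype (fun i : Fin (f.natDegree + 1) ↦
    if (i : ℕ) = f.natDegree then a₀ else f.coeff i)
  let n := f.natDegree
  let F : Polynomial X.carrier :=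
    Polynomial.X ^ n + ∑ i : Fin n, Polynomial.C (c i.castSucc) * Polynomial.X ^ (i : ℕ)
  have hFm : F.Monic := Polynomial.monic_X_pow_add (Polynomial.degree_sum_fin_lt _)
  have hFmap : F.map (of X).toRingHom = f := by
    conv_rhs => rw [Polynomial.Monic.as_sum hf]
    simp only [F, Polynomial.map_add, Polynomial.map_pow, Polynomial.map_X, Polynomial.map_sum,
      Polynomial.map_mul, Polynomial.map_C, n]
    rw [Finset.sum_range fun i ↦ Polynomial.C (f.coeff i) * Polynomial.X ^ i]
    congr 1
    refine Finset.sum_congr rfl fun i _ ↦ ?_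
    congr 2
    exact (hc i.castSucc).trans (if_neg i.isLt.ne)
  -- the point
  let := X.point.toRingHom.toAlgebra
  have : IsScalarTower R X.carrier K := .of_algebraMap_eq fun r ↦ (X.point.commutes r).symm
  have halg : algebraMap X.carrier K = ((π R K).toRingHom.comp (of X).toRingHom) :=
    RingHom.ext fun x ↦ (π_of X x).symm
  have haev : ∀ G : Polynomial X.carrier, Polynomial.aeval (π R K a₀) G =
      π R K ((G.map (of X).toRingHom).eval a₀) := fun G ↦ by
    rw [Polynomial.aeval_def, halg, ← Polynomial.eval_map, ← Polynomial.map_map]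
    exact Polynomial.eval_map_apply (f := (π R K).toRingHom) a₀
  let P : StandardEtalePair X.carrier := ⟨F, hFm, Polynomial.derivative F, ⟨1, 0, 1, by simp⟩⟩
  have hP : P.HasMap (π R K a₀) := by
    refine ⟨?_, ?_⟩
    · rw [haev, hFmap]; exact hfa
    · rw [haev, ← Polynomial.derivative_map, hFmap]
      simpa using hd.map (Ideal.Quotient.lift I (π R K).toRingHom fun _ h ↦ h)
  let : Algebra R P.Ring := ((algebraMap X.carrier P.Ring).comp (algebraMap R X.carrier)).toAlgebra
  have : IsScalarTower R X.carrier P.Ring := .of_algebraMap_eq' rfl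
  have : Algebra.Etale R P.Ring := Algebra.Etale.comp R X.carrier P.Ring
  let σ : P.Ring →ₐ[R] K := (P.lift _ hP).restrictScalars R
  let g : X ⟶ mk' P.Ring σ := homMk' (IsScalarTower.toAlgHom R X.carrier P.Ring) fun x ↦
    (P.lift _ hP).commutes x
  let ψ : P.Ring →ₐ[R] Hens R K := (of (mk' P.Ring σ)).comp (equiv P.Ring σ).symm.toAlgHom
  have hψ : ∀ x, ψ (algebraMap X.carrier P.Ring x) = of X x := fun x ↦ (of_hom g x)
  refine ⟨ψ P.X, ?_, ?_⟩
  · rw [Polynomial.IsRoot, ← hFmap, Polynomial.eval_map,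
      show (of X).toRingHom = ψ.toRingHom.comp (algebraMap X.carrier P.Ring) from
        RingHom.ext fun x ↦ (hψ x).symm]
    refine (Polynomial.hom_eval₂ F (algebraMap X.carrier P.Ring) ψ.toRingHom P.X).symm.trans ?_
    rw [← Polynomial.aeval_def, show Polynomial.aeval P.X F = 0 from P.hasMap_X.1, map_zero]
  · rw [RingHom.mem_ker, map_sub, sub_eq_zero]
    change π R K (ψ P.X) = π R K a₀
    simp [ψ, π_of, pt_mk', σ]

/-- The universal property of the henselization. -/
theorem existsUnique_lift {J : Ideal C} [HenselianRing C J] (ρ : K →ₐ[R] C ⧸ J) :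
    ∃! g : Hens R K →ₐ[R] C, (Ideal.Quotient.mkₐ R J).comp g = ρ.comp (π R K) := by
  have hroot := gabberRoot_of_henselianRing (A := C) (I := J)
  have h := fun X : Nbhd R K ↦ exists_algHom_lift_etale J hroot X.carrier (ρ.comp X.point)
  choose g hg hu using h
  refine ⟨lift g fun X Y f x ↦ DFunLike.congr_fun (hu X ((g Y).comp f.1) ?_) x,
    AlgHom.ext fun z ↦ ?_, fun g' hg' ↦ AlgHom.ext fun z ↦ ?_⟩
  · ext y
    change Ideal.Quotient.mkₐ R J (g Y (f.1 y)) = ρ (X.point y)
    rw [← pt_hom f y]
    exact DFunLike.congr_fun (hg Y) (f.1 y)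
  · obtain ⟨X, x, rfl⟩ := exists_rep z
    simp only [AlgHom.comp_apply, π_of]
    exact (congrArg (Ideal.Quotient.mkₐ R J) (lift_of g _ X x)).trans (DFunLike.congr_fun (hg X) x)
  · obtain ⟨X, x, rfl⟩ := exists_rep z
    refine Eq.trans ?_ (lift_of g _ X x).symm
    exact DFunLike.congr_fun (hu X (g'.comp (of X)) (AlgHom.ext fun y ↦ by
      simpa [π_of] using DFunLike.congr_fun hg' (of X y))) x

theorem algHom_ext_π {f g : Hens R K →ₐ[R] Hens R K}
    (hf : (π R K).comp f = π R K) (hg : (π R K).comp g = π R K) : f = g := by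
  refine AlgHom.ext fun z ↦ ?_
  obtain ⟨X, x, rfl⟩ := exists_rep z
  refine DFunLike.congr_fun (algHom_ext_of_unramified ker_π_le_jacobson
    (f := f.comp (of X)) (g := g.comp (of X)) fun y ↦ ?_) x
  have h1 := DFunLike.congr_fun hf (of X y)
  have h2 := DFunLike.congr_fun hg (of X y)
  simp only [AlgHom.comp_apply] at h1 h2
  simp [RingHom.mem_ker, h1, h2]

/-- The henselization is flat. -/
instance flat : Module.Flat R (Hens R K) := by
  refine Module.Flat.of_forall_isTrivialRelation fun {l f z} h ↦ ?_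
  obtain ⟨X, x, hx⟩ := exists_rep_fintype z
  have h0 : of X (∑ i, f i • x i) = of X 0 := by simp [hx, h]
  obtain ⟨Y, g, hg⟩ := (of_eq_iff _ _).mp h0
  have hrel : ∑ i, f i • g.1 (x i) = 0 := by simpa using hg
  obtain ⟨k, a, y, hy, ha⟩ := Module.Flat.isTrivialRelation_of_sum_smul_eq_zero hrel
  exact ⟨k, a, fun j ↦ of Y (y j), fun i ↦ by
    rw [← hx i, ← of_hom g, show g.1 (x i) = _ from hy i, map_sum]; simp, ha⟩

end Hens

end Groth.Agent.Hensel
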