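import Mathlib

/-!
Henselianity of the local ring at a prime of the integral closure which is stabilized by the Galois group.
-/

set_option autoImplicit false
universe u

namespace Groth.Agent.Hensel.DecompField

open Polynomial

/-- An element of the fixing subgroup of the fixed field of a subgroup agrees at each point with an
element of the subgroup. -/
theorem exists_mem_apply_eq {K E : Type u} [Field K] [Field E] [Algebra K E] [IsGalois K E]
    (H : Subgroup (E ≃ₐ[K] E)) (σ : E ≃ₐ[K] E)
    (hσ : σ ∈ (IntermediateField.fixedField H).fixingSubgroup) (x : E) : ∃ τ ∈ H, τ x = σ x := by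
  let Hc : ClosedSubgroup (E ≃ₐ[K] E) := ⟨H.topologicalClosure, H.isClosed_topologicalClosure⟩
  have h : IntermediateField.fixedField Hc.toSubgroup = IntermediateField.fixedField H := by
    refine le_antisymm (fun y hy τ => hy ⟨τ.1, H.le_topologicalClosure τ.2⟩) ?_
    refine (IntermediateField.le_iff_le Hc.toSubgroup _).2 ?_
    exact Subgroup.topologicalClosure_minimal H ((IntermediateField.le_iff_le H _).1 le_rfl)
      (InfiniteGalois.fixingSubgroup_isClosed _)
  rw [← h, InfiniteGalois.fixingSubgroup_fixedField Hc] at hσ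
  haveI : FiniteDimensional K (IntermediateField.adjoin K ({x} : Set E)) :=
    IntermediateField.adjoin.finiteDimensional (Algebra.IsIntegral.isIntegral x)
  obtain ⟨τ, hτU, hτH⟩ := mem_closure_iff.1 (show σ ∈ closure (H : Set (E ≃ₐ[K] E)) from hσ)
    ((fun τ => σ⁻¹ * τ) ⁻¹' ((IntermediateField.adjoin K ({x} : Set E)).fixingSubgroup : Set (E ≃ₐ[K] E)))
    ((IntermediateField.fixingSubgroup_isOpen _).preimage (continuous_const_mul _))
    (by simp [inv_mul_cancel])
  refine ⟨τ, hτH, ?_⟩
  have h2 : (σ⁻¹ * τ) x = x :=
    (IntermediateField.mem_fixingSubgroup_iff _ _).1 hτU x (IntermediateField.subset_adjoin K _ rfl)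
  have h3 := congrArg σ h2
  rwa [AlgEquiv.mul_apply, AlgEquiv.aut_inv, AlgEquiv.apply_symm_apply] at h3

variable {R : Type u} [CommRing R]

theorem isIntegral_apply {K E : Type u} [Field K] [Field E] [Algebra K E] [Algebra R K] [Algebra R E]
    [IsScalarTower R K E] (σ : E ≃ₐ[K] E) (x : integralClosure R E) : σ (x : E) ∈ integralClosure R E :=
  IsIntegral.map (σ.toAlgHom.restrictScalars R) x.2

/-- `σ` stabilizes the prime. -/
def Stab {K E : Type u} [Field K] [Field E] [Algebra K E] [Algebra R K] [Algebra R E] [IsScalarTower R K E]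
    (P : Ideal (integralClosure R E)) (σ : E ≃ₐ[K] E) : Prop :=
  ∀ x : integralClosure R E, (⟨σ x, isIntegral_apply σ x⟩ : integralClosure R E) ∈ P ↔ x ∈ P

variable {K E : Type u} [Field K] [Field E] [Algebra K E] [Algebra R K] [Algebra R E] [IsScalarTower R K E]

theorem stab_closure {P : Ideal (integralClosure R E)} {S : Set (E ≃ₐ[K] E)} (hS : ∀ σ ∈ S, Stab P σ)
    {σ : E ≃ₐ[K] E} (hσ : σ ∈ Subgroup.closure S) : Stab P σ := by
  induction hσ using Subgroup.closure_induction with
  | mem σ h => exact hS σ h
  | one => exact fun x => Iff.rfl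
  | mul σ τ _ _ hσ hτ => exact fun x => (hσ ⟨τ x, isIntegral_apply τ x⟩).trans (hτ x)
  | inv σ _ hσ =>
    intro x
    refine (hσ ⟨σ⁻¹ (x : E), isIntegral_apply _ x⟩).symm.trans (iff_of_eq (congrArg (· ∈ P) (Subtype.ext ?_)))
    change σ (σ⁻¹ (x : E)) = x
    rw [AlgEquiv.aut_inv, AlgEquiv.apply_symm_apply]

variable (L : IntermediateField K E)

theorem stab_of_fixedField [IsGalois K E] {P : Ideal (integralClosure R E)} {H : Subgroup (E ≃ₐ[K] E)}
    (hH : ∀ σ ∈ H, Stab P σ) {σ : E ≃ₐ[K] E} (hσ : σ ∈ (IntermediateField.fixedField H).fixingSubgroup) :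
    Stab P σ := fun x => by
  obtain ⟨τ, hτ, hx⟩ := exists_mem_apply_eq H σ hσ x
  rw [← hH τ hτ x]
  exact iff_of_eq (congrArg (· ∈ P) (Subtype.ext hx.symm))

variable {L}

section Main

variable {L' : Type u} [Field L'] [Algebra R L'] [Algebra L' E] [IsScalarTower R L' E]

/-- The inclusion of the integral closures. -/
noncomputable def incl (R L' E : Type u) [CommRing R] [Field L'] [Field E] [Algebra R L'] [Algebra R E]
    [Algebra L' E] [IsScalarTower R L' E] : integralClosure R L' →+* integralClosure R E :=
  ((IsScalarTower.toAlgHom R L' E).mapIntegralClosure).toRingHom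

theorem coe_incl (y : integralClosure R L') : ((incl R L' E y : integralClosure R E) : E) = algebraMap L' E y := rfl

/-- Hensel lifting of simple roots in the integral closure. -/
theorem exists_root [IsGalois L' E] [IsSepClosed E] (P : Ideal (integralClosure R E)) [hP : P.IsPrime]
    (hstab : ∀ σ : E ≃ₐ[L'] E, ∀ x : integralClosure R E, x ∈ P →
      (⟨σ x, isIntegral_apply σ x⟩ : integralClosure R E) ∈ P)
    (G : (integralClosure R L')[X]) (hG : G.Monic) (y : integralClosure R L')
    (h0 : incl R L' E (G.eval y) ∈ P) (h1 : incl R L' E (G.derivative.eval y) ∉ P) :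
    ∃ x : integralClosure R L', G.eval x = 0 ∧ incl R L' E (x - y) ∈ P := by
  classical
  let B := integralClosure R E
  let ι := incl R L' E
  let α : integralClosure R L' →+* L' := algebraMap (integralClosure R L') L'
  have hα : Function.Injective α := Subtype.val_injective
  let Q : Ideal (integralClosure R L') := P.comap ι
  -- irreducible monic factorization
  suffices H : ∀ n (G : (integralClosure R L')[X]), G.natDegree = n → G.Monic → G.eval y ∈ Q →
      G.derivative.eval y ∉ Q → ∃ x, G.eval x = 0 ∧ x - y ∈ Q from H _ G rfl hG h0 h1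
  intro n
  induction n using Nat.strong_induction_on with
  | _ n ih =>
    intro G hn hG h0 h1
    have hn0 : n ≠ 0 := by
      intro h
      rw [hG.natDegree_eq_zero.1 (hn.trans h)] at h0
      exact (inferInstance : Q.IsPrime).ne_top (Q.eq_top_iff_one.2 (by simpa using h0))
    by_cases hirr : Irreducible (G.map α)
    · have hsep : (G.map α).Separable := by
        rw [separable_iff_derivative_ne_zero hirr, derivative_map]
        intro h
        rw [(Polynomial.map_eq_zero_iff hα).1 h, eval_zero] at h1
        exact h1 Q.zero_mem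
      have hspl : ((G.map α).map (algebraMap L' E)).Splits :=
        IsSepClosed.splits_of_separable _ (hsep.map)
      have hmonic : ((G.map α).map (algebraMap L' E)).Monic := (hG.map _).map _
      let roots := ((G.map α).map (algebraMap L' E)).roots
      have hroot : ∀ r ∈ roots, aeval r (G.map α) = 0 := fun r hr => by
        have := (Polynomial.mem_roots'.1 hr).2
        rwa [IsRoot.def, eval_map, ← aeval_def] at this
      have hint : ∀ r ∈ roots, r ∈ B := fun r hr => by
        haveI : IsScalarTower R (integralClosure R L') E := IsScalarTower.of_algebraMap_eq fun _ => by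
          rw [IsScalarTower.algebraMap_apply R L' E]; rfl
        refine isIntegral_trans (R := R) (A := integralClosure R L') r ⟨G, hG, ?_⟩
        have := hroot r hr
        rwa [aeval_def, eval₂_map, ← IsScalarTower.algebraMap_eq (integralClosure R L') L' E] at this
      let rootsB : Multiset B := roots.attach.map fun r => ⟨r.1, hint r.1 r.2⟩
      have hprod : G.map ι = (rootsB.map fun b => X - C b).prod := by
        refine Polynomial.map_injective (B.val.toRingHom) Subtype.val_injective ?_
        rw [Polynomial.map_multiset_prod, Polynomial.map_map]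
        rw [show B.val.toRingHom.comp ι = (algebraMap L' E).comp α from RingHom.ext fun _ => rfl, ← Polynomial.map_map,
          hspl.eq_prod_roots_of_monic hmonic]
        congr 1
        simp only [rootsB, Multiset.map_map, Function.comp_apply, Polynomial.map_sub, map_X, map_C]
        conv_lhs => rw [← Multiset.attach_map_val ((G.map α).map (algebraMap L' E)).roots, Multiset.map_map]
        rfl
      let k := Ideal.Quotient.mk P
      obtain ⟨r₀, hr₀, hyr⟩ : ∃ r₀ ∈ rootsB, ι y - r₀ ∈ P := by
        have h : (G.map ι).eval (ι y) ∈ P := by rw [eval_map, eval₂_at_apply]; exact h0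
        rw [hprod, eval_multiset_prod, Multiset.map_map] at h
        obtain ⟨q, hq, hrP⟩ := (hP.multiset_prod_mem_iff_exists_mem _).1 h
        obtain ⟨r, hr, rfl⟩ := Multiset.mem_map.1 hq
        exact ⟨r, hr, by simpa using hrP⟩
      have hall : ∀ r ∈ rootsB, k r = k (ι y) := by
        intro r hr
        obtain ⟨⟨a, ha⟩, -, rfl⟩ := Multiset.mem_map.1 hr
        obtain ⟨⟨b, hb⟩, -, rfl⟩ := Multiset.mem_map.1 hr₀
        obtain ⟨σ, hσ⟩ : ∃ σ : E ≃ₐ[L'] E, σ b = a := by
          refine minpoly.exists_algEquiv_of_root' (Algebra.IsAlgebraic.isAlgebraic b) ?_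
          rw [← minpoly.eq_of_irreducible_of_monic hirr (hroot b hb) (hG.map α)]
          exact hroot a ha
        have := hstab σ _ hyr
        rw [eq_comm, Ideal.Quotient.eq]
        refine Eq.mp (congrArg (· ∈ P) (Subtype.ext ?_)) this
        change σ (algebraMap L' E y - b) = algebraMap L' E y - a
        rw [map_sub, σ.commutes, hσ]
      have hmap : G.map (k.comp ι) = (X - C (k (ι y))) ^ Multiset.card rootsB := by
        rw [← Polynomial.map_map, hprod, Polynomial.map_multiset_prod, Multiset.map_map]
        rw [Multiset.map_congr rfl (g := fun _ => X - C (k (ι y))) fun r hr => by simp [hall r hr],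
          Multiset.map_const', Multiset.prod_replicate]
      have hcard : Multiset.card rootsB = n := by
        simp only [rootsB, Multiset.card_map, Multiset.card_attach, roots]
        rw [← hspl.natDegree_eq_card_roots, natDegree_map, natDegree_map_eq_of_injective hα, hn]
      have hd : (G.map (k.comp ι)).derivative.eval (k (ι y)) ≠ 0 := by
        rw [derivative_map, eval_map, ← RingHom.comp_apply k ι, eval₂_at_apply]
        rw [RingHom.comp_apply, Ne, Ideal.Quotient.eq_zero_iff_mem]
        exact h1
      have hn1 : n = 1 := by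
        by_contra hne
        apply hd
        rw [hmap, hcard, derivative_pow, eval_mul, eval_mul, eval_pow]
        simp [show n - 1 ≠ 0 by omega]
      refine ⟨-G.coeff 0, ?_, ?_⟩
      · rw [hG.eq_X_add_C (hn.trans hn1)]; simp
      · have : G.eval y = y + G.coeff 0 := by
          conv_lhs => rw [hG.eq_X_add_C (hn.trans hn1)]
          simp
        rw [this] at h0
        have := Q.neg_mem h0
        convert this using 1; ring
    · obtain ⟨g₁, g₂, hg₁, hg₂, hg, hlt⟩ : ∃ g₁ g₂ : L'[X], g₁.Monic ∧ g₂.Monic ∧ g₁ * g₂ = G.map α ∧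
          (0 < g₁.natDegree ∧ 0 < g₂.natDegree) := by
        by_contra h
        refine hirr ((Monic.irreducible_iff_natDegree (hG.map α)).2 ⟨fun h1' => ?_, fun f g hf hg hfg => ?_⟩)
        · exact hn0 (by rw [← hn, ← natDegree_map_eq_of_injective hα, h1', natDegree_one])
        · by_contra hc
          push Not at hc
          exact h ⟨f, g, hf, hg, hfg, Nat.pos_of_ne_zero hc.1, Nat.pos_of_ne_zero hc.2⟩
      have hlift : ∀ g : L'[X], g.Monic → g ∣ G.map α →
          ∃ g' : (integralClosure R L')[X], g'.map α = g ∧ g'.Monic ∧ g'.natDegree = g.natDegree := by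
        intro g hgm hdvd
        have h : g ∈ lifts α := by
          rw [lifts_iff_coeff_lifts]
          intro i
          obtain ⟨c, hc⟩ := (lifts_iff_coeff_lifts g).1
            (integralClosure.mem_lifts_of_monic_of_dvd_map L' hG hgm hdvd) i
          exact ⟨⟨(c : L'), isIntegral_trans (R := R) (A := integralClosure R L') _ c.2⟩, hc⟩
        obtain ⟨g', hg', hdeg, hm⟩ := lifts_and_degree_eq_and_monic h hgm
        exact ⟨g', hg', hm, natDegree_eq_of_degree_eq hdeg⟩
      obtain ⟨G₁, hG₁, hG₁m, hG₁d⟩ := hlift g₁ hg₁ ⟨g₂, hg.symm⟩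
      obtain ⟨G₂, hG₂, hG₂m, hG₂d⟩ := hlift g₂ hg₂ ⟨g₁, by rw [← hg, mul_comm]⟩
      have hGe : G = G₁ * G₂ := Polynomial.map_injective α hα (by rw [Polynomial.map_mul, hG₁, hG₂, hg])
      have hsum : n = G₁.natDegree + G₂.natDegree := by rw [← hn, hGe, hG₁m.natDegree_mul hG₂m]
      subst hGe
      rw [derivative_mul, eval_add, eval_mul, eval_mul] at h1
      rw [eval_mul] at h0
      rcases (inferInstance : Q.IsPrime).mem_or_mem h0 with h | h
      · obtain ⟨x, hx, hxy⟩ := ih G₁.natDegree (by omega) G₁ rfl hG₁m h fun h' =>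
          h1 (Q.add_mem (Q.mul_mem_right _ h') (Q.mul_mem_right _ h))
        exact ⟨x, by rw [eval_mul, hx, zero_mul], hxy⟩
      · obtain ⟨x, hx, hxy⟩ := ih G₂.natDegree (by omega) G₂ rfl hG₂m h fun h' =>
          h1 (Q.add_mem (Q.mul_mem_left _ h) (Q.mul_mem_left _ h'))
        exact ⟨x, by rw [eval_mul, hx, mul_zero], hxy⟩

theorem henselianLocalRing_localization [IsGalois L' E] [IsSepClosed E] (P : Ideal (integralClosure R E)) [P.IsPrime]
    (hstab : ∀ σ : E ≃ₐ[L'] E, ∀ x : integralClosure R E, x ∈ P →
      (⟨σ x, isIntegral_apply σ x⟩ : integralClosure R E) ∈ P)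
    (Q : Ideal (integralClosure R L')) [Q.IsPrime] (hQ : Q = P.comap (incl R L' E)) :
    HenselianLocalRing (Localization.AtPrime Q) where
  is_henselian := by
    intro f hf a₀ h0 h1
    let W := Localization.AtPrime Q
    let am := algebraMap (integralClosure R L') W
    classical
    obtain ⟨s, hs⟩ := IsLocalization.exist_integer_multiples_of_finset Q.primeCompl
      (insert a₀ ((Finset.range (f.natDegree + 1)).image f.coeff) : Finset W)
    obtain ⟨b, hb⟩ := hs a₀ (Finset.mem_insert_self _ _)
    rw [Algebra.smul_def] at hb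
    have hu : IsUnit (am s) := IsLocalization.map_units W s
    have hlift : f.scaleRoots (am s) ∈ lifts am := by
      rw [lifts_iff_coeff_lifts]
      intro i
      rw [coeff_scaleRoots]
      by_cases hi : i < f.natDegree
      · obtain ⟨c, hc⟩ := hs (f.coeff i) (Finset.mem_insert_of_mem (Finset.mem_image.2 ⟨i, by simp; omega, rfl⟩))
        rw [Algebra.smul_def] at hc
        refine ⟨c * (s : integralClosure R L') ^ (f.natDegree - i - 1), ?_⟩
        rw [map_mul, map_pow]
        change am c * _ = _
        rw [show am c = am s * f.coeff i from hc, show f.natDegree - i = (f.natDegree - i - 1) + 1 by omega,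
          pow_succ, Nat.add_sub_cancel]
        ring
      · rcases eq_or_ne i f.natDegree with rfl | hne
        · exact ⟨1, by simp [hf.coeff_natDegree]⟩
        · exact ⟨0, by rw [map_zero, coeff_eq_zero_of_natDegree_lt (by omega), zero_mul]⟩
    obtain ⟨G, hG, -, hGm⟩ := lifts_and_degree_eq_and_monic hlift ((monic_scaleRoots_iff _).2 hf)
    have hmem : ∀ z, am z ∈ IsLocalRing.maximalIdeal W ↔ z ∈ Q := fun z =>
      IsLocalization.AtPrime.to_map_mem_maximal_iff W Q z
    have e0 : am (G.eval b) = am s ^ f.natDegree * f.eval a₀ := by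
      rw [← eval₂_at_apply, ← eval_map, hG, show am b = am s * a₀ from hb, scaleRoots_eval_mul]
    have e1 : am (G.derivative.eval b) * am s = am s ^ f.natDegree * f.derivative.eval a₀ := by
      rw [← eval₂_at_apply, ← eval_map, ← derivative_map, hG, show am b = am s * a₀ from hb]
      rw [eval_eq_sum_range' (n := f.natDegree + 1) (by
        have := natDegree_derivative_le (f.scaleRoots (am s)); rw [natDegree_scaleRoots] at this; omega),
        eval_eq_sum_range' (p := f.derivative) (n := f.natDegree + 1) (by
        have := natDegree_derivative_le f; omega), Finset.sum_mul, Finset.mul_sum]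
      refine Finset.sum_congr rfl fun i hi => ?_
      rw [coeff_derivative, coeff_derivative, coeff_scaleRoots, mul_pow]
      by_cases hi' : i + 1 ≤ f.natDegree
      · have : am s ^ (f.natDegree - (i + 1)) * am s ^ i * am s = am s ^ f.natDegree := by
          rw [mul_assoc, ← pow_succ, ← pow_add, Nat.sub_add_cancel hi']
        rw [← this]; ring
      · rw [coeff_eq_zero_of_natDegree_lt (show f.natDegree < i + 1 by omega)]; ring
    have hsQ : (s : integralClosure R L') ∉ Q := s.2
    have g0 : incl R L' E (G.eval b) ∈ P := by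
      rw [← Ideal.mem_comap, ← hQ, ← hmem, e0]
      exact Ideal.mul_mem_left _ _ h0
    have g1 : incl R L' E (G.derivative.eval b) ∉ P := by
      rw [← Ideal.mem_comap, ← hQ, ← hmem]
      intro h
      have h2 := Ideal.mul_mem_right (am s) _ h
      rw [e1] at h2
      exact (IsLocalRing.mem_maximalIdeal _).1 h2 ((hu.pow _).mul h1)
    obtain ⟨x, hx, hxb⟩ := exists_root P hstab G hGm b g0 g1
    rw [← Ideal.mem_comap, ← hQ, ← hmem, map_sub] at hxb
    obtain ⟨u, hu'⟩ := hu
    refine ⟨↑u⁻¹ * am x, ?_, ?_⟩
    · have h := congrArg am hx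
      rw [← eval₂_at_apply, ← eval_map, hG, map_zero] at h
      rw [show am x = am s * (↑u⁻¹ * am x) by rw [← hu', ← mul_assoc, Units.mul_inv, one_mul], scaleRoots_eval_mul] at h
      exact (((IsLocalization.map_units W s).pow _).mul_right_eq_zero).1 h
    · rw [show ↑u⁻¹ * am x - a₀ = ↑u⁻¹ * (am x - am b) by
        rw [show am b = am s * a₀ from hb, mul_sub, ← hu', ← mul_assoc (↑u⁻¹ : W) (↑u : W), Units.inv_mul, one_mul]]
      exact Ideal.mul_mem_left _ _ hxb

end Main

end Groth.Agent.Hensel.DecompField

namespace Groth.Agent.Hensel.DecompField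

/-- The localization of the integral closure in the fixed field of a group stabilizing a prime is henselian. -/
theorem henselianLocalRing_fixedField {R K E : Type u} [CommRing R] [Field K] [Field E] [Algebra K E]
    [IsGalois K E] [IsSepClosed E] [Algebra R K] [Algebra R E] [IsScalarTower R K E]
    (P : Ideal (integralClosure R E)) [P.IsPrime] (S : Set (E ≃ₐ[K] E)) (hS : ∀ σ ∈ S, Stab P σ)
    (L : IntermediateField K E) (hL : L = IntermediateField.fixedField (Subgroup.closure S))
    (Q : Ideal (integralClosure R L)) [Q.IsPrime]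
    (hQ : ∀ y : integralClosure R L, y ∈ Q ↔
      ∃ x : integralClosure R E, x ∈ P ∧ (x : E) = ((y : L) : E)) :
    HenselianLocalRing (Localization.AtPrime Q) := by
  haveI : IsScalarTower R L E := IsScalarTower.of_algebraMap_eq fun r => rfl
  refine henselianLocalRing_localization (L' := L) (E := E) P (fun σ x hx => ?_) Q (Ideal.ext fun y => ?_)
  · refine (stab_of_fixedField (H := Subgroup.closure S) (fun τ hτ => stab_closure hS hτ)
      (σ := σ.restrictScalars K) ?_ x).2 hx
    rw [← hL, IntermediateField.mem_fixingSubgroup_iff]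
    exact fun z hz => σ.commutes ⟨z, hz⟩
  · rw [hQ, Ideal.mem_comap]
    refine ⟨fun ⟨x, hx, he⟩ => ?_, fun h => ⟨_, h, coe_incl y⟩⟩
    exact (Subtype.ext he : x = incl R L E y) ▸ hx

end Groth.Agent.Hensel.DecompField
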