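import Groth.Agent.Hensel.EtaleLift

/-!
# Elementary étale neighbourhoods form filtered systems
-/

set_option autoImplicit false

universe u

open TensorProduct

namespace Groth.Agent.Hensel

variable {R : Type u} [CommRing R]

/-- Localize so that two maps out of an unramified algebra become equal. -/
theorem exists_away_coequalizing {S₁ S₂ : Type u} [CommRing S₁] [Algebra R S₁]
    [Algebra.FormallyUnramified R S₁] [Algebra.EssFiniteType R S₁] [CommRing S₂] [Algebra R S₂]
    (φ ψ : S₁ →ₐ[R] S₂) :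
    ∃ u : S₂, (∀ (T : Type u) [CommRing T] (θ : S₂ →+* T), θ.comp φ.toRingHom = θ.comp ψ.toRingHom →
        θ u = 1) ∧
      (IsScalarTower.toAlgHom R S₂ (Localization.Away u)).comp φ =
        (IsScalarTower.toAlgHom R S₂ (Localization.Away u)).comp ψ := by
  set L := Algebra.TensorProduct.lift φ ψ fun _ _ ↦ .all _ _
  set t := Algebra.FormallyUnramified.elem R S₁
  refine ⟨L t, fun T _ θ hθ ↦ ?_, AlgHom.ext fun s ↦ ?_⟩
  · have key : ∀ x : S₁ ⊗[R] S₁, θ (L x) = θ (φ (Algebra.TensorProduct.lmul' R x)) := by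
      intro x
      induction x using TensorProduct.induction_on with
      | zero => simp
      | tmul a b =>
        have h2 : θ (φ b) = θ (ψ b) := DFunLike.congr_fun hθ b
        simp [L, h2]
      | add a b ha hb => simp [ha, hb]
    rw [key, Algebra.FormallyUnramified.lmul_elem, map_one, map_one]
  · have h0 := congr(L $(Algebra.FormallyUnramified.one_tmul_sub_tmul_one_mul_elem (R := R) s))
    rw [map_mul, map_zero] at h0
    have h1 := congr(algebraMap S₂ (Localization.Away (L t)) $h0)
    rw [map_mul, map_zero] at h1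
    have h2 := (IsLocalization.Away.algebraMap_isUnit (S := Localization.Away (L t)) (L t)).mul_left_eq_zero.mp h1
    simp [L, sub_eq_zero] at h2
    exact h2.symm

/-- Residue-trivial point of an étale algebra as a map to the residue field. -/
theorem exists_algHom_of_bijective_map {p : Ideal R} [p.IsPrime] {S : Type u} [CommRing S]
    [Algebra R S] (q : Ideal S) [q.IsPrime] (hq : p = q.comap (algebraMap R S))
    (hbij : Function.Bijective (Ideal.ResidueField.map p q (algebraMap R S) hq)) :
    ∃ σ : S →ₐ[R] p.ResidueField, RingHom.ker σ.toRingHom = q ∧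
      ∀ x, Ideal.ResidueField.map p q (algebraMap R S) hq (σ x) =
        algebraMap S q.ResidueField x := by
  let e := RingEquiv.ofBijective _ hbij
  refine ⟨{ toRingHom := e.symm.toRingHom.comp (algebraMap S q.ResidueField), commutes' := fun r ↦ ?_ },
    ?_, fun x ↦ ?_⟩
  · apply e.injective
    simp only [RingHom.coe_comp, Function.comp_apply, RingHom.toMonoidHom_eq_coe,
      OneHom.toFun_eq_coe, MonoidHom.toOneHom_coe, MonoidHom.coe_coe]
    change e (e.symm (algebraMap S q.ResidueField (algebraMap R S r))) = e (algebraMap R p.ResidueField r)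
    rw [e.apply_symm_apply]
    exact (Ideal.ResidueField.map_algebraMap p q _ hq r).symm
  · ext x
    simp [RingHom.mem_ker, Ideal.algebraMap_residueField_eq_zero]
  · exact e.apply_symm_apply _

/-- Conversely a point gives a residue-trivial prime. -/
theorem bijective_map_ker {p : Ideal R} [p.IsPrime] {S : Type u} [CommRing S] [Algebra R S]
    (σ : S →ₐ[R] p.ResidueField) :
    ∃ hq : p = (RingHom.ker σ.toRingHom).comap (algebraMap R S),
      haveI : (RingHom.ker σ.toRingHom).IsPrime := RingHom.ker_isPrime _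
      Function.Bijective
        (Ideal.ResidueField.map p (RingHom.ker σ.toRingHom) (algebraMap R S) hq) := by
  have : (RingHom.ker σ.toRingHom).IsPrime := RingHom.ker_isPrime _
  have hq : p = (RingHom.ker σ.toRingHom).comap (algebraMap R S) := by
    ext r
    simp [RingHom.mem_ker, Ideal.algebraMap_residueField_eq_zero]
  refine ⟨hq, RingHom.injective _, fun z ↦ ?_⟩
  set q := RingHom.ker σ.toRingHom
  let ι : q.ResidueField →+* p.ResidueField :=
    Ideal.ResidueField.lift q σ.toRingHom le_rfl (fun x hx ↦ by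
      rw [Submonoid.mem_comap, IsUnit.mem_submonoid_iff, isUnit_iff_ne_zero]; exact hx)
  refine ⟨ι z, ι.injective ?_⟩
  have : ι.comp (Ideal.ResidueField.map p q (algebraMap R S) hq) = RingHom.id _ := by
    refine Ideal.ResidueField.ringHom_ext (RingHom.ext fun r ↦ ?_)
    simp only [RingHom.comp_apply, Ideal.ResidueField.map_algebraMap, RingHom.id_apply, ι,
      Ideal.ResidueField.lift_algebraMap]
    exact σ.commutes r
  exact DFunLike.congr_fun this (ι z)

theorem quotientMap_bijective_of_comp {A B C : Type u} [CommRing A] [CommRing B] [CommRing C]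
    [Algebra A B] [Algebra A C] (I : Ideal A) (e : C →ₐ[A] B ⧸ I.map (algebraMap A B))
    (hB : Function.Bijective (Ideal.quotientMap (I.map (algebraMap A B)) (algebraMap A B) Ideal.le_comap_map))
    (hker : RingHom.ker e.toRingHom ≤ I.map (algebraMap A C)) :
    Function.Bijective (Ideal.quotientMap (I.map (algebraMap A C)) (algebraMap A C) Ideal.le_comap_map) := by
  have hle : I.map (algebraMap A C) ≤ RingHom.ker e.toRingHom := by
    rw [Ideal.map_le_iff_le_comap]
    intro i hi
    simp [RingHom.mem_ker, ← Ideal.Quotient.mk_algebraMap,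
      Ideal.Quotient.eq_zero_iff_mem.mpr (Ideal.mem_map_of_mem (algebraMap A B) hi)]
  constructor
  · intro x y hxy
    obtain ⟨x, rfl⟩ := Ideal.Quotient.mk_surjective x
    obtain ⟨y, rfl⟩ := Ideal.Quotient.mk_surjective y
    rw [Ideal.quotientMap_mk, Ideal.quotientMap_mk, Ideal.Quotient.eq, ← map_sub] at hxy
    refine hB.1 ?_
    rw [Ideal.quotientMap_mk, Ideal.quotientMap_mk, Ideal.Quotient.eq, ← map_sub,
      ← Ideal.Quotient.eq_zero_iff_mem, Ideal.Quotient.mk_algebraMap, ← e.commutes]
    exact hle hxy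
  · intro z
    obtain ⟨c, rfl⟩ := Ideal.Quotient.mk_surjective z
    obtain ⟨a, ha⟩ := hB.2 (e c)
    obtain ⟨a, rfl⟩ := Ideal.Quotient.mk_surjective a
    refine ⟨Ideal.Quotient.mk I a, ?_⟩
    rw [Ideal.quotientMap_mk, Ideal.Quotient.eq]
    refine hker ?_
    rw [RingHom.mem_ker, map_sub, sub_eq_zero]
    rw [Ideal.quotientMap_mk, Ideal.Quotient.mk_algebraMap] at ha
    exact (e.commutes a).trans ha

theorem pairEtaleNbhds_exists_dominating {A : Type u} [CommRing A] (I : Ideal A)
    {A₁ A₂ : Type u} [CommRing A₁] [Algebra A A₁] [Algebra.Etale A A₁] [CommRing A₂] [Algebra A A₂]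
    [Algebra.Etale A A₂]
    (h₁ : Function.Bijective (Ideal.quotientMap (I.map (algebraMap A A₁)) (algebraMap A A₁) Ideal.le_comap_map))
    (h₂ : Function.Bijective (Ideal.quotientMap (I.map (algebraMap A A₂)) (algebraMap A A₂) Ideal.le_comap_map)) :
    Function.Bijective (Ideal.quotientMap (I.map (algebraMap A (A₁ ⊗[A] A₂)))
      (algebraMap A (A₁ ⊗[A] A₂)) Ideal.le_comap_map) := by
  set J := I.map (algebraMap A (A₁ ⊗[A] A₂)) with hJ
  have hA : ∀ (B : Type u) [CommRing B] [Algebra A B],
      Function.Bijective (Ideal.quotientMap (I.map (algebraMap A B)) (algebraMap A B) Ideal.le_comap_map) →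
      ∀ b : B, ∃ a : A, b - algebraMap A B a ∈ I.map (algebraMap A B) := by
    intro B _ _ hb b
    obtain ⟨a, ha⟩ := hb.2 (Ideal.Quotient.mk _ b)
    obtain ⟨a, rfl⟩ := Ideal.Quotient.mk_surjective a
    rw [Ideal.quotientMap_mk, Ideal.Quotient.eq] at ha
    exact ⟨a, by simpa using neg_mem ha⟩
  constructor
  · intro x y hxy
    obtain ⟨x, rfl⟩ := Ideal.Quotient.mk_surjective x
    obtain ⟨y, rfl⟩ := Ideal.Quotient.mk_surjective y
    rw [Ideal.quotientMap_mk, Ideal.quotientMap_mk, Ideal.Quotient.eq, ← map_sub] at hxy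
    rw [Ideal.Quotient.eq]
    -- use the point `A₁ ⊗ A₂ → A ⧸ I`
    let e₁ := RingEquiv.ofBijective _ h₁
    let e₂ := RingEquiv.ofBijective _ h₂
    let π₁ : A₁ →ₐ[A] A ⧸ I :=
      { toRingHom := e₁.symm.toRingHom.comp (Ideal.Quotient.mk _)
        commutes' := fun a ↦ e₁.injective (by simp; rfl) }
    let π₂ : A₂ →ₐ[A] A ⧸ I :=
      { toRingHom := e₂.symm.toRingHom.comp (Ideal.Quotient.mk _)
        commutes' := fun a ↦ e₂.injective (by simp; rfl) }
    let π := Algebra.TensorProduct.lift π₁ π₂ fun _ _ ↦ .all _ _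
    have hle : J ≤ RingHom.ker π.toRingHom := by
      rw [hJ, Ideal.map_le_iff_le_comap]
      intro i hi
      rw [Ideal.mem_comap, RingHom.mem_ker]
      exact (π.commutes i).trans (Ideal.Quotient.eq_zero_iff_mem.mpr hi)
    exact Ideal.Quotient.eq_zero_iff_mem.mp ((π.commutes _).symm.trans (hle hxy))
  · intro z
    obtain ⟨z, rfl⟩ := Ideal.Quotient.mk_surjective z
    induction z using TensorProduct.induction_on with
    | zero => exact ⟨0, by simp⟩
    | add x y hx hy =>
      obtain ⟨a, ha⟩ := hx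
      obtain ⟨b, hb⟩ := hy
      exact ⟨a + b, by rw [map_add, ha, hb, map_add]⟩
    | tmul x y =>
      obtain ⟨a, ha⟩ := hA A₁ h₁ x
      obtain ⟨b, hb⟩ := hA A₂ h₂ y
      refine ⟨Ideal.Quotient.mk I (a * b), ?_⟩
      rw [Ideal.quotientMap_mk, eq_comm, Ideal.Quotient.eq, map_mul]
      have hl : (x - algebraMap A A₁ a) ⊗ₜ[A] (1 : A₂) ∈ J := by
        have := Ideal.mem_map_of_mem (Algebra.TensorProduct.includeLeft : A₁ →ₐ[A] A₁ ⊗[A] A₂).toRingHom ha
        rw [Ideal.map_map, AlgHom.toRingHom_eq_coe, AlgHom.comp_algebraMap] at this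
        exact this
      have hr : (1 : A₁) ⊗ₜ[A] (y - algebraMap A A₂ b) ∈ J := by
        have := Ideal.mem_map_of_mem (Algebra.TensorProduct.includeRight : A₂ →ₐ[A] A₁ ⊗[A] A₂).toRingHom hb
        rw [Ideal.map_map, AlgHom.toRingHom_eq_coe, AlgHom.comp_algebraMap] at this
        exact this
      have hxy : x ⊗ₜ[A] y - algebraMap A _ a * algebraMap A _ b =
          (x - algebraMap A A₁ a) ⊗ₜ[A] (1 : A₂) * ((1 : A₁) ⊗ₜ[A] y) +
            algebraMap A _ a * ((1 : A₁) ⊗ₜ[A] (y - algebraMap A A₂ b)) := by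
        rw [show algebraMap A (A₁ ⊗[A] A₂) b = (1 : A₁) ⊗ₜ[A] algebraMap A A₂ b from
            ((Algebra.TensorProduct.includeRight : A₂ →ₐ[A] A₁ ⊗[A] A₂).commutes b).symm,
          show algebraMap A (A₁ ⊗[A] A₂) a = algebraMap A A₁ a ⊗ₜ[A] (1 : A₂) from rfl,
          TensorProduct.tmul_sub, TensorProduct.sub_tmul]
        simp [mul_sub, sub_mul, Algebra.TensorProduct.tmul_mul_tmul]
      rw [hxy]
      exact add_mem (J.mul_mem_right _ hl) (J.mul_mem_left _ hr)

end Groth.Agent.Hensel
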