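import Groth.Agent.CSA.EtaleSplit
import Mathlib.FieldTheory.PrimitiveElement
import Mathlib.RingTheory.LocalRing.ResidueField.Basic

/-! Finite étale local extensions with prescribed separable residue extension. -/

set_option autoImplicit false

universe u

open IsLocalRing Polynomial

namespace Groth.Agent.Hensel

theorem exists_finite_etale_isLocalRing (A : Type u) [CommRing A] [IsLocalRing A] (l : Type u)
    [Field l] [Algebra (ResidueField A) l] [FiniteDimensional (ResidueField A) l]
    [Algebra.IsSeparable (ResidueField A) l] :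
    ∃ (E : Type u) (_ : CommRing E) (_ : IsLocalRing E) (_ : Algebra A E)
      (_ : IsLocalHom (algebraMap A E)),
      Module.Finite A E ∧ Algebra.Etale A E ∧
        Nonempty (ResidueField E ≃ₐ[ResidueField A] l) := by
  let k := ResidueField A
  obtain ⟨α, hα⟩ := Field.exists_primitive_element k l
  have hint : IsIntegral k α := IsIntegral.of_finite _ _
  obtain ⟨P, hP, -, hPm⟩ := lifts_and_degree_eq_and_monic
    (f := residue A) ((mem_lifts _).mpr (map_surjective _ residue_surjective (minpoly k α)))
    (minpoly.monic hint)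
  have hsep : (P.map (residue A)).Separable := hP ▸ Algebra.IsSeparable.isSeparable k α
  let E := AdjoinRoot P
  have : Module.Finite A E := hPm.finite_adjoinRoot
  have hE : Algebra.Etale A E :=
    CSA.etale_adjoinRoot hPm (CSA.isCoprime_derivative_of_map hPm hsep)
  let : Algebra A l := ((algebraMap k l).comp (residue A)).toAlgebra
  have : IsScalarTower A k l := .of_algebraMap_eq fun _ ↦ rfl
  have haev : ∀ g : A[X], aeval α g = aeval α (g.map (residue A)) := fun g ↦
    (aeval_map_algebraMap k α g).symm
  let φ : E →ₐ[A] l := AdjoinRoot.liftAlgHom P (Algebra.ofId A l) α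
    (by change aeval α P = 0; rw [haev, hP, minpoly.aeval])
  have hφ : ∀ g : A[X], φ (AdjoinRoot.mk P g) = aeval α (g.map (residue A)) := fun g ↦ by
    rw [← haev]; simp [φ]; rfl
  have hsurj : Function.Surjective φ := fun y ↦ by
    have hy : y ∈ IntermediateField.adjoin k {α} := hα.ge IntermediateField.mem_top
    rw [← IntermediateField.mem_toSubalgebra,
      IntermediateField.adjoin_simple_toSubalgebra_of_isAlgebraic hint.isAlgebraic,
      Algebra.adjoin_singleton_eq_range_aeval, AlgHom.mem_range] at hy
    obtain ⟨g₀, rfl⟩ := hy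
    obtain ⟨g, rfl⟩ := map_surjective _ residue_surjective g₀
    exact ⟨AdjoinRoot.mk P g, hφ g⟩
  have hker : RingHom.ker φ.toRingHom = (maximalIdeal A).map (algebraMap A E) := by
    refine le_antisymm (fun x hx ↦ ?_) ?_
    · obtain ⟨g, rfl⟩ := AdjoinRoot.mk_surjective x
      have h0 : aeval α (g.map (residue A)) = 0 := (hφ g).symm.trans hx
      obtain ⟨q₀, hq₀⟩ := minpoly.dvd k α h0
      obtain ⟨q, rfl⟩ := map_surjective _ residue_surjective q₀
      have hmem : g - P * q ∈ (maximalIdeal A).map (C : A →+* A[X]) := by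
        rw [← IsLocalRing.ker_residue, ← Polynomial.ker_mapRingHom, RingHom.mem_ker,
          coe_mapRingHom, Polynomial.map_sub, Polynomial.map_mul, hq₀, hP, sub_self]
      have := Ideal.mem_map_of_mem (AdjoinRoot.mk P) hmem
      rw [Ideal.map_map, map_sub, map_mul, AdjoinRoot.mk_self, zero_mul, sub_zero] at this
      exact this
    · rw [Ideal.map_le_iff_le_comap]
      intro a ha
      change φ (algebraMap A E a) = 0
      rw [φ.commutes]
      exact (congrArg (algebraMap k l) (residue_eq_zero_iff a |>.mpr ha)).trans (map_zero _)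
  have hmax : (RingHom.ker φ.toRingHom).IsMaximal := RingHom.ker_isMaximal_of_surjective _ hsurj
  have hloc : IsLocalRing E := IsLocalRing.of_unique_max_ideal ⟨_, hmax, fun M hM ↦
    (hmax.eq_of_le hM.ne_top (hker ▸ Ideal.map_le_iff_le_comap.mpr
      (IsLocalRing.eq_maximalIdeal (Ideal.isMaximal_comap_of_isIntegral_of_isMaximal M)).ge)).symm⟩
  have hlh : IsLocalHom (algebraMap A E) := ⟨fun a ha ↦ by
    by_contra hna
    refine hmax.ne_top (Ideal.eq_top_of_isUnit_mem _ ?_ ha)
    exact hker ▸ Ideal.mem_map_of_mem _ hna⟩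
  have : IsLocalHom φ.toRingHom := .of_surjective _ hsurj
  let ψ : ResidueField E →+* l := IsLocalRing.ResidueField.lift φ.toRingHom
  refine ⟨E, inferInstance, hloc, inferInstance, hlh, inferInstance, hE,
    ⟨AlgEquiv.ofBijective (R := k) { ψ with commutes' := fun c ↦ ?_ } ⟨ψ.injective, fun y ↦ ?_⟩⟩⟩
  · obtain ⟨a, rfl⟩ := residue_surjective c
    change φ (algebraMap A E a) = _
    rw [φ.commutes]
    rfl
  · obtain ⟨x, rfl⟩ := hsurj y
    exact ⟨residue E x, rfl⟩

end Groth.Agent.Hensel
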