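import Groth.Agent.Hensel.Henselization

/-!
# Henselization at a prime as a colimit over residue-trivial étale pairs
-/

set_option autoImplicit false

universe u

open IsLocalRing

namespace Groth.Agent.Hensel

variable {R : Type u} [CommRing R] {p : Ideal R} [p.IsPrime]

theorem algHom_eq_of_ker_eq {S : Type u} [CommRing S] [Algebra R S] {q : Ideal S} [q.IsPrime]
    {hq : p = q.comap (algebraMap R S)}
    (hbij : Function.Bijective (Ideal.ResidueField.map p q (algebraMap R S) hq))
    (φ ψ : S →ₐ[R] p.ResidueField) (hφ : RingHom.ker φ.toRingHom = q)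
    (hψ : RingHom.ker ψ.toRingHom = q) : φ = ψ := by
  have key : ∀ (χ : S →ₐ[R] p.ResidueField), RingHom.ker χ.toRingHom = q → ∀ x c,
      Ideal.ResidueField.map p q (algebraMap R S) hq c = algebraMap S q.ResidueField x → χ x = c := by
    intro χ hχ x c hc
    let ι : q.ResidueField →+* p.ResidueField :=
      Ideal.ResidueField.lift q χ.toRingHom hχ.ge (fun y hy ↦ by
        rw [Submonoid.mem_comap, IsUnit.mem_submonoid_iff, isUnit_iff_ne_zero]
        exact fun h ↦ hy (hχ.le h))
    have : ι.comp (Ideal.ResidueField.map p q (algebraMap R S) hq) = RingHom.id _ := by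
      refine Ideal.ResidueField.ringHom_ext (RingHom.ext fun r ↦ ?_)
      simp only [RingHom.comp_apply, Ideal.ResidueField.map_algebraMap, RingHom.id_apply, ι,
        Ideal.ResidueField.lift_algebraMap]
      exact χ.commutes r
    have h1 := DFunLike.congr_fun this c
    rw [RingHom.comp_apply, hc, RingHom.id_apply] at h1
    simpa [ι, Ideal.ResidueField.lift_algebraMap] using h1
  refine AlgHom.ext fun x ↦ ?_
  obtain ⟨c, hc⟩ := hbij.2 (algebraMap S q.ResidueField x)
  rw [key φ hφ x c hc, key ψ hψ x c hc]

theorem henselization_atPrime_colimit (Rh : Type u) [CommRing Rh] [IsLocalRing Rh]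
    [Algebra (Localization.AtPrime p) Rh] [IsLocalHom (algebraMap (Localization.AtPrime p) Rh)]
    [Hensel.IsHenselization (Localization.AtPrime p) Rh] [Algebra R Rh]
    [IsScalarTower R (Localization.AtPrime p) Rh] :
    ∃ e : Hens R p.ResidueField ≃ₐ[R] Rh,
      ∀ z, e z ∈ maximalIdeal Rh ↔ Hens.π R p.ResidueField z = 0 := by
  obtain ⟨i, hl, hT, h, -, -⟩ := isHenselization_hens (A := R) (R := Localization.AtPrime p) p
  let _ := i
  obtain ⟨e⟩ := exists_algEquiv_of_isHenselization (R := Localization.AtPrime p)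
    (S := Hens R (ResidueField (Localization.AtPrime p))) (S' := Rh)
  refine ⟨e.restrictScalars R, fun z ↦ ?_⟩
  rw [mem_maximalIdeal, mem_nonunits_iff]
  change ¬ IsUnit (e z) ↔ _
  rw [isUnit_map_iff, ← mem_nonunits_iff, ← mem_maximalIdeal, maximalIdeal_hens]
  exact RingHom.mem_ker

end Groth.Agent.Hensel
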