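import Groth.Agent.Hensel.Construction
import Groth.Prelude.Def_Hensel
import Groth.Prelude.Def_Hens2
import Mathlib.RingTheory.Unramified.LocalRing
import Mathlib.RingTheory.Flat.FaithfullyFlat.Algebra
import Mathlib.RingTheory.Localization.Ideal

/-!
# `Hens R K` is the henselization / strict henselization / pair henselization
-/

set_option autoImplicit false

universe u

open IsLocalRing TensorProduct

namespace Groth.Agent.Hensel

namespace Hens

variable {R K : Type u} [CommRing R] [CommRing K] [Algebra R K]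

theorem ker_π_eq_map {I : Ideal R} (hI : I ≤ RingHom.ker (algebraMap R K))
    (h : ∀ (X : Nbhd R K) (x : X.carrier), X.point x = 0 →
      ∃ η, IsUnit (X.point η) ∧ η * x ∈ I.map (algebraMap R X.carrier)) :
    RingHom.ker (π R K).toRingHom = I.map (algebraMap R (Hens R K)) := by
  refine le_antisymm (fun z hz ↦ ?_) (Ideal.map_le_iff_le_comap.mpr fun r hr ↦ ?_)
  · obtain ⟨X, x, rfl⟩ := exists_rep z
    obtain ⟨η, hu, hη⟩ := h X x (by rw [← π_of]; exact hz)
    have h1 := Ideal.mem_map_of_mem (of X).toRingHom hη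
    rw [Ideal.map_map, AlgHom.toRingHom_eq_coe, AlgHom.comp_algebraMap] at h1
    simp only [AlgHom.coe_toRingHom, map_mul] at h1
    exact (Ideal.unit_mul_mem_iff_mem _ (isUnit_of_isUnit_π (by rwa [π_of]))).mp h1
  · rw [Ideal.mem_comap, RingHom.mem_ker]
    exact ((π R K).commutes r).trans (hI hr)

/-- unramified rigidity inside a fibre ring -/
theorem exists_cutting (A : Type u) [CommRing A] (I : Ideal A) (X : Nbhd A (A ⧸ I)) :
    ∃ η, X.point η = 1 ∧ ∀ x, X.point x = 0 → η * x ∈ I.map (algebraMap A X.carrier) := by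
  set J := I.map (algebraMap A X.carrier)
  let ι : A ⧸ I →ₐ[A] X.carrier ⧸ J := Ideal.Quotient.liftₐ I (Algebra.ofId A _) fun a ha ↦ by
    simp [Algebra.ofId_apply, ← Ideal.Quotient.mk_algebraMap, Ideal.Quotient.eq_zero_iff_mem,
      J, Ideal.mem_map_of_mem (algebraMap A X.carrier) ha]
  let L := Algebra.TensorProduct.lift (ι.comp X.point) (Ideal.Quotient.mkₐ A J) fun _ _ ↦ .all _ _
  set t := Algebra.FormallyUnramified.elem A X.carrier
  obtain ⟨η, hη⟩ := Ideal.Quotient.mk_surjective (I := J) (L t)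
  let q : (X.carrier ⧸ J) →ₐ[A] A ⧸ I := Ideal.Quotient.liftₐ J X.point fun y hy ↦ by
    refine (show J ≤ RingHom.ker X.point.toRingHom from Ideal.map_le_iff_le_comap.mpr fun a ha ↦ ?_) hy
    rw [Ideal.mem_comap, RingHom.mem_ker]
    exact (X.point.commutes a).trans (Ideal.Quotient.eq_zero_iff_mem.mpr ha)
  have hqι : q.comp ι = AlgHom.id A _ := AlgHom.ext fun a ↦ by
    obtain ⟨a, rfl⟩ := Ideal.Quotient.mk_surjective a
    exact (q.comp ι).commutes a
  have key : ∀ z, q (L z) = X.point (Algebra.TensorProduct.lmul' A z) := fun z ↦ by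
    induction z using TensorProduct.induction_on with
    | zero => simp
    | tmul a b =>
      simp only [L, Algebra.TensorProduct.lift_tmul, map_mul, Algebra.TensorProduct.lmul'_apply_tmul,
        AlgHom.comp_apply]
      rw [show q (ι (X.point a)) = X.point a from DFunLike.congr_fun hqι _]
      rfl
    | add a b ha hb => simp [ha, hb]
  refine ⟨η, ?_, fun x hx ↦ ?_⟩
  · rw [show X.point η = q (Ideal.Quotient.mk J η) from rfl, hη, key,
      Algebra.FormallyUnramified.lmul_elem, map_one]
  · have h0 := congr(L $(Algebra.FormallyUnramified.one_tmul_sub_tmul_one_mul_elem (R := A) x))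
    rw [← Ideal.Quotient.eq_zero_iff_mem, map_mul, hη, mul_comm]
    simpa [L, hx] using h0

theorem ker_π_quotient (A : Type u) [CommRing A] (I : Ideal A) :
    RingHom.ker (π A (A ⧸ I)).toRingHom = I.map (algebraMap A (Hens A (A ⧸ I))) := by
  refine ker_π_eq_map (by rw [Ideal.Quotient.algebraMap_eq, Ideal.mk_ker]) fun X x hx ↦ ?_
  obtain ⟨η, h1, h2⟩ := exists_cutting A I X
  exact ⟨η, by rw [h1]; exact isUnit_one, h2 x hx⟩

/-- At a field-valued point the kernel is generated by the prime below. -/
theorem ker_π_field {R K : Type u} [CommRing R] [Field K] [Algebra R K] :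
    RingHom.ker (π R K).toRingHom = (RingHom.ker (algebraMap R K)).map (algebraMap R (Hens R K)) := by
  refine ker_π_eq_map le_rfl fun X x hx ↦ ?_
  set p := RingHom.ker (algebraMap R K)
  have : p.IsPrime := RingHom.ker_isPrime _
  set q := RingHom.ker X.point.toRingHom with hq
  have : q.IsPrime := RingHom.ker_isPrime _
  have : q.LiesOver p := ⟨by ext r; simp [p, hq, Ideal.under_def, RingHom.mem_ker]⟩
  let := Localization.AtPrime.algebraOfLiesOver p q
  have : Algebra.IsUnramifiedAt R q := by
    have : Algebra.FormallyUnramified X.carrier (Localization.AtPrime q) :=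
      .of_isLocalization q.primeCompl
    exact Algebra.FormallyUnramified.comp R X.carrier _
  have h1 : algebraMap X.carrier (Localization.AtPrime q) x ∈
      (p.map (algebraMap R X.carrier)).map (algebraMap X.carrier (Localization.AtPrime q)) := by
    rw [Ideal.map_map, ← IsScalarTower.algebraMap_eq,
      ((Algebra.isUnramifiedAt_iff_map_eq R p q).mp ‹_›).2,
      IsLocalization.AtPrime.to_map_mem_maximal_iff (Localization.AtPrime q) q]
    exact hx
  obtain ⟨η, hη, hmem⟩ := (IsLocalization.algebraMap_mem_map_algebraMap_iff q.primeCompl _ _ _).mp h1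
  exact ⟨η, isUnit_iff_ne_zero.mpr hη, hmem⟩

end Hens

open Hens

/-! ### Pairs -/

theorem eq_algebraMap_add_of_ker {R K : Type u} [CommRing R] [CommRing K] [Algebra R K]
    (hK : Function.Surjective (algebraMap R K)) (z : Hens R K) :
    ∃ r, z - algebraMap R (Hens R K) r ∈ RingHom.ker (π R K).toRingHom := by
  obtain ⟨r, hr⟩ := hK (π R K z)
  exact ⟨r, by simp [RingHom.mem_ker, hr]⟩

theorem isPairHenselization_hens (A : Type u) [CommRing A] (I : Ideal A) :
    Hens2.IsPairHenselization A I (Hens A (A ⧸ I)) := by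
  refine ⟨Hens.ker_π_quotient A I ▸ Hens.henselianRing A (A ⧸ I), fun C _ J f hC hf ↦ ?_⟩
  let := f.toAlgebra
  let ρ : A ⧸ I →ₐ[A] C ⧸ J := Ideal.Quotient.liftₐ I (Algebra.ofId A _) fun a ha ↦ by
    exact Ideal.Quotient.eq_zero_iff_mem.mpr (hf (Ideal.mem_map_of_mem f ha))
  obtain ⟨g, hg, huniq⟩ := Hens.existsUnique_lift (R := A) (K := A ⧸ I) ρ
  refine ⟨g.toRingHom, g.comp_algebraMap, fun g' hg' ↦ ?_⟩
  let g₁ : Hens A (A ⧸ I) →ₐ[A] C := { toRingHom := g', commutes' := DFunLike.congr_fun hg' }
  refine congrArg AlgHom.toRingHom (huniq g₁ (AlgHom.ext fun z ↦ ?_))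
  obtain ⟨a, ha⟩ := eq_algebraMap_add_of_ker (R := A) (K := A ⧸ I) Ideal.Quotient.mk_surjective z
  have h1 : g₁ (z - algebraMap A _ a) ∈ J := by
    rw [Hens.ker_π_quotient] at ha
    have := Ideal.mem_map_of_mem g₁.toRingHom ha
    rw [Ideal.map_map, AlgHom.toRingHom_eq_coe, AlgHom.comp_algebraMap] at this
    exact hf this
  rw [map_sub, AlgHom.commutes, ← Ideal.Quotient.eq] at h1
  rw [RingHom.mem_ker, map_sub, sub_eq_zero] at ha
  change Ideal.Quotient.mk J (g₁ z) = ρ (π A (A ⧸ I) z)
  rw [h1, show π A (A ⧸ I) z = _ from ha]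
  exact ((ρ.comp (π A (A ⧸ I))).commutes a).symm

theorem pairHenselization_ringHom_ext {A B C : Type u} [CommRing A] [CommRing B] [Algebra A B]
    {I : Ideal A} (hB : Hens2.IsPairHenselization A I B) [CommRing C] {J : Ideal C}
    [HenselianRing C J] {f g : B →+* C} (hJ : I.map (f.comp (algebraMap A B)) ≤ J)
    (h : f.comp (algebraMap A B) = g.comp (algebraMap A B)) : f = g :=
  (hB.2 C J _ inferInstance hJ).unique rfl h.symm

/-- Uniqueness of pair henselizations. -/
theorem exists_algEquiv_of_isPairHenselization {A B B' : Type u} [CommRing A] [CommRing B]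
    [Algebra A B] [CommRing B'] [Algebra A B'] {I : Ideal A}
    (hB : Hens2.IsPairHenselization A I B) (hB' : Hens2.IsPairHenselization A I B') :
    Nonempty (B ≃ₐ[A] B') := by
  obtain ⟨g, hg, -⟩ := hB.2 B' (I.map (algebraMap A B')) (algebraMap A B') hB'.1 le_rfl
  obtain ⟨g', hg', -⟩ := hB'.2 B (I.map (algebraMap A B)) (algebraMap A B) hB.1 le_rfl
  have := hB.1
  have := hB'.1
  have h1 : g'.comp g = RingHom.id B :=
    pairHenselization_ringHom_ext (J := I.map (algebraMap A B)) hB
      (by rw [RingHom.comp_assoc, hg, hg']) (by rw [RingHom.comp_assoc, hg, hg', RingHom.id_comp])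
  have h2 : g.comp g' = RingHom.id B' :=
    pairHenselization_ringHom_ext (J := I.map (algebraMap A B')) hB'
      (by rw [RingHom.comp_assoc, hg', hg]) (by rw [RingHom.comp_assoc, hg', hg, RingHom.id_comp])
  exact ⟨AlgEquiv.ofAlgHom { toRingHom := g, commutes' := DFunLike.congr_fun hg }
    { toRingHom := g', commutes' := DFunLike.congr_fun hg' }
    (AlgHom.ext fun x ↦ DFunLike.congr_fun h2 x) (AlgHom.ext fun x ↦ DFunLike.congr_fun h1 x)⟩

/-! ### Local rings -/

section field

variable {R K : Type u} [CommRing R] [Field K] [Algebra R K]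

instance : IsLocalRing (Hens R K) := Hens.isLocalRing

theorem maximalIdeal_hens : maximalIdeal (Hens R K) = RingHom.ker (π R K).toRingHom := by
  refine le_antisymm (fun z hz ↦ ?_) (IsLocalRing.le_maximalIdeal (RingHom.ker_ne_top _))
  by_contra h
  exact hz (Hens.isUnit_of_isUnit_π (isUnit_iff_ne_zero.mpr h))

theorem maximalIdeal_hens_eq_map :
    maximalIdeal (Hens R K) = (RingHom.ker (algebraMap R K)).map (algebraMap R (Hens R K)) :=
  maximalIdeal_hens.trans Hens.ker_π_field

instance : HenselianLocalRing (Hens R K) :=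
  henselianLocalRing_iff_henselianRing.mpr (maximalIdeal_hens (R := R) (K := K) ▸ Hens.henselianRing R K)

theorem residue_lift_iff {T : Type u} [CommRing T] [IsLocalRing T] [Algebra R T]
    (ρ : K →ₐ[R] ResidueField T) (g : Hens R K →ₐ[R] T) :
    (Ideal.Quotient.mkₐ R (maximalIdeal T)).comp g = (ρ : K →ₐ[R] T ⧸ maximalIdeal T).comp (π R K) ↔
      ∀ z, residue T (g z) = ρ (π R K z) :=
  ⟨fun h z ↦ DFunLike.congr_fun h z, fun h ↦ AlgHom.ext h⟩

/-- Universal property at a field-valued point. -/
theorem existsUnique_lift_residue {T : Type u} [CommRing T] [HenselianLocalRing T] [Algebra R T]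
    (ρ : K →ₐ[R] ResidueField T) :
    ∃! g : Hens R K →ₐ[R] T, ∀ z, residue T (g z) = ρ (π R K z) := by
  have : HenselianRing T (maximalIdeal T) := henselianLocalRing_iff_henselianRing.mp inferInstance
  obtain ⟨g, hg, hu⟩ := Hens.existsUnique_lift (R := R) (K := K) (J := maximalIdeal T) ρ
  exact ⟨g, (residue_lift_iff ρ g).mp hg, fun g' h ↦ hu g' ((residue_lift_iff ρ g').mpr h)⟩

theorem residue_eq_iff_π (x y : Hens R K) :
    residue (Hens R K) x = residue (Hens R K) y ↔ π R K x = π R K y := by
  refine (Ideal.Quotient.eq (I := maximalIdeal (Hens R K))).trans ?_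
  rw [maximalIdeal_hens, RingHom.mem_ker, map_sub, sub_eq_zero]
  rfl

/-- the residue field of `Hens R K` -/
noncomputable def residueFieldHom : ResidueField (Hens R K) →+* K :=
  Ideal.Quotient.lift _ (π R K).toRingHom fun x hx ↦ by
    rwa [maximalIdeal_hens, RingHom.mem_ker] at hx

theorem residueFieldHom_residue (z : Hens R K) :
    residueFieldHom (residue (Hens R K) z) = π R K z := rfl

end field

end Groth.Agent.Hensel
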