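import Groth.Agent.Hensel.Hfp

/-!
# Composition of henselian finitely presented maps
-/

set_option autoImplicit false

universe u

namespace Groth.Agent.Hensel

open MvPolynomial

theorem hfp_comp {A : Type u} [CommRing A] {I : Ideal A} {R B : Type u} [CommRing R] [Algebra A R]
    [Algebra.FinitePresentation A R] [CommRing B] [Algebra R B] [Algebra A B] [IsScalarTower A R B]
    (hB : Hens2.IsPairHenselization R (I.map (algebraMap A R)) B)
    {S C : Type u} [CommRing S] [Algebra B S] [Algebra A S] [IsScalarTower A B S]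
    [Algebra.FinitePresentation B S]
    [CommRing C] [Algebra S C] [Algebra B C] [Algebra A C] [IsScalarTower B S C] [IsScalarTower A B C]
    (hC : Hens2.IsPairHenselization S (I.map (algebraMap A S)) C) :
    ∃ (T : Type u) (_ : CommRing T) (_ : Algebra A T) (_ : Algebra T C) (_ : IsScalarTower A T C),
      Algebra.FinitePresentation A T ∧ Hens2.IsPairHenselization T (I.map (algebraMap A T)) C := by
  classical
  obtain ⟨n, π, hπ, hker⟩ := Algebra.FinitePresentation.out (R := B) (A := S)
  obtain ⟨G, hG⟩ := hker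
  let ι := Σ g : (G : Set (MvPolynomial (Fin n) B)), {m // m ∈ (g : MvPolynomial (Fin n) B).support}
  have : Finite ι := inferInstance
  obtain ⟨E, _, _, _, _, hE, hEt, e, he⟩ :=
    exists_nbhd_range hB (fun i : ι ↦ coeff i.2.1 (i.1 : MvPolynomial (Fin n) B))
  let : Algebra A E := ((algebraMap R E).comp (algebraMap A R)).toAlgebra
  have : IsScalarTower A R E := .of_algebraMap_eq fun _ ↦ rfl
  have : IsScalarTower A E B := .of_algebraMap_eq fun a ↦ by
    rw [IsScalarTower.algebraMap_apply A R B, IsScalarTower.algebraMap_apply R E B]; rfl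
  have : Algebra.FinitePresentation A E := Algebra.FinitePresentation.trans A R E
  have hBE : Hens2.IsPairHenselization E (I.map (algebraMap A E)) B := by
    rw [← map_map_tower' (R := R)]
    exact isPairHenselization_of_nbhd hB E hEt
  let lift' : ↥(G : Set (MvPolynomial (Fin n) B)) → MvPolynomial (Fin n) E := fun g ↦
    ∑ m ∈ (g : MvPolynomial (Fin n) B).support.attach, monomial m.1 (e ⟨g, m⟩)
  have hlift : ∀ g, map (algebraMap E B) (lift' g) = g := fun g ↦ by
    simp only [lift', map_sum, map_monomial, he]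
    exact (Finset.sum_attach _ (fun m ↦ monomial m (coeff m (g : MvPolynomial (Fin n) B)))).trans
      (g : MvPolynomial (Fin n) B).as_sum.symm
  let K : Ideal (MvPolynomial (Fin n) E) := Ideal.span (Set.range lift')
  let T := MvPolynomial (Fin n) E ⧸ K
  let θ : MvPolynomial (Fin n) E →+* S := π.toRingHom.comp (map (algebraMap E B))
  have hθ : ∀ x ∈ K, θ x = 0 := fun x hx ↦ by
    refine (Ideal.span_le.mpr ?_ : K ≤ RingHom.ker θ) hx
    rintro _ ⟨g, rfl⟩
    change π (map (algebraMap E B) (lift' g)) = 0
    rw [hlift]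
    exact (hG ▸ Ideal.subset_span g.2 : (g : MvPolynomial (Fin n) B) ∈ RingHom.ker π.toRingHom)
  let τ : T →+* C := (algebraMap S C).comp (Ideal.Quotient.lift K θ hθ)
  let : Algebra T C := τ.toAlgebra
  have hT : IsScalarTower A T C := .of_algebraMap_eq fun a ↦ by
    change algebraMap A C a = τ (Ideal.Quotient.mk K (MvPolynomial.C (algebraMap A E a)))
    change algebraMap A C a = algebraMap S C (π (map (algebraMap E B) (MvPolynomial.C (algebraMap A E a))))
    rw [map_C, ← IsScalarTower.algebraMap_apply, ← algebraMap_eq, π.commutes,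
      ← IsScalarTower.algebraMap_apply B S C, ← IsScalarTower.algebraMap_apply A B C]
  have : Algebra.FinitePresentation A (MvPolynomial (Fin n) E) := Algebra.FinitePresentation.trans A E _
  refine ⟨T, inferInstance, inferInstance, inferInstance, hT,
    Algebra.FinitePresentation.quotient (Submodule.fg_span (Set.finite_range lift')), ?_⟩
  refine ⟨?_, fun C' _ L g hC' hg ↦ ?_⟩
  · rw [map_map_tower']
    have h := hC.1
    rw [Ideal.map_map] at h
    have hh : (algebraMap S C).comp (algebraMap A S) = algebraMap A C := RingHom.ext fun a ↦ by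
      rw [RingHom.comp_apply, IsScalarTower.algebraMap_apply A B S, ← IsScalarTower.algebraMap_apply B S C,
        ← IsScalarTower.algebraMap_apply A B C]
    rwa [hh] at h
  rw [Ideal.map_map] at hg
  let g₀ : E →+* C' := g.comp (algebraMap E T)
  have hg₀ : (I.map (algebraMap A E)).map g₀ ≤ L := by
    rw [Ideal.map_map, RingHom.comp_assoc, ← IsScalarTower.algebraMap_eq]; exact hg
  obtain ⟨b, hb, hbu⟩ := hBE.2 C' L g₀ hC' hg₀
  let ξ : Fin n → C' := fun i ↦ g (Ideal.Quotient.mk K (X i))
  have hev : (eval₂Hom b ξ).comp (map (algebraMap E B)) = g.comp (Ideal.Quotient.mk K) := by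
    refine MvPolynomial.ringHom_ext (fun r ↦ ?_) (fun i ↦ ?_)
    · rw [RingHom.comp_apply, map_C, eval₂Hom_C, ← RingHom.comp_apply b, hb]; rfl
    · rw [RingHom.comp_apply, map_X, eval₂Hom_X']; rfl
  let σ : S →+* C' := RingHom.liftOfSurjective π.toRingHom hπ ⟨eval₂Hom b ξ, by
    rw [← hG]
    refine Ideal.span_le.mpr fun x hx ↦ ?_
    change eval₂Hom b ξ x = 0
    have h1 := congrArg (eval₂Hom b ξ) (hlift ⟨x, hx⟩)
    rw [← RingHom.comp_apply, hev, RingHom.comp_apply,
      (Ideal.Quotient.eq_zero_iff_mem.mpr (Ideal.subset_span ⟨⟨x, hx⟩, rfl⟩) :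
        Ideal.Quotient.mk K (lift' ⟨x, hx⟩) = 0), map_zero] at h1
    exact h1.symm⟩
  have hσ : ∀ x, σ (π x) = eval₂Hom b ξ x := fun x ↦ RingHom.liftOfRightInverse_comp_apply _ _ _ _ x
  have hσB : ∀ y, σ (algebraMap B S y) = b y := fun y ↦ by
    rw [← π.commutes, hσ, algebraMap_eq, eval₂Hom_C]
  have hσI : (I.map (algebraMap A S)).map σ ≤ L := by
    rw [Ideal.map_map]
    refine le_trans (le_of_eq ?_) hg₀
    rw [Ideal.map_map]
    congr 1
    ext a
    rw [RingHom.comp_apply, IsScalarTower.algebraMap_apply A B S, hσB, IsScalarTower.algebraMap_apply A E B,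
      ← RingHom.comp_apply b, hb]
    rfl
  obtain ⟨G', hG', hGu⟩ := hC.2 C' L σ hC' hσI
  refine ⟨G', Ideal.Quotient.ringHom_ext (RingHom.ext fun x ↦ ?_), fun h hh ↦ hGu h ?_⟩
  · change G' (algebraMap S C (π (map (algebraMap E B) x))) = g (Ideal.Quotient.mk K x)
    rw [← RingHom.comp_apply, hG', hσ, ← RingHom.comp_apply, hev]; rfl
  · have hb' : (h.comp (algebraMap B C)) = b := hbu _ (RingHom.ext fun r ↦ by
      change h (algebraMap B C (algebraMap E B r)) = g (Ideal.Quotient.mk K (MvPolynomial.C r))
      rw [← hh]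
      change _ = h (algebraMap S C (π (map (algebraMap E B) (MvPolynomial.C r))))
      rw [map_C, ← algebraMap_eq, π.commutes, ← IsScalarTower.algebraMap_apply B S C])
    have hx : (h.comp (algebraMap S C)).comp π.toRingHom = eval₂Hom b ξ := by
      refine MvPolynomial.ringHom_ext (fun r ↦ ?_) (fun i ↦ ?_)
      · rw [eval₂Hom_C, ← hb']
        change h (algebraMap S C (π (MvPolynomial.C r))) = _
        rw [← algebraMap_eq, π.commutes, ← IsScalarTower.algebraMap_apply B S C]; rfl
      · rw [eval₂Hom_X']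
        change h (algebraMap S C (π (X i))) = g (Ideal.Quotient.mk K (X i))
        rw [← hh]
        change _ = h (algebraMap S C (π (map (algebraMap E B) (X i))))
        rw [map_X]
    refine RingHom.ext fun y ↦ ?_
    obtain ⟨x, rfl⟩ := hπ y
    rw [hσ, ← hx]; rfl

end Groth.Agent.Hensel
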