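import Groth.Agent.Hensel.HfpPresent
import Groth.Agent.Hensel.DirectLim
import Mathlib.Algebra.MvPolynomial.Rename

/-!
# An algebra whose `Hom` commutes with filtered colimits of henselian pairs is henselian f.p.
-/

set_option autoImplicit false

universe u

namespace Groth.Agent.Hensel

open MvPolynomial

variable (A : Type u) [CommRing A] (I : Ideal A) (B : Type u) [CommRing B] [Algebra A B]

/-- Finitely many elements of `B` with finitely many relations among them. -/
structure FinData : Type u where
  s : Finset B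
  r : Finset (MvPolynomial B A)
  supp : ∀ p ∈ r, ∃ q : MvPolynomial s A, rename Subtype.val q = p
  vanish : ∀ p ∈ r, aeval (id : B → B) p = 0

variable {A I B}

instance : Preorder (FinData A B) where
  le a b := a.s ⊆ b.s ∧ a.r ⊆ b.r
  le_refl a := ⟨subset_rfl, subset_rfl⟩
  le_trans a b c h h' := ⟨h.1.trans h'.1, h.2.trans h'.2⟩

namespace FinData

open scoped Classical in
theorem exists_mk (s : Finset B) (r : Finset (MvPolynomial B A))
    (hs : ∀ p ∈ r, ∃ q : MvPolynomial s A, rename Subtype.val q = p)
    (hv : ∀ p ∈ r, aeval (id : B → B) p = 0) : ∃ a : FinData A B, a.s = s ∧ a.r = r :=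
  ⟨⟨s, r, hs, hv⟩, rfl, rfl⟩

theorem supp_mono {s t : Finset B} (h : s ⊆ t) {p : MvPolynomial B A}
    (hp : ∃ q : MvPolynomial s A, rename Subtype.val q = p) :
    ∃ q : MvPolynomial t A, rename Subtype.val q = p := by
  obtain ⟨q, rfl⟩ := hp
  exact ⟨rename (fun x : s ↦ (⟨x.1, h x.2⟩ : t)) q, by rw [rename_rename]; rfl⟩

instance : IsDirectedOrder (FinData A B) := by
  classical
  refine ⟨fun a b ↦ ⟨⟨a.s ∪ b.s, a.r ∪ b.r, fun p hp ↦ ?_, fun p hp ↦ ?_⟩,
    ⟨Finset.subset_union_left, Finset.subset_union_left⟩, ⟨Finset.subset_union_right, Finset.subset_union_right⟩⟩⟩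
  · rcases Finset.mem_union.mp hp with hp | hp
    · exact supp_mono Finset.subset_union_left (a.supp p hp)
    · exact supp_mono Finset.subset_union_right (b.supp p hp)
  · rcases Finset.mem_union.mp hp with hp | hp
    · exact a.vanish p hp
    · exact b.vanish p hp

instance : Nonempty (FinData A B) := ⟨⟨∅, ∅, by simp, by simp⟩⟩

variable (a : FinData A B)

/-- Restriction of a relation to the variables. -/
noncomputable def res : MvPolynomial B A →ₐ[A] MvPolynomial a.s A :=
  killCompl (f := (Subtype.val : a.s → B)) Subtype.val_injective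

theorem rename_res {p : MvPolynomial B A} (hp : p ∈ a.r) : rename Subtype.val (a.res p) = p := by
  obtain ⟨q, rfl⟩ := a.supp p hp
  rw [res, killCompl_rename_app]

/-- The relations. -/
noncomputable def rel : Ideal (MvPolynomial a.s A) := Ideal.span (a.res '' (a.r : Set (MvPolynomial B A)))

/-- The finitely presented algebra. -/
abbrev ring : Type u := MvPolynomial a.s A ⧸ a.rel

instance : Algebra.FinitePresentation A a.ring :=
  Algebra.FinitePresentation.quotient (Submodule.fg_span ((Finset.finite_toSet _).image _))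

/-- Evaluation in `B`. -/
noncomputable def toB : a.ring →ₐ[A] B :=
  Ideal.Quotient.liftₐ a.rel (aeval Subtype.val) fun x hx ↦ by
    refine (Ideal.span_le.mpr ?_ : a.rel ≤ RingHom.ker (aeval (R := A) (Subtype.val : a.s → B)).toRingHom) hx
    rintro _ ⟨p, hp, rfl⟩
    change aeval (Subtype.val : a.s → B) (a.res p) = 0
    rw [show (Subtype.val : a.s → B) = id ∘ Subtype.val from rfl, ← aeval_rename, a.rename_res hp]
    exact a.vanish p hp

theorem toB_mk (p : MvPolynomial a.s A) : a.toB (Ideal.Quotient.mk _ p) = aeval Subtype.val p := rfl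

variable {a} in
/-- Transition maps. -/
noncomputable def map {b : FinData A B} (h : a ≤ b) : a.ring →ₐ[A] b.ring :=
  Ideal.quotientMapₐ b.rel (rename fun x : a.s ↦ (⟨x.1, h.1 x.2⟩ : b.s)) <| by
    refine Ideal.span_le.mpr ?_
    rintro _ ⟨p, hp, rfl⟩
    refine Ideal.subset_span ⟨p, h.2 hp, rename_injective (Subtype.val : b.s → B) Subtype.val_injective ?_⟩
    rw [b.rename_res (h.2 hp), rename_rename]
    exact (a.rename_res hp).symm

theorem algHom_ext {C : Type*} [CommRing C] [Algebra A C] {f g : a.ring →ₐ[A] C}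
    (h : ∀ x : a.s, f (Ideal.Quotient.mk _ (X x)) = g (Ideal.Quotient.mk _ (X x))) : f = g :=
  Ideal.Quotient.algHom_ext A (MvPolynomial.algHom_ext h)

variable (I)

/-- The henselized algebra. -/
abbrev hens : Type u := Hens a.ring (a.ring ⧸ I.map (algebraMap A a.ring))

theorem isPair : Hens2.IsPairHenselization a.ring (I.map (algebraMap A a.ring)) (a.hens I) :=
  isPairHenselization_hens _ _

end FinData

open FinData in
theorem exists_hfp_of_algHom_directLimit_surjective [HenselianRing B (I.map (algebraMap A B))]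
    (h : ∀ (κ : Type u) [Preorder κ] [IsDirectedOrder κ] [Nonempty κ]
      (Ra : κ → Type u) [∀ a, CommRing (Ra a)] [∀ a, Algebra A (Ra a)]
      [∀ a, HenselianRing (Ra a) (I.map (algebraMap A (Ra a)))]
      (t : ∀ a b : κ, a ≤ b → (Ra a →+* Ra b)) [DirectedSystem Ra (fun a b hab => t a b hab)],
      (∀ (a b : κ) (hab : a ≤ b), (t a b hab).comp (algebraMap A (Ra a)) = algebraMap A (Ra b)) →
      ∀ [Algebra A (DirectLimit Ra t)],
      (∀ (a : κ) (x : A), algebraMap A (DirectLimit Ra t) x =
        DirectLimit.Ring.of Ra t a (algebraMap A (Ra a) x)) →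
      ∀ χ : B →ₐ[A] DirectLimit Ra t, ∃ (a : κ) (φ : B →ₐ[A] Ra a),
          ∀ x : B, DirectLimit.Ring.of Ra t a (φ x) = χ x) :
    ∃ (R : Type u) (_ : CommRing R) (_ : Algebra A R) (_ : Algebra R B) (_ : IsScalarTower A R B),
      Algebra.FinitePresentation A R ∧ Hens2.IsPairHenselization R (I.map (algebraMap A R)) B := by
  classical
  let alg : ∀ a : FinData A B, Algebra A (a.hens I) := fun a ↦
    ((algebraMap a.ring (a.hens I)).comp (algebraMap A a.ring)).toAlgebra
  have tow : ∀ a : FinData A B, IsScalarTower A a.ring (a.hens I) := fun a ↦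
    IsScalarTower.of_algebraMap_eq (R := A) (S := a.ring) (A := a.hens I) fun _ ↦ rfl
  have hen : ∀ a : FinData A B, HenselianRing (a.hens I) (I.map (algebraMap A (a.hens I))) := fun a ↦
    henselianRing_of_pair (a.isPair I)
  choose Φ hΦ _ using fun a : FinData A B ↦ existsUnique_algHom_extend (a.isPair I) a.toB
  choose T hT _ using fun (a b : FinData A B) (hab : a ≤ b) ↦
    existsUnique_algHom_extend (a.isPair I) ((IsScalarTower.toAlgHom A b.ring (b.hens I)).comp (FinData.map hab))
  have hTX : ∀ a b (hab : a ≤ b) (p : MvPolynomial a.s A),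
      T a b hab (algebraMap a.ring _ (Ideal.Quotient.mk _ p)) = algebraMap b.ring (b.hens I)
        (Ideal.Quotient.mk _ (rename (fun x : a.s ↦ (⟨x.1, hab.1 x.2⟩ : b.s)) p)) := fun a b hab p ↦
    DFunLike.congr_fun (hT a b hab) _
  have hΦX : ∀ (a : FinData A B) (p : MvPolynomial a.s A),
      Φ a (algebraMap a.ring _ (Ideal.Quotient.mk _ p)) = aeval (Subtype.val : a.s → B) p := fun a p ↦
    DFunLike.congr_fun (hΦ a) _
  let t : ∀ a b : FinData A B, a ≤ b → (a.hens I →+* b.hens I) := fun a b hab ↦ (T a b hab).toRingHom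
  have : DirectedSystem (fun a : FinData A B ↦ a.hens I) (fun a b hab => t a b hab) := by
    refine ⟨fun a x ↦ ?_, fun c b a hab hbc x ↦ ?_⟩
    · refine DFunLike.congr_fun (algHom_ext_pair (a.isPair I) (T a a le_rfl) (AlgHom.id A _) fun r ↦ ?_) x
      obtain ⟨p, rfl⟩ := Ideal.Quotient.mk_surjective r
      rw [hTX, AlgHom.id_apply]
      congr 2
      exact rename_id_apply p
    · refine (DFunLike.congr_fun (algHom_ext_pair (a.isPair I) (T a _ (hbc.trans' hab))
        ((T _ _ hbc).comp (T _ _ hab)) fun r ↦ ?_) x).symm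
      obtain ⟨p, rfl⟩ := Ideal.Quotient.mk_surjective r
      rw [AlgHom.comp_apply, hTX, hTX, hTX, rename_rename]
      rfl
  have hΦt : ∀ a b (hab : a ≤ b) (x : a.hens I), Φ b (T a b hab x) = Φ a x := fun a b hab x ↦ by
    refine DFunLike.congr_fun (algHom_ext_pair (a.isPair I) ((Φ b).comp (T a b hab)) (Φ a) fun r ↦ ?_) x
    obtain ⟨p, rfl⟩ := Ideal.Quotient.mk_surjective r
    rw [AlgHom.comp_apply, hTX, hΦX, hΦX, aeval_rename]
    rfl
  let a₀ : FinData A B := Classical.arbitrary _
  let L := DirectLimit (fun a : FinData A B ↦ a.hens I) t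
  let : Algebra A L := ((DirectLimit.Ring.of _ t a₀).comp (algebraMap A (a₀.hens I))).toAlgebra
  have halg : ∀ (a : FinData A B) (x : A),
      algebraMap A L x = DirectLimit.Ring.of _ t a (algebraMap A (a.hens I) x) := fun a x ↦ by
    obtain ⟨b, h1, h2⟩ := exists_ge_ge a₀ a
    change DirectLimit.Ring.of _ t a₀ (algebraMap A (a₀.hens I) x) = _
    rw [← of_map t h1, ← of_map t h2]
    exact congrArg _ (((T a₀ b h1).commutes x).trans ((T a b h2).commutes x).symm)
  let Ψ : L →+* B := DirectLimit.Ring.lift _ t B (fun a ↦ (Φ a).toRingHom) hΦt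
  have hΨ : Function.Bijective Ψ := by
    refine ⟨(injective_iff_map_eq_zero Ψ).mpr fun z hz ↦ ?_, fun y ↦ ?_⟩
    · obtain ⟨a, x, rfl⟩ := exists_of t z
      have hx : Φ a x = 0 := hz
      obtain ⟨E, _, _, _, _, hE, hEt, e, he⟩ := exists_nbhd_range (a.isPair I) (fun _ : Unit ↦ x)
      let : Algebra A E := ((algebraMap a.ring E).comp (algebraMap A a.ring)).toAlgebra
      have : IsScalarTower A a.ring E := IsScalarTower.of_algebraMap_eq (R := A) (S := a.ring) (A := E) fun _ ↦ rfl
      have : IsScalarTower A E (a.hens I) := .of_algebraMap_eq fun r ↦ by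
        rw [IsScalarTower.algebraMap_apply A a.ring (a.hens I), IsScalarTower.algebraMap_apply a.ring E (a.hens I)]; rfl
      have : Algebra.FinitePresentation A E := Algebra.FinitePresentation.trans A a.ring E
      obtain ⟨m, π, hπ, hker⟩ := Algebra.FinitePresentation.out (R := A) (A := E)
      obtain ⟨S, hS⟩ := hker
      let ξ : E →ₐ[A] B := (Φ a).comp (IsScalarTower.toAlgHom A E (a.hens I))
      let y : Fin m → B := fun j ↦ ξ (π (X j))
      let s' : Finset B := a.s ∪ Finset.univ.image y
      let j' : Fin m → s' := fun j ↦ ⟨y j, Finset.mem_union_right _ (Finset.mem_image_of_mem y (Finset.mem_univ j))⟩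
      let i' : a.s → s' := fun w ↦ ⟨w.1, Finset.mem_union_left _ w.2⟩
      obtain ⟨p₀, hp₀⟩ := hπ (e ())
      choose q hq using fun w : a.s ↦ hπ (algebraMap a.ring E (Ideal.Quotient.mk _ (X w)))
      let r' : Finset (MvPolynomial s' A) := S.image (rename j') ∪ {rename j' p₀} ∪
        Finset.univ.image (fun w : a.s ↦ X (i' w) - rename j' (q w))
      have haev : ∀ p, aeval y p = ξ (π p) := fun p ↦
        DFunLike.congr_fun (show aeval y = ξ.comp π from MvPolynomial.algHom_ext fun j ↦ by simp [y]) p
      have hval : ∀ p, aeval (Subtype.val : s' → B) (rename j' p) = ξ (π p) := fun p ↦ by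
        rw [aeval_rename]; exact haev p
      have hr' : ∀ p ∈ r', aeval (Subtype.val : s' → B) p = 0 := by
        intro p hp
        simp only [r', Finset.mem_union, Finset.mem_image, Finset.mem_singleton] at hp
        rcases hp with (⟨g, hg, rfl⟩ | rfl) | ⟨w, -, rfl⟩
        · rw [hval, show π g = 0 from (hS ▸ Ideal.subset_span hg : g ∈ RingHom.ker π.toRingHom), map_zero]
        · rw [hval, hp₀]
          change Φ a (algebraMap E (a.hens I) (e ())) = 0
          rw [he]; exact hx
        · rw [map_sub, aeval_X, hval, hq]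
          change _ - Φ a (algebraMap E (a.hens I) _) = 0
          rw [← IsScalarTower.algebraMap_apply, hΦX, aeval_X, sub_self]
      let b : FinData A B :=
        { s := s'
          r := a.r ∪ r'.image (rename Subtype.val)
          supp := fun p hp ↦ by
            rcases Finset.mem_union.mp hp with hp | hp
            · exact supp_mono Finset.subset_union_left (a.supp p hp)
            · obtain ⟨p, -, rfl⟩ := Finset.mem_image.mp hp
              exact ⟨p, rfl⟩
          vanish := fun p hp ↦ by
            rcases Finset.mem_union.mp hp with hp | hp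
            · exact a.vanish p hp
            · obtain ⟨p, hp', rfl⟩ := Finset.mem_image.mp hp
              rw [aeval_rename]
              exact hr' p hp' }
      have hab : a ≤ b := ⟨Finset.subset_union_left, Finset.subset_union_left⟩
      have hrel : ∀ p ∈ r', (Ideal.Quotient.mk b.rel p : b.ring) = 0 := fun p hp ↦ by
        refine Ideal.Quotient.eq_zero_iff_mem.mpr (Ideal.subset_span ⟨rename Subtype.val p,
          Finset.mem_union_right _ (Finset.mem_image_of_mem _ hp), ?_⟩)
        exact killCompl_rename_app _ p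
      let η₀ : MvPolynomial (Fin m) A →ₐ[A] b.ring := (Ideal.Quotient.mkₐ A b.rel).comp (rename j')
      have hη₀ : RingHom.ker π.toRingHom ≤ RingHom.ker η₀.toRingHom := by
        rw [← hS]
        exact Ideal.span_le.mpr fun g hg ↦ hrel _ (Finset.mem_union_left _ (Finset.mem_union_left _
          (Finset.mem_image_of_mem _ hg)))
      let η : E →+* b.ring := RingHom.liftOfSurjective π.toRingHom hπ ⟨η₀.toRingHom, hη₀⟩
      have hη : ∀ p, η (π p) = η₀ p := fun p ↦ RingHom.liftOfRightInverse_comp_apply _ _ _ _ p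
      let v : E →ₐ[A] b.hens I :=
        { toRingHom := (algebraMap b.ring (b.hens I)).comp η
          commutes' := fun r ↦ by
            change algebraMap b.ring _ (η (algebraMap A E r)) = _
            rw [← π.commutes, hη, AlgHom.commutes, ← IsScalarTower.algebraMap_apply] }
      let w₀ : E →ₐ[A] b.hens I := (T a b hab).comp (IsScalarTower.toAlgHom A E (a.hens I))
      have hagree : v.comp (IsScalarTower.toAlgHom A a.ring E) = w₀.comp (IsScalarTower.toAlgHom A a.ring E) := by
        refine a.algHom_ext fun w ↦ ?_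
        change algebraMap b.ring _ (η (algebraMap a.ring E (Ideal.Quotient.mk _ (X w)))) =
          T a b hab (algebraMap E (a.hens I) (algebraMap a.ring E (Ideal.Quotient.mk _ (X w))))
        rw [← IsScalarTower.algebraMap_apply, hTX, ← hq, hη, rename_X]
        congr 1
        refine (Ideal.Quotient.eq.mpr ?_).symm
        exact Ideal.Quotient.eq_zero_iff_mem.mp (hrel _ (Finset.mem_union_right _
          (Finset.mem_image_of_mem _ (Finset.mem_univ w))))
      let : Algebra a.ring (b.hens I) := (v.comp (IsScalarTower.toAlgHom A a.ring E)).toRingHom.toAlgebra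
      let v' : E →ₐ[a.ring] b.hens I := { toRingHom := v.toRingHom, commutes' := fun r ↦ rfl }
      let w' : E →ₐ[a.ring] b.hens I :=
        { toRingHom := w₀.toRingHom, commutes' := fun r ↦ (DFunLike.congr_fun hagree r).symm }
      have hj : (I.map (algebraMap A a.ring)).map (algebraMap a.ring (b.hens I)) ≤ Ideal.jacobson ⊥ := by
        refine le_trans (le_of_eq ?_) (hen b).jac
        rw [Ideal.map_map]
        congr 1
        exact (v.comp (IsScalarTower.toAlgHom A a.ring E)).comp_algebraMap
      have key := DFunLike.congr_fun (hEt.algHom_ext hj v' w') (e ())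
      rw [← of_map t hab, show t a b hab x = w₀ (e ()) from congrArg (T a b hab) (he ()).symm,
        ← show v (e ()) = w₀ (e ()) from key, ← hp₀]
      change DirectLimit.Ring.of _ t b (algebraMap b.ring _ (η (π p₀))) = 0
      rw [hη, show η₀ p₀ = 0 from hrel _ (Finset.mem_union_left _ (Finset.mem_union_right _
        (Finset.mem_singleton_self _))), map_zero, map_zero]
    · obtain ⟨a, ha, -⟩ := exists_mk ({y} : Finset B) (∅ : Finset (MvPolynomial B A)) (by simp) (by simp)
      let w : a.s := ⟨y, by simp [ha]⟩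
      exact ⟨DirectLimit.Ring.of _ t a (algebraMap a.ring _ (Ideal.Quotient.mk _ (X w))),
        (hΦX a (X w)).trans (aeval_X _ w)⟩
  let eΨ := RingEquiv.ofBijective Ψ hΨ
  let χ : B →ₐ[A] L :=
    { toRingHom := eΨ.symm.toRingHom
      commutes' := fun r ↦ eΨ.injective (by
        change eΨ (eΨ.symm _) = _
        rw [RingEquiv.apply_symm_apply, halg a₀]
        exact ((Φ a₀).commutes r).symm) }
  obtain ⟨a, φ, hφ⟩ := h _ (fun a : FinData A B ↦ a.hens I) t
    (fun a b hab ↦ (T a b hab).comp_algebraMap) halg χ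
  have hsec : ∀ y, Φ a (φ y) = y := fun y ↦ by
    have h1 : Ψ (DirectLimit.Ring.of _ t a (φ y)) = Ψ (χ y) := congrArg Ψ (hφ y)
    exact h1.trans (eΨ.apply_symm_apply y)
  let ε : a.hens I →ₐ[A] a.hens I := φ.comp (Φ a)
  let g : a.s → a.hens I := fun w ↦ algebraMap a.ring _ (Ideal.Quotient.mk _ (X w))
  let K : Ideal (a.hens I) := Ideal.span (Set.range fun w ↦ ε (g w) - g w)
  have hker : RingHom.ker (Φ a) = K := by
    refine le_antisymm (fun x hx ↦ ?_) (Ideal.span_le.mpr ?_)
    · have : HenselianRing (a.hens I ⧸ K) (I.map (algebraMap A (a.hens I ⧸ K))) := by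
        have := henselianRing_quotient (I := I.map (algebraMap A (a.hens I))) K
        rwa [← Ideal.Quotient.algebraMap_eq, Ideal.map_map, ← IsScalarTower.algebraMap_eq] at this
      have h1 := algHom_ext_pair (a.isPair I) ((Ideal.Quotient.mkₐ A K).comp ε) (Ideal.Quotient.mkₐ A K)
        (DFunLike.congr_fun (a.algHom_ext
          (f := ((Ideal.Quotient.mkₐ A K).comp ε).comp (IsScalarTower.toAlgHom A a.ring (a.hens I)))
          (g := (Ideal.Quotient.mkₐ A K).comp (IsScalarTower.toAlgHom A a.ring (a.hens I)))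
          fun w ↦ Ideal.Quotient.eq.mpr (Ideal.subset_span ⟨w, rfl⟩)))
      have h2 := DFunLike.congr_fun h1 x
      change Ideal.Quotient.mk K (φ (Φ a x)) = Ideal.Quotient.mk K x at h2
      rw [show Φ a x = 0 from hx, map_zero, map_zero, eq_comm] at h2
      exact Ideal.Quotient.eq_zero_iff_mem.mp h2
    · rintro _ ⟨w, rfl⟩
      change Φ a (φ (Φ a (g w)) - g w) = 0
      rw [map_sub, hsec, sub_self]
  exact hfp_quotient (a.isPair I) (Φ a) (fun y ↦ ⟨φ y, hsec y⟩)
    (hker ▸ Submodule.fg_span (Set.finite_range _))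

end Groth.Agent.Hensel
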