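import Groth.Agent.Hensel.Hfp

/-!
# Henselian finitely presented algebras which are finite modulo `I`
-/

set_option autoImplicit false

universe u

namespace Groth.Agent.Hensel

variable {R : Type u} [CommRing R] {J : Ideal R}

theorem isPairHenselization_self [HenselianRing R J] : Hens2.IsPairHenselization R J R := by
  refine ⟨by rwa [show J.map (algebraMap R R) = J from Ideal.map_id J], fun C _ L f _ _ ↦ ⟨f, rfl, fun g hg ↦ ?_⟩⟩
  rw [← hg]; rfl

theorem finite_and_finitePresentation_of_pair {A B : Type u} [CommRing A] {I : Ideal A} [HenselianRing A I]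
    [Algebra A R] [Algebra.FinitePresentation A R] [CommRing B] [Algebra R B] [Algebra A B] [IsScalarTower A R B]
    (hB : Hens2.IsPairHenselization R (I.map (algebraMap A R)) B)
    (hfin : (Ideal.quotientMap (I.map (algebraMap A B)) (algebraMap A B) Ideal.le_comap_map).Finite) :
    Module.Finite A B ∧ Algebra.FinitePresentation A B := by
  have hH := henselianRing_of_pair hB
  obtain ⟨e⟩ := nonempty_quotientEquiv_pair (A := A) (I := I) hB 1
  rw [pow_one] at e
  have hBA : Module.Finite A (B ⧸ I.map (algebraMap A B)) := RingHom.finite_algebraMap.mp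
    ((hfin.comp (RingHom.Finite.of_surjective (Ideal.Quotient.mk I) Ideal.Quotient.mk_surjective)) :)
  have : Module.Finite A (R ⧸ I.map (algebraMap A R)) := Module.Finite.equiv (e.restrictScalars A).symm.toLinearEquiv
  obtain ⟨ε, hε, hεI, hfinε⟩ := exists_idem_split_pair (E := R) I
  let R' := R ⧸ Ideal.span ({1 - ε} : Set R)
  have h0 : algebraMap R B (1 - ε) = 0 := by
    refine eq_zero_of_mul_self_eq_of_mem_jacobson ?_ (hH.jac ?_)
    · rw [← map_mul, hε.one_sub.eq]
    · rw [← map_map_tower' (R := R)]
      exact Ideal.mem_map_of_mem _ hεI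
  let γ : R' →ₐ[R] B := Ideal.Quotient.liftₐ _ (Algebra.ofId R B) fun x hx ↦ by
    obtain ⟨c, rfl⟩ := Ideal.mem_span_singleton.mp hx
    simp [Algebra.ofId_apply, h0]
  let := γ.toRingHom.toAlgebra
  have : IsScalarTower R R' B := .of_algebraMap_eq fun r ↦ (γ.commutes r).symm
  have : IsScalarTower A R' B := .of_algebraMap_eq fun a ↦ by
    rw [IsScalarTower.algebraMap_apply A R B, IsScalarTower.algebraMap_apply A R R']
    exact (γ.commutes _).symm
  have hB' : Hens2.IsPairHenselization R' ((I.map (algebraMap A R)).map (algebraMap R R')) B :=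
    isPairHenselization_of_surjective hB R' Ideal.Quotient.mk_surjective B (AlgHom.id R B)
      Function.surjective_id (fun x hx ↦ by
        have : x = 0 := hx
        simp [this])
  rw [map_map_tower' (A := A)] at hB'
  have : Module.Finite A R' := hfinε
  have : HenselianRing R' (I.map (algebraMap A R')) := henselianRing_of_isIntegral R'
  obtain ⟨e'⟩ := exists_algEquiv_of_isPairHenselization isPairHenselization_self hB'
  have : Algebra.FinitePresentation A R' :=
    Algebra.FinitePresentation.quotient (Submodule.fg_span_singleton (1 - ε))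
  exact ⟨Module.Finite.equiv (e'.restrictScalars A).toLinearEquiv,
    Algebra.FinitePresentation.equiv (e'.restrictScalars A)⟩

theorem surjective_of_pair {A B : Type u} [CommRing A] {I : Ideal A} [HenselianRing A I]
    [Algebra A R] [Algebra.FinitePresentation A R] [CommRing B] [Algebra R B] [Algebra A B] [IsScalarTower A R B]
    (hB : Hens2.IsPairHenselization R (I.map (algebraMap A R)) B)
    (hsurj : Function.Surjective
      (Ideal.quotientMap (I.map (algebraMap A B)) (algebraMap A B) Ideal.le_comap_map)) :
    Function.Surjective (algebraMap A B) := by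
  have := (finite_and_finitePresentation_of_pair hB (RingHom.Finite.of_surjective _ hsurj)).1
  have htop : LinearMap.range (Algebra.linearMap A B) = ⊤ := by
    refine top_unique (Submodule.le_of_le_smul_of_le_jacobson_bot (I := I) Module.Finite.fg_top
      (HenselianRing.jac) fun b _ ↦ ?_)
    obtain ⟨x, hx⟩ := hsurj (Ideal.Quotient.mk _ b)
    obtain ⟨a, rfl⟩ := Ideal.Quotient.mk_surjective x
    rw [Ideal.quotientMap_mk, eq_comm, Ideal.Quotient.eq] at hx
    refine Submodule.mem_sup.mpr ⟨algebraMap A B a, ⟨a, rfl⟩, b - algebraMap A B a, ?_, add_sub_cancel _ _⟩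
    rw [Ideal.smul_top_eq_map]
    exact hx
  exact LinearMap.range_eq_top.mp htop

end Groth.Agent.Hensel
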