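import Groth.Agent.Hensel.HfpPresent
import Groth.Agent.Hensel.HfpFinite
import Groth.Agent.AlgSpc.EtLift
import Mathlib.RingTheory.Flat.EquationalCriterion

/-!
# Henselian finitely presented algebras with étale truncations
-/

set_option autoImplicit false

universe u

namespace Groth.Agent.Hensel

variable {A : Type u} [CommRing A] {I : Ideal A}

theorem exists_etale_surjection [HenselianRing A I] {R₀ B : Type u} [CommRing R₀] [Algebra A R₀]
    [Algebra.FinitePresentation A R₀] [CommRing B] [Algebra R₀ B] [Algebra A B] [IsScalarTower A R₀ B]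
    (hB : Hens2.IsPairHenselization R₀ (I.map (algebraMap A R₀)) B)
    (het : ∀ r : ℕ, 1 ≤ r → Algebra.Etale (A ⧸ I ^ r) (B ⧸ (I ^ r).map (algebraMap A B))) :
    ∃ (R : Type u) (_ : CommRing R) (_ : Algebra A R) (H : Type u) (_ : CommRing H) (_ : Algebra R H)
      (_ : Algebra A H) (_ : IsScalarTower A R H),
      Algebra.Etale A R ∧ Hens2.IsPairHenselization R (I.map (algebraMap A R)) H ∧
      ∃ φ : H →ₐ[A] B, Function.Surjective φ ∧ (RingHom.ker φ).FG ∧
        ∀ n : ℕ, RingHom.ker φ ≤ (I ^ n).map (algebraMap A H) := by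
  have := henselianRing_of_pair hB
  have h1 : Algebra.Etale (A ⧸ I) (B ⧸ I.map (algebraMap A B)) := by
    have := het 1 le_rfl
    rwa [pow_one] at this
  obtain ⟨Q, _, _, σ, hQ, hσ, hσk⟩ :=
    Groth.Agent.AlgSpc.exists_etale_lift A (A ⧸ I) (B ⧸ I.map (algebraMap A B)) Ideal.Quotient.mk_surjective
  rw [show RingHom.ker (algebraMap A (A ⧸ I)) = I from Ideal.mk_ker] at hσk
  obtain ⟨τ, hτ, -⟩ := exists_algHom_lift_etale (I.map (algebraMap A B)) gabberRoot_of_henselianRing Q σ
  let H := Hens Q (Q ⧸ I.map (algebraMap A Q))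
  have hH : Hens2.IsPairHenselization Q (I.map (algebraMap A Q)) H := isPairHenselization_hens _ _
  let : Algebra A H := ((algebraMap Q H).comp (algebraMap A Q)).toAlgebra
  have : IsScalarTower A Q H := .of_algebraMap_eq fun _ ↦ rfl
  obtain ⟨φ, hφ, -⟩ := existsUnique_algHom_extend hH τ
  have hφq : ∀ q, φ (algebraMap Q H q) = τ q := fun q ↦ DFunLike.congr_fun hφ q
  have : Algebra.FinitePresentation A Q := inferInstance
  let : Algebra H B := φ.toRingHom.toAlgebra
  have : IsScalarTower A H B := .of_algebraMap_eq fun a ↦ (φ.commutes a).symm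
  have hHens : HenselianRing H (I.map (algebraMap A H)) := henselianRing_of_pair hH
  obtain ⟨T, _, _, _, _, hTfp, hBT⟩ := hfp_of_algHom (I := I) hH hB
  have hmodI : ∀ h : H, φ h ∈ I.map (algebraMap A B) → h ∈ I.map (algebraMap A H) := by
    intro h hh
    obtain ⟨q, hq⟩ := exists_sub_mem_pair (A := A) hH h
    have h2 := Ideal.mem_map_of_mem φ.toRingHom hq
    rw [Ideal.map_map, AlgHom.toRingHom_eq_coe, φ.comp_algebraMap, RingHom.coe_coe, map_sub, hφq] at h2
    have h3 : τ q ∈ I.map (algebraMap A B) := by simpa using sub_mem hh h2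
    have h4 : q ∈ RingHom.ker σ.toRingHom := by
      rw [RingHom.mem_ker]
      exact (DFunLike.congr_fun hτ q).symm.trans (Ideal.Quotient.eq_zero_iff_mem.mpr h3)
    rw [hσk] at h4
    have h5 := Ideal.mem_map_of_mem (algebraMap Q H) h4
    rw [map_map_tower'] at h5
    simpa using add_mem hq h5
  have hsurjI : Function.Surjective (Ideal.quotientMap ((I.map (algebraMap A H)).map (algebraMap H B))
      (algebraMap H B) Ideal.le_comap_map) := by
    intro y
    obtain ⟨b, rfl⟩ := Ideal.Quotient.mk_surjective y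
    obtain ⟨q, hq⟩ := hσ (Ideal.Quotient.mk _ b)
    refine ⟨Ideal.Quotient.mk _ (algebraMap Q H q), Ideal.Quotient.eq.mpr ?_⟩
    rw [map_map_tower']
    change φ (algebraMap Q H q) - b ∈ _
    rw [hφq]
    exact Ideal.Quotient.eq.mp ((DFunLike.congr_fun hτ q).trans hq)
  have hsurj : Function.Surjective φ := surjective_of_pair hBT hsurjI
  have hfp := (finite_and_finitePresentation_of_pair hBT (RingHom.Finite.of_surjective _ hsurjI)).2
  refine ⟨Q, inferInstance, inferInstance, H, inferInstance, inferInstance, inferInstance, inferInstance,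
    hQ, hH, φ, hsurj, Algebra.FinitePresentation.ker_fG_of_surjective (Algebra.ofId H B) hsurj, fun n x hx ↦ ?_⟩
  rcases n.eq_zero_or_pos with rfl | hn
  · rw [pow_zero, Ideal.one_eq_top, Ideal.map_top]; exact Submodule.mem_top
  have hBn := het n hn
  have hQn : Algebra.Etale (A ⧸ I ^ n) (Q ⧸ (I ^ n).map (algebraMap A Q)) :=
    Algebra.Etale.of_equiv (Algebra.TensorProduct.quotIdealMapEquivQuotTensor (A := A) Q (I ^ n)).symm
  obtain ⟨e⟩ := nonempty_quotientEquiv_pair (A := A) (I := I) hH n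
  have hHn : Algebra.Etale (A ⧸ I ^ n) (H ⧸ (I ^ n).map (algebraMap A H)) := Algebra.Etale.of_equiv e
  let qA : (H ⧸ (I ^ n).map (algebraMap A H)) →ₐ[A] (B ⧸ (I ^ n).map (algebraMap A B)) :=
    Ideal.quotientMapₐ _ φ (Ideal.map_le_iff_le_comap.mp (le_of_eq (by
      rw [← Ideal.map_coe φ, Ideal.map_map, φ.comp_algebraMap])))
  let q : (H ⧸ (I ^ n).map (algebraMap A H)) →ₐ[A ⧸ I ^ n] (B ⧸ (I ^ n).map (algebraMap A B)) :=
    { toRingHom := qA.toRingHom
      commutes' := fun y ↦ by
        obtain ⟨a, rfl⟩ := Ideal.Quotient.mk_surjective y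
        exact qA.commutes a }
  have hq : Function.Surjective q := fun y ↦ by
    obtain ⟨b, rfl⟩ := Ideal.Quotient.mk_surjective y
    obtain ⟨h, rfl⟩ := hsurj b
    exact ⟨Ideal.Quotient.mk _ h, rfl⟩
  have hnil : IsNilpotent (RingHom.ker q.toRingHom) := by
    refine ⟨n, le_bot_iff.mp ?_⟩
    have hle : RingHom.ker q.toRingHom ≤
        (I.map (algebraMap A H)).map (Ideal.Quotient.mk ((I ^ n).map (algebraMap A H))) := by
      intro y hy
      obtain ⟨h, rfl⟩ := Ideal.Quotient.mk_surjective y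
      refine Ideal.mem_map_of_mem _ (hmodI h ?_)
      exact Ideal.map_mono (Ideal.pow_le_self hn.ne') (Ideal.Quotient.eq_zero_iff_mem.mp hy)
    refine (pow_le_pow_left' hle n).trans ?_
    rw [← Ideal.map_pow, ← Ideal.map_pow, Ideal.map_quotient_self]
  let s := Algebra.FormallySmooth.liftOfSurjective (AlgHom.id (A ⧸ I ^ n) _) q hq hnil
  have hs : ∀ y, q (s y) = y := fun y ↦ Algebra.FormallySmooth.liftOfSurjective_apply _ q hq hnil y
  have hid : s.comp q = AlgHom.id (A ⧸ I ^ n) _ :=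
    Algebra.FormallyUnramified.ext' q.toRingHom hnil _ _ fun y ↦ hs (q y)
  have h6 : q (Ideal.Quotient.mk _ x) = 0 := by
    change Ideal.Quotient.mk _ (φ x) = 0
    rw [show φ x = 0 from hx, map_zero]
  have h7 := DFunLike.congr_fun hid (Ideal.Quotient.mk _ x)
  rw [AlgHom.comp_apply, h6, map_zero, AlgHom.id_apply] at h7
  exact Ideal.Quotient.eq_zero_iff_mem.mp h7.symm

/-- Flatness makes the kernel of a surjection `I`-divisible. -/
theorem ker_inf_le_mul_of_flat {H B : Type u} [CommRing H] [CommRing B] [Algebra A H] [Algebra A B]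
    [Module.Flat A B] (φ : H →ₐ[A] B) (hφ : Function.Surjective φ) :
    RingHom.ker φ ⊓ I.map (algebraMap A H) ≤ I.map (algebraMap A H) * RingHom.ker φ := by
  rintro x ⟨hx, hxI⟩
  obtain ⟨m, a, h, hs⟩ : ∃ (m : ℕ) (a : Fin m → I) (h : Fin m → H),
      x = ∑ i, algebraMap A H (a i : A) * h i := by
    have : x ∈ I • (⊤ : Submodule A H) := by rw [Ideal.smul_top_eq_map]; exact hxI
    clear hx hxI
    refine Submodule.smul_induction_on this (fun a ha h _ ↦ ⟨1, fun _ ↦ ⟨a, ha⟩, fun _ ↦ h, by simp [Algebra.smul_def]⟩) ?_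
    rintro - - ⟨m, a, h, rfl⟩ ⟨m', a', h', rfl⟩
    refine ⟨m + m', Fin.append a a', Fin.append h h', ?_⟩
    simp [Fin.sum_univ_add]
  have h0 : ∑ i, ((a i : A)) • φ (h i) = 0 := by
    rw [← show φ x = 0 from hx, hs, map_sum]
    refine Finset.sum_congr rfl fun i _ ↦ ?_
    rw [map_mul, φ.commutes, Algebra.smul_def]
  obtain ⟨k, c, y, hy, hc⟩ := Module.Flat.isTrivialRelation_of_sum_smul_eq_zero h0
  choose y' hy' using fun j ↦ hφ (y j)
  have key : x = ∑ i, algebraMap A H (a i : A) * (h i - ∑ j, c i j • y' j) := by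
    simp only [mul_sub, Finset.sum_sub_distrib, Finset.mul_sum]
    rw [Finset.sum_comm (f := fun i j ↦ algebraMap A H (a i : A) * (c i j • y' j))]
    have : ∀ j, ∑ i, algebraMap A H (a i : A) * (c i j • y' j) = 0 := fun j ↦ by
      simp only [Algebra.smul_def, ← mul_assoc, ← map_mul, ← Finset.sum_mul, ← map_sum]
      rw [hc j, map_zero, zero_mul]
    rw [Finset.sum_eq_zero (fun j _ ↦ this j), sub_zero, hs]
  rw [key]
  refine Ideal.sum_mem _ fun i _ ↦ Ideal.mul_mem_mul (Ideal.mem_map_of_mem _ (a i).2) ?_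
  rw [RingHom.mem_ker, map_sub, map_sum, sub_eq_zero]
  simp only [map_smul, hy']
  exact hy i

end Groth.Agent.Hensel
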