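import Groth.Agent.Hensel.Hfp
import Groth.Agent.Unram.Descent
import Groth.Agent.FlatLocus.Model
import Mathlib.RingTheory.Smooth.Fiber
import Mathlib.RingTheory.Smooth.Locus

/-!
# Flat henselian finitely presented algebras
-/

set_option autoImplicit false

universe u

namespace Groth.Agent.Hensel

open TensorProduct

variable {R : Type u} [CommRing R] {J : Ideal R} {B : Type u} [CommRing B] [Algebra R B]

/-- Inverting an element congruent to `1` does not change the henselization. -/
theorem exists_algebra_away (hB : Hens2.IsPairHenselization R J B) (f : R) (hf : f - 1 ∈ J) :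
    ∃ (_ : Algebra (Localization.Away f) B), IsScalarTower R (Localization.Away f) B ∧
      Hens2.IsPairHenselization (Localization.Away f) (J.map (algebraMap R (Localization.Away f))) B := by
  have hu : IsUnit (algebraMap R B f) := by
    refine isUnit_of_sub_one_mem hB.1.jac ?_
    rw [← map_one (algebraMap R B), ← map_sub]
    exact Ideal.mem_map_of_mem _ hf
  let φ : Localization.Away f →+* B := IsLocalization.Away.lift f hu
  let : Algebra (Localization.Away f) B := φ.toAlgebra
  have : IsScalarTower R (Localization.Away f) B := .of_algebraMap_eq fun r ↦ (IsLocalization.Away.lift_eq f hu r).symm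
  refine ⟨inferInstance, inferInstance, ⟨?_, fun C _ L g hC hg ↦ ?_⟩⟩
  · rw [map_map_tower']; exact hB.1
  rw [Ideal.map_map] at hg
  obtain ⟨G, hG, hu'⟩ := hB.2 C L (g.comp (algebraMap R (Localization.Away f))) hC hg
  refine ⟨G, IsLocalization.ringHom_ext (Submonoid.powers f) ?_, fun G' hG' ↦ hu' G' ?_⟩
  · rw [RingHom.comp_assoc, ← IsScalarTower.algebraMap_eq]; exact hG
  · change G'.comp (algebraMap R B) = _
    rw [IsScalarTower.algebraMap_eq R (Localization.Away f) B, ← RingHom.comp_assoc]
    exact congrArg (fun t : Localization.Away f →+* C ↦ t.comp (algebraMap R (Localization.Away f))) hG'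

/-- An open set containing `V(J)` contains some `D(f)` with `f ≡ 1` modulo `J`. -/
theorem exists_basicOpen_subset_of_zeroLocus_subset (U : Set (PrimeSpectrum R)) (hU : IsOpen U)
    (hJ : PrimeSpectrum.zeroLocus (J : Set R) ⊆ U) :
    ∃ f : R, f - 1 ∈ J ∧ (PrimeSpectrum.basicOpen f : Set (PrimeSpectrum R)) ⊆ U := by
  obtain ⟨K, hK⟩ := (PrimeSpectrum.isOpen_iff U).mp hU
  have htop : J ⊔ Ideal.span K = ⊤ := by
    by_contra hne
    obtain ⟨m, hm, hle⟩ := Ideal.exists_le_maximal _ hne
    have h1 : (⟨m, hm.isPrime⟩ : PrimeSpectrum R) ∈ U :=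
      hJ ((PrimeSpectrum.mem_zeroLocus _ _).mpr (fun x hx ↦ hle (Ideal.mem_sup_left hx)))
    have h2 : (⟨m, hm.isPrime⟩ : PrimeSpectrum R) ∈ Uᶜ := by
      rw [hK]
      exact (PrimeSpectrum.mem_zeroLocus _ _).mpr (Ideal.span_le.mp (le_sup_right.trans hle))
    exact h2 h1
  obtain ⟨j, hj, f, hf, hjf⟩ := Submodule.mem_sup.mp (htop ▸ Submodule.mem_top : (1 : R) ∈ J ⊔ Ideal.span K)
  refine ⟨f, ?_, fun x hx ↦ ?_⟩
  · rw [show f - 1 = -j by rw [← hjf]; ring]
    exact neg_mem hj
  · by_contra hxU
    have : x ∈ PrimeSpectrum.zeroLocus K := hK ▸ hxU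
    exact hx (Ideal.span_le.mpr ((PrimeSpectrum.mem_zeroLocus _ _).mp this) hf)

variable {A : Type u} [CommRing A] [Algebra A R] [Algebra A B] [IsScalarTower A R B]

theorem flat_localization_of_flat_hens (hB : Hens2.IsPairHenselization R J B) [Module.Flat A B]
    (q : Ideal R) [q.IsPrime] (hq : J ≤ q) : Module.Flat A (Localization.AtPrime q) := by
  have hC : HenselianRing (R ⧸ q) (⊥ : Ideal (R ⧸ q)) :=
    henselianRing_of_locally_nilpotent fun z hz ↦ by simp [Ideal.mem_bot.mp hz]
  obtain ⟨g, hg, -⟩ := hB.2 (R ⧸ q) ⊥ (Ideal.Quotient.mk q) hC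
    (by rw [le_bot_iff, Ideal.map_eq_bot_iff_le_ker, Ideal.mk_ker]; exact hq)
  let Q := RingHom.ker g
  have : Q.IsPrime := RingHom.ker_isPrime g
  have : Q.LiesOver q := ⟨by
    rw [Ideal.under_def, RingHom.comap_ker, hg, Ideal.mk_ker]⟩
  let Rq := Localization.AtPrime q
  let BQ := Localization.AtPrime Q
  let : Algebra Rq BQ := Localization.AtPrime.algebraOfLiesOver q Q
  have : IsScalarTower R Rq BQ := inferInstance
  have : IsScalarTower A Rq BQ := .of_algebraMap_eq fun a ↦ by
    rw [IsScalarTower.algebraMap_apply A R Rq, ← IsScalarTower.algebraMap_apply R Rq BQ,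
      ← IsScalarTower.algebraMap_apply A R BQ]
  have : Module.Flat R B := pairHenselization_flat hB
  have : Module.Flat R BQ := inferInstance
  have : Module.Flat Rq BQ := (Module.flat_iff_of_isLocalization Rq q.primeCompl BQ).mpr ‹_›
  have : IsLocalHom (algebraMap Rq BQ) :=
    Localization.isLocalHom_localRingHom q Q (algebraMap R B) Ideal.LiesOver.over
  have : Module.FaithfullyFlat Rq BQ := Module.FaithfullyFlat.of_flat_of_isLocalHom
  exact Groth.Agent.Unram.flat_of_flat_faithfullyFlat Rq BQ

/-- Flat henselian finitely presented algebras have flat finitely presented models. -/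
theorem exists_flat_model [Algebra.FinitePresentation A R] {I : Ideal A}
    (hB : Hens2.IsPairHenselization R (I.map (algebraMap A R)) B) [Module.Flat A B] :
    ∃ (S : Type u) (_ : CommRing S) (_ : Algebra A S) (_ : Algebra S B) (_ : IsScalarTower A S B),
      Algebra.FinitePresentation A S ∧ Module.Flat A S ∧
      Hens2.IsPairHenselization S (I.map (algebraMap A S)) B := by
  let eq : ∀ (q : Ideal R) [q.IsPrime], LocalizedModule q.primeCompl R ≃ₗ[A] Localization.AtPrime q := fun q _ ↦
    (IsLocalizedModule.iso q.primeCompl (Algebra.linearMap R (Localization.AtPrime q))).restrictScalars A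
  let U := {q : PrimeSpectrum R | Module.Flat A (LocalizedModule q.asIdeal.primeCompl R)}
  have hU : IsOpen U := Groth.Agent.FlatLocus.isOpen_flatLocus
  have hJU : PrimeSpectrum.zeroLocus ((I.map (algebraMap A R) : Ideal R) : Set R) ⊆ U := fun q hq ↦ by
    have := flat_localization_of_flat_hens (A := A) hB q.asIdeal ((PrimeSpectrum.mem_zeroLocus _ _).mp hq)
    exact Module.Flat.of_linearEquiv (eq q.asIdeal)
  obtain ⟨f, hf, hfU⟩ := exists_basicOpen_subset_of_zeroLocus_subset U hU hJU
  obtain ⟨_, _, hBf⟩ := exists_algebra_away hB f hf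
  rw [map_map_tower'] at hBf
  let S := Localization.Away f
  have : IsScalarTower A S B := .of_algebraMap_eq fun a ↦ by
    rw [IsScalarTower.algebraMap_apply A R B, IsScalarTower.algebraMap_apply A R S,
      ← IsScalarTower.algebraMap_apply R S B]
  have : Algebra.FinitePresentation R S := IsLocalization.Away.finitePresentation f
  refine ⟨S, inferInstance, inferInstance, inferInstance, inferInstance,
    Algebra.FinitePresentation.trans A R S, ?_, hBf⟩
  refine Module.flat_of_isLocalized_maximal S S (fun P ↦ Localization.AtPrime P)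
    (fun P _ ↦ Algebra.linearMap S (Localization.AtPrime P)) fun P _ ↦ ?_
  let q := P.comap (algebraMap R S)
  have : IsLocalization.AtPrime (Localization.AtPrime P) q :=
    IsLocalization.isLocalization_isLocalization_atPrime_isLocalization (Submonoid.powers f) _ P
  have hq : (⟨q, inferInstance⟩ : PrimeSpectrum R) ∈ U := hfU fun h ↦
    (inferInstance : P.IsPrime).ne_top (P.eq_top_of_isUnit_mem h (IsLocalization.Away.algebraMap_isUnit f))
  have : Module.Flat A (LocalizedModule q.primeCompl R) := hq
  have := Module.Flat.of_linearEquiv (eq q).symm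
  exact Module.Flat.of_linearEquiv
    ((IsLocalization.algEquiv q.primeCompl (Localization.AtPrime P) (Localization.AtPrime q)).restrictScalars A).toLinearEquiv

/-- Flat henselian finitely presented algebras with smooth fibre over `A/I` have smooth models. -/
theorem exists_smooth_model [Algebra.FinitePresentation A R] {I : Ideal A}
    (hB : Hens2.IsPairHenselization R (I.map (algebraMap A R)) B) [Module.Flat A B]
    (hsm : Algebra.Smooth (A ⧸ I) (B ⧸ I.map (algebraMap A B))) :
    ∃ (S : Type u) (_ : CommRing S) (_ : Algebra A S) (_ : Algebra S B) (_ : IsScalarTower A S B),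
      Algebra.Smooth A S ∧ Hens2.IsPairHenselization S (I.map (algebraMap A S)) B := by
  obtain ⟨S, _, _, _, _, hfp, hflat, hS⟩ := exists_flat_model hB
  have : Algebra.Smooth (A ⧸ I) ((A ⧸ I) ⊗[A] S) := by
    obtain ⟨e⟩ := nonempty_quotientEquiv_pair (A := A) (I := I) hS 1
    rw [pow_one] at e
    have : Algebra.Smooth (A ⧸ I) (S ⧸ I.map (algebraMap A S)) := Algebra.Smooth.of_equiv e.symm
    exact Algebra.Smooth.of_equiv (Algebra.TensorProduct.quotIdealMapEquivQuotTensor (A := A) S I)
  have hJU : PrimeSpectrum.zeroLocus ((I.map (algebraMap A S) : Ideal S) : Set S) ⊆ Algebra.smoothLocus A S := by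
    intro q hq
    let p := q.asIdeal.comap (algebraMap A S)
    have : q.asIdeal.LiesOver p := ⟨rfl⟩
    have hIp : I ≤ p := Ideal.map_le_iff_le_comap.mp ((PrimeSpectrum.mem_zeroLocus _ _).mp hq)
    let : Algebra (A ⧸ I) p.ResidueField := (Ideal.Quotient.lift I (algebraMap A p.ResidueField) fun a ha ↦
      Ideal.algebraMap_residueField_eq_zero.mpr (hIp ha)).toAlgebra
    have : IsScalarTower A (A ⧸ I) p.ResidueField := .of_algebraMap_eq fun _ ↦ rfl
    have : Algebra.FormallySmooth p.ResidueField (p.Fiber S) :=
      Algebra.FormallySmooth.of_equiv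
        (Algebra.TensorProduct.cancelBaseChange A (A ⧸ I) p.ResidueField p.ResidueField S)
    exact Algebra.IsSmoothAt.of_formallySmooth_fiber p q.asIdeal
  obtain ⟨f, hf, hfU⟩ :=
    exists_basicOpen_subset_of_zeroLocus_subset _ (Algebra.isOpen_smoothLocus (R := A)) hJU
  obtain ⟨_, _, hBf⟩ := exists_algebra_away hS f hf
  rw [map_map_tower'] at hBf
  have : IsScalarTower A (Localization.Away f) B := .of_algebraMap_eq fun a ↦ by
    rw [IsScalarTower.algebraMap_apply A S B, IsScalarTower.algebraMap_apply A S (Localization.Away f),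
      ← IsScalarTower.algebraMap_apply S (Localization.Away f) B]
  exact ⟨Localization.Away f, inferInstance, inferInstance, inferInstance, inferInstance,
    Algebra.basicOpen_subset_smoothLocus_iff_smooth.mp hfU, hBf⟩

end Groth.Agent.Hensel
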