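import Groth.Agent.Hensel.Hfp

/-!
# Presentations of henselian finitely presented algebras
-/

set_option autoImplicit false

universe u

namespace Groth.Agent.Hensel

open TensorProduct

variable {A : Type u} [CommRing A] {I : Ideal A}

/-- A quotient of a henselian finitely presented algebra by a finitely generated ideal. -/
theorem hfp_quotient {R B : Type u} [CommRing R] [Algebra A R] [Algebra.FinitePresentation A R]
    [CommRing B] [Algebra R B] [Algebra A B] [IsScalarTower A R B]
    (hB : Hens2.IsPairHenselization R (I.map (algebraMap A R)) B)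
    {B' : Type u} [CommRing B'] [Algebra A B'] (φ : B →ₐ[A] B') (hφ : Function.Surjective φ)
    (hker : (RingHom.ker φ).FG) :
    ∃ (R' : Type u) (_ : CommRing R') (_ : Algebra A R') (_ : Algebra R' B') (_ : IsScalarTower A R' B'),
      Algebra.FinitePresentation A R' ∧ Hens2.IsPairHenselization R' (I.map (algebraMap A R')) B' := by
  classical
  obtain ⟨S, hS⟩ := hker
  obtain ⟨E, _, _, _, _, hE, hEt, e, he⟩ := exists_nbhd_range hB (fun z : (S : Set B) ↦ (z : B))
  let : Algebra A E := ((algebraMap R E).comp (algebraMap A R)).toAlgebra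
  have : IsScalarTower A R E := .of_algebraMap_eq fun _ ↦ rfl
  have : IsScalarTower A E B := .of_algebraMap_eq fun a ↦ by
    rw [IsScalarTower.algebraMap_apply A R B, IsScalarTower.algebraMap_apply R E B]; rfl
  have : Algebra.FinitePresentation A E := Algebra.FinitePresentation.trans A R E
  have hBE : Hens2.IsPairHenselization E (I.map (algebraMap A E)) B := by
    rw [← map_map_tower' (R := R)]
    exact isPairHenselization_of_nbhd hB E hEt
  let K : Ideal E := Ideal.span (Set.range e)
  let R' := E ⧸ K
  let ψ : E →ₐ[A] B' := φ.comp (IsScalarTower.toAlgHom A E B)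
  have hK : ∀ x ∈ K, ψ x = 0 := fun x hx ↦ by
    refine (Ideal.span_le.mpr ?_ : K ≤ RingHom.ker ψ.toRingHom) hx
    rintro _ ⟨z, rfl⟩
    change φ (algebraMap E B (e z)) = 0
    rw [he]
    exact (hS ▸ Ideal.subset_span z.2 : (z : B) ∈ RingHom.ker φ)
  let : Algebra R' B' := (Ideal.Quotient.liftₐ K ψ hK).toRingHom.toAlgebra
  let : Algebra E B' := ψ.toRingHom.toAlgebra
  have : IsScalarTower E R' B' := .of_algebraMap_eq fun _ ↦ rfl
  let g : B →ₐ[E] B' := { toRingHom := φ.toRingHom, commutes' := fun _ ↦ rfl }
  have hker' : RingHom.ker g.toRingHom ≤ (RingHom.ker (algebraMap E R')).map (algebraMap E B) := by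
    rw [show RingHom.ker g.toRingHom = Ideal.span (S : Set B) from hS.symm, Ideal.span_le]
    intro z hz
    rw [show RingHom.ker (algebraMap E R') = K from Ideal.mk_ker]
    have h1 := Ideal.mem_map_of_mem (algebraMap E B) (Ideal.subset_span ⟨⟨z, hz⟩, rfl⟩ : e ⟨z, hz⟩ ∈ K)
    rw [he] at h1
    exact h1
  have h := isPairHenselization_of_surjective hBE R' Ideal.Quotient.mk_surjective B' g hφ hker'
  rw [map_map_tower'] at h
  refine ⟨R', inferInstance, inferInstance, inferInstance, .of_algebraMap_eq fun a ↦ ?_,
    Algebra.FinitePresentation.quotient (Submodule.fg_span (Set.finite_range e)), h⟩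
  exact (ψ.commutes a).symm

/-- A henselian finitely presented algebra is a quotient of a henselized polynomial ring. -/
theorem exists_hensPoly_surjection {R B : Type u} [CommRing R] [Algebra A R] [Algebra.FinitePresentation A R]
    [CommRing B] [Algebra R B] [Algebra A B] [IsScalarTower A R B]
    (hB : Hens2.IsPairHenselization R (I.map (algebraMap A R)) B) :
    ∃ (n : ℕ) (P : Type u) (_ : CommRing P) (_ : Algebra (MvPolynomial (Fin n) A) P) (_ : Algebra A P)
        (_ : IsScalarTower A (MvPolynomial (Fin n) A) P),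
        Hens2.IsPairHenselization (MvPolynomial (Fin n) A)
          (I.map (algebraMap A (MvPolynomial (Fin n) A))) P ∧
        ∃ φ : P →ₐ[A] B, Function.Surjective φ ∧ (RingHom.ker φ).FG := by
  obtain ⟨n, f, hf, hfk⟩ := Algebra.FinitePresentation.out (R := A) (A := R)
  let M := MvPolynomial (Fin n) A
  let : Algebra M R := f.toRingHom.toAlgebra
  have : IsScalarTower A M R := .of_algebraMap_eq fun a ↦ (f.commutes a).symm
  let J := I.map (algebraMap A M)
  let P := Hens M (M ⧸ J)
  have hP : Hens2.IsPairHenselization M J P := isPairHenselization_hens M J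
  let : Algebra A P := ((algebraMap M P).comp (algebraMap A M)).toAlgebra
  have : IsScalarTower A M P := .of_algebraMap_eq fun _ ↦ rfl
  let KP := (RingHom.ker f.toRingHom).map (algebraMap M P)
  let P' := P ⧸ KP
  let γ : R →+* P' := RingHom.liftOfSurjective f.toRingHom hf
    ⟨(Ideal.Quotient.mk KP).comp (algebraMap M P), fun x hx ↦
      Ideal.Quotient.eq_zero_iff_mem.mpr (Ideal.mem_map_of_mem _ hx)⟩
  let : Algebra R P' := γ.toAlgebra
  have hγ : ∀ m, γ (f m) = Ideal.Quotient.mk KP (algebraMap M P m) := fun m ↦
    RingHom.liftOfRightInverse_comp_apply _ _ _ _ m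
  have : IsScalarTower M R P' := .of_algebraMap_eq fun m ↦ (hγ m).symm
  have h := isPairHenselization_of_surjective hP R hf P' (IsScalarTower.toAlgHom M P P')
    Ideal.Quotient.mk_surjective (Ideal.mk_ker).le
  rw [map_map_tower'] at h
  obtain ⟨e⟩ := exists_algEquiv_of_isPairHenselization h hB
  refine ⟨n, P, inferInstance, inferInstance, inferInstance, inferInstance, hP,
    { toRingHom := e.toAlgHom.toRingHom.comp (Ideal.Quotient.mk KP), commutes' := fun a ↦ ?_ },
    e.surjective.comp Ideal.Quotient.mk_surjective, ?_⟩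
  · rw [IsScalarTower.algebraMap_apply A R B]
    refine Eq.trans ?_ (e.commutes (algebraMap A R a))
    change e (Ideal.Quotient.mk KP (algebraMap M P (algebraMap A M a))) = _
    rw [IsScalarTower.algebraMap_apply A M R, ← IsScalarTower.algebraMap_apply M R P']
    rfl
  · rw [show RingHom.ker _ = KP from ?_]
    · exact hfk.map _
    · ext x
      exact ((map_eq_zero_iff e e.injective).trans Ideal.Quotient.eq_zero_iff_mem)

/-- Maps between henselian finitely presented algebras are henselian finitely presented. -/
theorem hfp_of_algHom {R B : Type u} [CommRing R] [Algebra A R] [Algebra.FinitePresentation A R]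
    [CommRing B] [Algebra R B] [Algebra A B] [IsScalarTower A R B]
    (hB : Hens2.IsPairHenselization R (I.map (algebraMap A R)) B)
    {S C : Type u} [CommRing S] [Algebra A S] [Algebra.FinitePresentation A S]
    [CommRing C] [Algebra S C] [Algebra A C] [IsScalarTower A S C]
    (hC : Hens2.IsPairHenselization S (I.map (algebraMap A S)) C)
    [Algebra B C] [IsScalarTower A B C] :
    ∃ (T : Type u) (_ : CommRing T) (_ : Algebra B T) (_ : Algebra T C) (_ : IsScalarTower B T C),
      Algebra.FinitePresentation B T ∧
      Hens2.IsPairHenselization T ((I.map (algebraMap A B)).map (algebraMap B T)) C := by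
  classical
  obtain ⟨n, f, hf, hfk⟩ := Algebra.FinitePresentation.out (R := A) (A := R)
  obtain ⟨E, _, _, _, _, hE, hEt, e, he⟩ := exists_nbhd_range hC
    (fun i : Fin n ↦ algebraMap B C (algebraMap R B (f (MvPolynomial.X i))))
  let : Algebra A E := ((algebraMap S E).comp (algebraMap A S)).toAlgebra
  have : IsScalarTower A S E := .of_algebraMap_eq fun _ ↦ rfl
  have : IsScalarTower A E C := .of_algebraMap_eq fun a ↦ by
    rw [IsScalarTower.algebraMap_apply A S C, IsScalarTower.algebraMap_apply S E C]; rfl
  have : Algebra.FinitePresentation A E := Algebra.FinitePresentation.trans A S E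
  have hCE : Hens2.IsPairHenselization E (I.map (algebraMap A E)) C := by
    rw [← map_map_tower' (R := S)]
    exact isPairHenselization_of_nbhd hC E hEt
  let K : Ideal E := (RingHom.ker f.toRingHom).map (MvPolynomial.aeval (R := A) e).toRingHom
  let E' := E ⧸ K
  let ρ : R →+* E' := RingHom.liftOfSurjective f.toRingHom hf
    ⟨(Ideal.Quotient.mk K).comp (MvPolynomial.aeval (R := A) e).toRingHom, fun x hx ↦
      Ideal.Quotient.eq_zero_iff_mem.mpr (Ideal.mem_map_of_mem _ hx)⟩
  have hρ : ∀ p, ρ (f p) = Ideal.Quotient.mk K (MvPolynomial.aeval e p) := fun p ↦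
    RingHom.liftOfRightInverse_comp_apply _ _ _ _ p
  let r : R →ₐ[A] C := (IsScalarTower.toAlgHom A B C).comp (IsScalarTower.toAlgHom A R B)
  have hre : ∀ p, algebraMap E C (MvPolynomial.aeval e p) = r (f p) := fun p ↦
    DFunLike.congr_fun (show (IsScalarTower.toAlgHom A E C).comp (MvPolynomial.aeval e) = r.comp f from
      MvPolynomial.algHom_ext fun i ↦ by simp [r, he]) p
  have hK : ∀ x ∈ K, algebraMap E C x = 0 := fun x hx ↦ by
    refine (Ideal.map_le_iff_le_comap.mpr fun p hp ↦ ?_ : K ≤ RingHom.ker (algebraMap E C)) hx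
    change algebraMap E C (MvPolynomial.aeval e p) = 0
    rw [hre, show f p = 0 from hp, map_zero]
  let : Algebra E' C := (Ideal.Quotient.lift K (algebraMap E C) hK).toAlgebra
  have : IsScalarTower E E' C := .of_algebraMap_eq fun _ ↦ rfl
  have hCE' : Hens2.IsPairHenselization E' (I.map (algebraMap A E')) C := by
    have h := isPairHenselization_of_surjective hCE E' Ideal.Quotient.mk_surjective C (AlgHom.id E C)
      Function.surjective_id (fun x hx ↦ by simp [show x = 0 from hx])
    rwa [map_map_tower'] at h
  let : Algebra R E' := ρ.toAlgebra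
  have : IsScalarTower A R E' := .of_algebraMap_eq fun a ↦ by
    rw [← f.commutes a]
    change _ = ρ (f (algebraMap A _ a))
    rw [hρ, AlgHom.commutes]; rfl
  have hsq : ∀ x : R, algebraMap E' C (ρ x) = algebraMap B C (algebraMap R B x) := fun x ↦ by
    obtain ⟨p, rfl⟩ := hf x
    rw [hρ]
    exact hre p
  have : Algebra.FinitePresentation A E' := Algebra.FinitePresentation.quotient (hfk.map _)
  have : Algebra.FinitePresentation R E' := Algebra.FinitePresentation.of_restrict_scalars_finitePresentation A R E'
  let : Algebra R C := ((algebraMap B C).comp (algebraMap R B)).toAlgebra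
  have : IsScalarTower R B C := .of_algebraMap_eq fun _ ↦ rfl
  have : IsScalarTower R E' C := .of_algebraMap_eq fun x ↦ (hsq x).symm
  let T := B ⊗[R] E'
  let τ : T →ₐ[B] C := Algebra.TensorProduct.lift (Algebra.ofId B C) (IsScalarTower.toAlgHom R E' C) fun _ _ ↦ .all _ _
  let : Algebra T C := τ.toRingHom.toAlgebra
  have hτl : ∀ b, τ (b ⊗ₜ 1) = algebraMap B C b := fun b ↦
    (Algebra.TensorProduct.lift_tmul _ _ _ b 1).trans (by rw [map_one, mul_one]; rfl)
  have hτr : ∀ x, τ (1 ⊗ₜ x) = algebraMap E' C x := fun x ↦
    (Algebra.TensorProduct.lift_tmul _ _ _ 1 x).trans (by rw [map_one, one_mul]; rfl)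
  have hI : ((I.map (algebraMap A B)).map (algebraMap B T)).map (algebraMap T C) = I.map (algebraMap A C) := by
    rw [Ideal.map_map, Ideal.map_map]
    congr 1
    ext a
    change τ (algebraMap A B a ⊗ₜ 1) = _
    rw [hτl, ← IsScalarTower.algebraMap_apply]
  refine ⟨T, inferInstance, inferInstance, inferInstance, .of_algebraMap_eq fun b ↦ (hτl b).symm,
    inferInstance, hI.symm ▸ henselianRing_of_pair hC, fun C' _ L g hC' hg ↦ ?_⟩
  rw [Ideal.map_map, Ideal.map_map] at hg
  have hright : I.map (algebraMap A E') ≤ L.comap (g.comp Algebra.TensorProduct.includeRight.toRingHom) := by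
    rw [Ideal.map_le_iff_le_comap]
    intro a ha
    refine (show g (1 ⊗ₜ algebraMap A E' a) ∈ L from ?_)
    rw [show (1 : B) ⊗ₜ[R] algebraMap A E' a = (algebraMap A B a) ⊗ₜ[R] (1 : E') by
      rw [IsScalarTower.algebraMap_apply A R B, IsScalarTower.algebraMap_apply A R E',
        Algebra.algebraMap_eq_smul_one (A := B), Algebra.algebraMap_eq_smul_one (A := E'), TensorProduct.smul_tmul]]
    exact hg (Ideal.mem_map_of_mem _ ha)
  obtain ⟨G, hG, hu⟩ := hCE'.2 C' L (g.comp Algebra.TensorProduct.includeRight.toRingHom) hC'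
    (Ideal.map_le_iff_le_comap.mpr hright)
  have key : ∀ G' : C →+* C', G'.comp (algebraMap E' C) = g.comp Algebra.TensorProduct.includeRight.toRingHom →
      G'.comp (algebraMap B C) = g.comp Algebra.TensorProduct.includeLeftRingHom := by
    intro G' hG'
    have hagree : (G'.comp (algebraMap B C)).comp (algebraMap R B) =
        (g.comp Algebra.TensorProduct.includeLeftRingHom).comp (algebraMap R B) := by
      ext x
      change G' (algebraMap B C (algebraMap R B x)) = g (algebraMap R B x ⊗ₜ 1)
      rw [← hsq, ← RingHom.comp_apply, hG']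
      change g (1 ⊗ₜ ρ x) = _
      rw [Algebra.algebraMap_eq_smul_one (A := B), TensorProduct.smul_tmul, Algebra.smul_def, mul_one]
      rfl
    refine pairHenselization_ringHom_ext (J := L) hB ?_ hagree
    rw [hagree, Ideal.map_map, Ideal.map_le_iff_le_comap]
    intro a ha
    change g (algebraMap R B (algebraMap A R a) ⊗ₜ 1) ∈ L
    rw [← IsScalarTower.algebraMap_apply]
    exact hg (Ideal.mem_map_of_mem _ ha)
  refine ⟨G, Algebra.TensorProduct.ringHom_ext ?_ ?_, fun G' hG' ↦ hu G' ?_⟩
  · rw [← key G hG]
    ext b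
    exact congrArg G (hτl b)
  · rw [← hG]
    ext x
    exact congrArg G (hτr x)
  · ext x
    change G' (algebraMap E' C x) = g (1 ⊗ₜ x)
    rw [← hτr, ← hG']
    rfl

end Groth.Agent.Hensel
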