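import Groth.Agent.Hensel.Construction
import Groth.Prelude.Def_PBC
import Mathlib.Algebra.Category.Ring.Under.Basic

/-! `Hens R K` is ind-étale. -/

set_option autoImplicit false

universe u

open CategoryTheory CategoryTheory.Limits

namespace Groth.Agent.Hensel

variable (R K : Type u) [CommRing R] [CommRing K] [Algebra R K]

/-- the neighbourhoods as objects under `R` -/
noncomputable def underDiagram : Nbhd R K ⥤ Under (CommRingCat.of R) where
  obj X := CommRingCat.mkUnder (CommRingCat.of R) X.carrier
  map f := AlgHom.toUnder f.1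

/-- the cocone with vertex `Hens R K` -/
noncomputable def underCocone : Cocone (underDiagram R K) where
  pt := CommRingCat.mkUnder (CommRingCat.of R) (Hens R K)
  ι :=
    { app := fun X ↦ AlgHom.toUnder (Hens.of X)
      naturality := fun X Y f ↦ CommRingCat.mkUnder_ext fun a ↦ Hens.of_hom f a }

variable {R K}

/-- a morphism out of `mkUnder` as an algebra map -/
noncomputable def underOutHom {A : Type u} [CommRing A] [Algebra R A] {X : Under (CommRingCat.of R)}
    (f : CommRingCat.mkUnder (CommRingCat.of R) A ⟶ X) :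
    letI := X.hom.hom.toAlgebra; A →ₐ[R] X.right :=
  letI := X.hom.hom.toAlgebra
  { f.right.hom with
    commutes' := fun r ↦
      congrArg (fun g : CommRingCat.of R ⟶ X.right ↦ g.hom r) (Under.w f) }

variable (R K) in
/-- it is a colimit cocone -/
noncomputable def underIsColimit : IsColimit (underCocone R K) where
  desc s :=
    letI := s.pt.hom.hom.toAlgebra
    let φ : Hens R K →ₐ[R] s.pt.right := Hens.lift (C := s.pt.right)
        (fun X ↦ underOutHom (A := X.carrier) (s.ι.app X))
        (fun X Y f x ↦ congrArg (fun g ↦ g.right.hom x) (s.w f))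
    (Under.homMk (CommRingCat.ofHom φ.toRingHom) (by
      ext r
      exact φ.commutes r) : CommRingCat.mkUnder (CommRingCat.of R) (Hens R K) ⟶ s.pt)
  fac s X := CommRingCat.mkUnder_ext (A := X.carrier) fun a ↦
    letI := s.pt.hom.hom.toAlgebra
    Hens.lift_of (C := s.pt.right) (fun X ↦ underOutHom (A := X.carrier) (s.ι.app X))
      (fun X Y f x ↦ congrArg (fun g ↦ g.right.hom x) (s.w f)) X a
  uniq s m hm := CommRingCat.mkUnder_ext (A := Hens R K) fun b ↦ by
    let := s.pt.hom.hom.toAlgebra
    obtain ⟨X, x, rfl⟩ := Hens.exists_rep (R := R) (K := K) b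
    refine (congrArg (fun g ↦ g.right.hom x) (hm X)).trans ?_
    exact (Hens.lift_of (C := s.pt.right)
      (fun X ↦ underOutHom (A := X.carrier) (s.ι.app X))
      (fun X Y f x ↦ congrArg (fun g ↦ g.right.hom x) (s.w f)) X x).symm

/-- `Hens R K` and all algebras isomorphic to it are ind-étale. -/
theorem isIndEtale_of_algEquiv_hens {B : Type u} [CommRing B] [Algebra R B]
    (e : Hens R K ≃ₐ[R] B) : EtPBC.IsIndEtale R B := by
  refine ⟨Nbhd R K, inferInstance, inferInstance, underDiagram R K, underCocone R K,
    underIsColimit R K, fun X ↦ ?_, ⟨?_⟩⟩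
  · exact (Algebra.algebra_ext _ _ fun _ ↦ rfl : (Nbhd.instAlgebraCarrier X) =
      ((underDiagram R K).obj X).hom.hom.toAlgebra) ▸ (inferInstance : Algebra.Etale R X.carrier)
  · exact
      { hom := AlgHom.toUnder e.toAlgHom
        inv := AlgHom.toUnder e.symm.toAlgHom
        hom_inv_id := CommRingCat.mkUnder_ext fun a ↦ e.symm_apply_apply a
        inv_hom_id := CommRingCat.mkUnder_ext fun a ↦ e.apply_symm_apply a }

end Groth.Agent.Hensel
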