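import Mathlib
import Groth.Prelude.Def_Hensel
import Groth.Agent.Hensel.Pairs
import Groth.Agent.Hensel.Local
import Groth.Agent.S0499

/-!
Integral subalgebras of local rings over henselian local rings, and (strict) henselizations
generated by integral elements.
-/

set_option autoImplicit false
universe u

namespace Groth.Agent.Hensel.IntegralSub

open IsLocalRing

variable {H T : Type u} [CommRing H] [HenselianLocalRing H] [CommRing T] [IsLocalRing T] [Algebra H T]

/-- A finite subalgebra of a local ring over a henselian local ring is local. -/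
theorem isLocalRing_of_finite (F : Subalgebra H T) [Module.Finite H F] : IsLocalRing F := by
  classical
  obtain ⟨ι, _, A, _, hA, ⟨e⟩⟩ := Groth.Agent.S0499.result H F
  haveI : Nonempty ι := by
    by_contra hne
    rw [not_nonempty_iff] at hne
    exact not_subsingleton F e.injective.subsingleton
  have huniq : ∀ i j : ι, i = j := by
    intro i j
    by_contra hij
    let x : F := e.symm (Pi.single i 1)
    have hx : IsIdempotentElem (x : T) := by
      have : IsIdempotentElem x :=
        (show IsIdempotentElem (Pi.single i 1 : ∀ k, A k) by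
          change Pi.single i 1 * Pi.single i 1 = _; rw [← Pi.single_mul, mul_one]).map e.symm
      exact congrArg Subtype.val this
    haveI := hA i
    haveI := hA j
    rcases IsLocalRing.isUnit_or_isUnit_one_sub_self (x : T) with h | h
    · have h1 : x = 1 := Subtype.ext ((h.mul_eq_left).1 hx)
      have h2 := congrFun (congrArg e h1) j
      simp only [x, RingEquiv.apply_symm_apply, map_one, Pi.single_eq_of_ne (Ne.symm hij), Pi.one_apply] at h2
      exact zero_ne_one h2
    · have h1 : x = 0 := Subtype.ext ((IsUnit.mul_left_eq_zero h).1 (by rw [mul_sub, mul_one, hx, sub_self] : (x : T) * (1 - (x : T)) = 0))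
      have h2 := congrFun (congrArg e h1) i
      simp only [x, RingEquiv.apply_symm_apply, map_zero, Pi.single_eq_same, Pi.zero_apply] at h2
      exact one_ne_zero h2
  obtain ⟨i⟩ := ‹Nonempty ι›
  haveI := hA i
  haveI : Unique ι := ⟨⟨i⟩, fun j => huniq j _⟩
  haveI : IsLocalRing (A default) := hA _
  exact IsLocalRing.of_surjective' (e.trans (RingEquiv.piUnique A)).symm.toRingHom
    (e.trans (RingEquiv.piUnique A)).symm.surjective

variable [IsLocalHom (algebraMap H T)]

/-- An element of a finite subalgebra which is a unit is a unit of the subalgebra. -/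
theorem isUnit_of_finite (F : Subalgebra H T) [Module.Finite H F] {x : F} (hx : IsUnit (x : T)) : IsUnit x := by
  haveI := isLocalRing_of_finite F
  by_contra hxu
  let P : Ideal F := (maximalIdeal T).comap F.val
  haveI : P.IsPrime := Ideal.comap_isPrime _ _
  haveI : Algebra.IsIntegral H F := Algebra.IsIntegral.of_finite H F
  have hP : P.IsMaximal := by
    refine Ideal.isMaximal_of_isIntegral_of_isMaximal_comap (R := H) P ?_
    rw [show P.comap (algebraMap H F) = (maximalIdeal T).comap (algebraMap H T) from Ideal.comap_comap ..,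
      IsLocalRing.maximalIdeal_comap]
    exact IsLocalRing.maximalIdeal.isMaximal H
  have : x ∈ P := (IsLocalRing.eq_maximalIdeal hP).symm ▸ (mem_maximalIdeal x).2 hxu
  exact this hx

/-- Inverses of units which are integral are integral. -/
theorem exists_inv_mem_adjoin {x : T} (hi : IsIntegral H x) (hu : IsUnit x) :
    ∃ y ∈ Algebra.adjoin H {x}, x * y = 1 := by
  haveI : Module.Finite H (Algebra.adjoin H ({x} : Set T)) := Module.Finite.iff_fg.2 hi.fg_adjoin_singleton
  obtain ⟨y, hy⟩ := (isUnit_of_finite (Algebra.adjoin H ({x} : Set T))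
    (x := ⟨x, Algebra.subset_adjoin rfl⟩) hu).exists_right_inv
  exact ⟨y.1, y.2, congrArg Subtype.val hy⟩

theorem inv_mem (W : Subalgebra H T) [Algebra.IsIntegral H W] {x : T} (hx : x ∈ W) (hu : IsUnit x) :
    ∃ y ∈ W, x * y = 1 := by
  obtain ⟨y, hy, hxy⟩ := exists_inv_mem_adjoin (H := H)
    ((Algebra.IsIntegral.isIntegral (R := H) (⟨x, hx⟩ : W)).map W.val) hu
  exact ⟨y, Algebra.adjoin_le (Set.singleton_subset_iff.2 hx) hy, hxy⟩

theorem isUnit_iff (W : Subalgebra H T) [Algebra.IsIntegral H W] (x : W) : IsUnit x ↔ IsUnit (x : T) := by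
  refine ⟨fun h => h.map W.val, fun h => ?_⟩
  obtain ⟨y, hy, hxy⟩ := inv_mem W x.2 h
  exact IsUnit.of_mul_eq_one ⟨y, hy⟩ (Subtype.ext hxy)

theorem isLocalRing_sub (W : Subalgebra H T) [Algebra.IsIntegral H W] : IsLocalRing W := by
  haveI : Nontrivial W := (W.val.toRingHom.domain_nontrivial)
  refine IsLocalRing.of_isUnit_or_isUnit_one_sub_self fun x => ?_
  simp only [isUnit_iff W, Subalgebra.coe_sub, Subalgebra.coe_one]
  exact IsLocalRing.isUnit_or_isUnit_one_sub_self (x : T)

theorem henselianLocalRing_sub (W : Subalgebra H T) [Algebra.IsIntegral H W] [IsLocalRing W] :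
    HenselianLocalRing W := by
  rw [henselianLocalRing_iff_henselianRing]
  haveI : HenselianRing H (maximalIdeal H) := (henselianLocalRing_iff_henselianRing).1 inferInstance
  haveI := henselianRing_of_isIntegral (A := H) (I := maximalIdeal H) W
  have hrad : ((maximalIdeal H).map (algebraMap H W)).radical = maximalIdeal W := by
    refine le_antisymm ?_ ?_
    · refine ((maximalIdeal.isMaximal W).isPrime.radical_le_iff).2 (Ideal.map_le_iff_le_comap.2 fun a ha => ?_)
      rw [Ideal.mem_comap, mem_maximalIdeal, mem_nonunits_iff, isUnit_iff W]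
      exact fun h => ha (isUnit_of_map_unit (algebraMap H T) a h)
    · rw [Ideal.radical_eq_sInf]
      refine le_sInf fun P ⟨hle, hP⟩ => ?_
      haveI := hP
      have hc : P.comap (algebraMap H W) = maximalIdeal H :=
        ((maximalIdeal.isMaximal H).eq_of_le (Ideal.IsPrime.ne_top inferInstance)
          (Ideal.map_le_iff_le_comap.1 hle)).symm
      haveI : (P.comap (algebraMap H W)).IsMaximal := hc ▸ maximalIdeal.isMaximal H
      exact (IsLocalRing.eq_maximalIdeal (Ideal.isMaximal_of_isIntegral_of_isMaximal_comap (R := H) P this)).ge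
  rw [← hrad]
  exact henselianRing_radical_iff.2 inferInstance

/-- Images of elements quasi-finite over the base are integral. -/
theorem isIntegral_image {A B : Type u} [CommRing A] [CommRing B] [Algebra A B] (φ : A →+* H) (ψ : B →+* T)
    (hφψ : (algebraMap H T).comp φ = ψ.comp (algebraMap A B)) (q : Ideal B) (hq : ∀ g ∉ q, IsUnit (ψ g))
    (h : Algebra.ZariskisMainProperty A q) (b : B) : IsIntegral H (ψ b) := by
  obtain ⟨r, hrq, hr⟩ := Algebra.zariskisMainProperty_iff'.1 h
  obtain ⟨m, hm⟩ := hr b
  obtain ⟨n, hn⟩ := hr r
  rw [← pow_succ] at hn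
  have hri : IsIntegral A r := hn.of_pow (Nat.succ_pos n)
  have hu : IsUnit (ψ (r ^ m)) := by rw [map_pow]; exact (hq r hrq).pow m
  have h1 : IsIntegral H (ψ (r ^ m)) := (hri.pow m).map_of_comp_eq φ ψ hφψ
  have h2 : IsIntegral H (ψ (r ^ m * b)) := hm.map_of_comp_eq φ ψ hφψ
  obtain ⟨y, hy, hry⟩ := inv_mem (integralClosure H T) (x := ψ (r ^ m)) h1 hu
  rw [show ψ b = y * ψ (r ^ m * b) by rw [map_mul ψ (r ^ m) b, ← mul_assoc, mul_comm y, hry, one_mul]]
  exact IsIntegral.mul hy h2

/-- A subalgebra containing the image of a ring contains the image of its localization at a prime. -/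
theorem localization_mem (W : Subalgebra H T) [Algebra.IsIntegral H W] {B : Type u} [CommRing B]
    (q : Ideal B) [q.IsPrime] (S : Type u) [CommRing S] [Algebra B S] [IsLocalization.AtPrime S q]
    (χ : S →+* T) (hW : ∀ b, χ (algebraMap B S b) ∈ W) (x : S) : χ x ∈ W := by
  obtain ⟨a, s, rfl⟩ := IsLocalization.exists_mk'_eq q.primeCompl x
  obtain ⟨y, hy, hsy⟩ := inv_mem W (hW s) ((IsLocalization.map_units S s).map χ)
  have h : χ (IsLocalization.mk' S a s) = χ (algebraMap B S a) * y := by
    rw [← IsLocalization.mk'_spec S a s, map_mul, mul_assoc, hsy, mul_one]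
  rw [h]
  exact W.mul_mem (hW a) hy

variable {R : Type u} [CommRing R] [IsLocalRing R] [Algebra R T] [IsLocalHom (algebraMap R T)]

/-- A henselization is not bigger than an integral subalgebra over a henselian ring containing the base. -/
theorem eq_top_of_henselization [_root_.Hensel.IsHenselization R T] (W : Subalgebra H T) [Algebra.IsIntegral H W]
    (hR : ∀ r, algebraMap R T r ∈ W) : W = ⊤ := by
  haveI := isLocalRing_sub W
  haveI := henselianLocalRing_sub W
  let f : R →+* W := (algebraMap R T).codRestrict W.toSubring hR
  have hf : IsLocalHom f := ⟨fun a ha => isUnit_of_map_unit (algebraMap R T) a (ha.map W.val)⟩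
  obtain ⟨g, hg, -⟩ := _root_.Hensel.IsHenselization.universal (R := R) (S := T) W f hf
  haveI := _root_.Hensel.IsHenselization.henselian (R := R) (S := T)
  have hid : (W.val.toRingHom).comp g = RingHom.id T := by
    refine (_root_.Hensel.IsHenselization.universal (R := R) (S := T) T (algebraMap R T) inferInstance).unique ?_ ?_
    · rw [RingHom.comp_assoc, hg]; rfl
    · rfl
  exact eq_top_iff.2 fun x _ => by
    have h : ((g x : W) : T) = x := RingHom.congr_fun hid x
    rw [← h]
    exact (g x).2

/-- A strict henselization is not bigger than an integral subalgebra over a strictly henselian ring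
containing the base. -/
theorem eq_top_of_strictHenselization [_root_.Hensel.IsStrictHenselization R T] [IsSepClosed (ResidueField H)]
    (W : Subalgebra H T) [Algebra.IsIntegral H W] (hR : ∀ r, algebraMap R T r ∈ W) : W = ⊤ := by
  haveI := isLocalRing_sub W
  haveI := henselianLocalRing_sub W
  haveI hloc : IsLocalHom W.val.toRingHom := ⟨fun a ha => (isUnit_iff W a).2 ha⟩
  haveI : IsLocalHom (algebraMap H W) := ⟨fun a ha => isUnit_of_map_unit (algebraMap H T) a (ha.map W.val)⟩
  let f : R →+* W := (algebraMap R T).codRestrict W.toSubring hR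
  haveI hf : IsLocalHom f := ⟨fun a ha => isUnit_of_map_unit (algebraMap R T) a (ha.map W.val)⟩
  let j : ResidueField W →+* ResidueField T := ResidueField.map W.val.toRingHom
  haveI : Algebra.IsAlgebraic (ResidueField H) (ResidueField W) := by
    refine ⟨fun x => ?_⟩
    obtain ⟨y, rfl⟩ := residue_surjective x
    obtain ⟨P, hP, hPy⟩ := Algebra.IsIntegral.isIntegral (R := H) y
    refine IsIntegral.isAlgebraic ⟨P.map (residue H), hP.map _, ?_⟩
    rw [Polynomial.eval₂_map, show (algebraMap (ResidueField H) (ResidueField W)).comp (residue H) =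
      (residue W).comp (algebraMap H W) from RingHom.ext fun _ => rfl, ← Polynomial.hom_eval₂, hPy, map_zero]
  haveI : IsSepClosed (ResidueField W) := Algebra.IsAlgebraic.isSepClosed (F := ResidueField H)
  letI : Algebra (ResidueField R) (ResidueField W) := (ResidueField.map f).toAlgebra
  letI : Algebra (ResidueField W) (ResidueField T) := j.toAlgebra
  haveI : IsScalarTower (ResidueField R) (ResidueField W) (ResidueField T) := IsScalarTower.of_algebraMap_eq fun x => by
    obtain ⟨r, rfl⟩ := residue_surjective x
    rfl
  haveI := (_root_.Hensel.IsStrictHenselization.isSepClosure (R := R) (S := T)).separable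
  haveI : Algebra.IsSeparable (ResidueField W) (ResidueField T) :=
    Algebra.isSeparable_tower_top_of_isSeparable (ResidueField R) (ResidueField W) (ResidueField T)
  have hj : Function.Bijective j := IsSepClosed.algebraMap_bijective (k := ResidueField W) (ResidueField T)
  let τ : ResidueField T →+* ResidueField W := (RingEquiv.ofBijective j hj).symm.toRingHom
  have hτj : ∀ z, j (τ z) = z := fun z => (RingEquiv.ofBijective j hj).apply_symm_apply z
  have hτ : τ.comp (ResidueField.map (algebraMap R T)) = ResidueField.map f := by
    refine RingHom.ext fun x => hj.1 ?_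
    obtain ⟨r, rfl⟩ := residue_surjective x
    rw [RingHom.comp_apply, hτj]
    rfl
  obtain ⟨g, ⟨hg, hgres⟩, -⟩ := _root_.Hensel.IsStrictHenselization.universal (R := R) (S := T) W f τ hτ
  haveI := _root_.Hensel.IsStrictHenselization.henselian (R := R) (S := T)
  have hid : (W.val.toRingHom).comp g = RingHom.id T := by
    refine (_root_.Hensel.IsStrictHenselization.universal (R := R) (S := T) T (algebraMap R T)
      (RingHom.id _) (RingHom.id_comp _)).unique ⟨?_, fun x => ?_⟩ ⟨rfl, fun x => rfl⟩
    · rw [RingHom.comp_assoc, hg]; rfl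
    · rw [RingHom.comp_apply, ← ResidueField.map_residue, hgres]
      exact hτj _
  exact eq_top_iff.2 fun x _ => by
    have h : ((g x : W) : T) = x := RingHom.congr_fun hid x
    rw [← h]
    exact (g x).2

theorem isIntegral_of_henselization [_root_.Hensel.IsHenselization R T]
    (hR : ∀ r, IsIntegral H (algebraMap R T r)) : Algebra.IsIntegral H T := by
  have h := eq_top_of_henselization (R := R) (integralClosure H T) hR
  exact ⟨fun x => show x ∈ integralClosure H T by rw [h]; trivial⟩

theorem isIntegral_of_strictHenselization [_root_.Hensel.IsStrictHenselization R T] [IsSepClosed (ResidueField H)]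
    (hR : ∀ r, IsIntegral H (algebraMap R T r)) : Algebra.IsIntegral H T := by
  have h := eq_top_of_strictHenselization (R := R) (integralClosure H T) hR
  exact ⟨fun x => show x ∈ integralClosure H T by rw [h]; trivial⟩

end Groth.Agent.Hensel.IntegralSub
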