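import Mathlib.RingTheory.Smooth.Basic
import Mathlib.RingTheory.Etale.Basic
import Mathlib.RingTheory.Ideal.Quotient.Operations

/-!
# Infinitesimal lifting for algebras killed by powers of an ideal
-/

set_option autoImplicit false

universe u

namespace Groth.Agent.Hensel

variable {A : Type u} [CommRing A] (I : Ideal A) (B : Type u) [CommRing B] [Algebra A B]

/-- Lifts exist along nilpotent thickenings of algebras killed by powers of `I`. -/
def HLift : Prop :=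
  ∀ (E C : Type u) [CommRing E] [CommRing C] [Algebra A E] [Algebra A C] (N : ℕ), 1 ≤ N →
    (I ^ N).map (algebraMap A E) = ⊥ → (I ^ N).map (algebraMap A C) = ⊥ →
    ∀ (p : E →ₐ[A] C), Function.Surjective p → (∃ M : ℕ, 1 ≤ M ∧ RingHom.ker p ^ M = ⊥) →
    ∀ u : B →ₐ[A] C, ∃ v : B →ₐ[A] E, p.comp v = u

/-- Lifts are unique along nilpotent thickenings of algebras killed by powers of `I`. -/
def HLiftUnique : Prop :=
  ∀ (E C : Type u) [CommRing E] [CommRing C] [Algebra A E] [Algebra A C] (N : ℕ), 1 ≤ N →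
    (I ^ N).map (algebraMap A E) = ⊥ → (I ^ N).map (algebraMap A C) = ⊥ →
    ∀ (p : E →ₐ[A] C), Function.Surjective p → (∃ M : ℕ, 1 ≤ M ∧ RingHom.ker p ^ M = ⊥) →
    ∀ v w : B →ₐ[A] E, p.comp v = p.comp w → v = w

variable {I B}

theorem map_pow_le_ker_of_eq_bot {C : Type u} [CommRing C] [Algebra A C] {N : ℕ}
    (hC : (I ^ N).map (algebraMap A C) = ⊥) (f : B →ₐ[A] C) :
    (I ^ N).map (algebraMap A B) ≤ RingHom.ker f.toRingHom := by
  refine Ideal.map_le_iff_le_comap.mpr fun a ha ↦ ?_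
  change f (algebraMap A B a) = 0
  rw [f.commutes, ← Ideal.mem_bot, ← hC]
  exact Ideal.mem_map_of_mem _ ha

/-- `Hom` out of the truncation. -/
theorem exists_trunc_algHom {C : Type u} [CommRing C] [Algebra A C] {N : ℕ} [Algebra (A ⧸ I ^ N) C]
    [IsScalarTower A (A ⧸ I ^ N) C] (f : B →ₐ[A] C) :
    ∃ g : (B ⧸ (I ^ N).map (algebraMap A B)) →ₐ[A ⧸ I ^ N] C, ∀ b, g (Ideal.Quotient.mk _ b) = f b := by
  have hC : (I ^ N).map (algebraMap A C) = ⊥ := by
    rw [eq_bot_iff, Ideal.map_le_iff_le_comap]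
    intro a ha
    rw [Ideal.mem_comap, Ideal.mem_bot, IsScalarTower.algebraMap_apply A (A ⧸ I ^ N) C,
      Ideal.Quotient.algebraMap_eq, Ideal.Quotient.eq_zero_iff_mem.mpr ha, map_zero]
  let g := Ideal.Quotient.liftₐ ((I ^ N).map (algebraMap A B)) f fun b hb ↦ map_pow_le_ker_of_eq_bot hC f hb
  refine ⟨{ toRingHom := g.toRingHom, commutes' := fun x ↦ ?_ }, fun b ↦ rfl⟩
  obtain ⟨a, rfl⟩ := Ideal.Quotient.mk_surjective x
  exact (g.commutes a).trans (IsScalarTower.algebraMap_apply A (A ⧸ I ^ N) C a)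

theorem hLift_iff :
    HLift I B ↔ ∀ r : ℕ, 1 ≤ r → Algebra.FormallySmooth (A ⧸ I ^ r) (B ⧸ (I ^ r).map (algebraMap A B)) := by
  refine ⟨fun h r hr ↦ ?_, fun h E C _ _ _ _ N hN hE hC p hp hM u ↦ ?_⟩
  · rw [Algebra.FormallySmooth.iff_comp_surjective]
    intro B' _ _ J hJ f
    let : Algebra A B' := ((algebraMap (A ⧸ I ^ r) B').comp (algebraMap A _)).toAlgebra
    have : IsScalarTower A (A ⧸ I ^ r) B' := .of_algebraMap_eq fun _ ↦ rfl
    have hE : (I ^ r).map (algebraMap A B') = ⊥ := by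
      rw [IsScalarTower.algebraMap_eq A (A ⧸ I ^ r) B', ← Ideal.map_map, Ideal.Quotient.algebraMap_eq,
        Ideal.map_quotient_self, Ideal.map_bot]
    have hC : (I ^ r).map (algebraMap A (B' ⧸ J)) = ⊥ := by
      rw [IsScalarTower.algebraMap_eq A B' (B' ⧸ J), ← Ideal.map_map, hE, Ideal.map_bot]
    obtain ⟨v, hv⟩ := h B' (B' ⧸ J) r hr hE hC (Ideal.Quotient.mkₐ A J) Ideal.Quotient.mk_surjective
      ⟨2, one_le_two, (congrArg (· ^ 2) Ideal.mk_ker).trans hJ⟩
      ((f.restrictScalars A).comp (Ideal.Quotient.mkₐ A _))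
    obtain ⟨g, hg⟩ := exists_trunc_algHom (I := I) (N := r) v
    refine ⟨g, AlgHom.ext fun x ↦ ?_⟩
    obtain ⟨b, rfl⟩ := Ideal.Quotient.mk_surjective x
    rw [AlgHom.comp_apply, hg]
    exact DFunLike.congr_fun hv b
  · obtain ⟨M, -, hM⟩ := hM
    have := h N hN
    let : Algebra (A ⧸ I ^ N) E := (Ideal.Quotient.lift (I ^ N) (algebraMap A E) fun a ha ↦
      Ideal.mem_bot.mp (hE ▸ Ideal.mem_map_of_mem _ ha)).toAlgebra
    let : Algebra (A ⧸ I ^ N) C := (Ideal.Quotient.lift (I ^ N) (algebraMap A C) fun a ha ↦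
      Ideal.mem_bot.mp (hC ▸ Ideal.mem_map_of_mem _ ha)).toAlgebra
    have : IsScalarTower A (A ⧸ I ^ N) E := .of_algebraMap_eq fun _ ↦ rfl
    have : IsScalarTower A (A ⧸ I ^ N) C := .of_algebraMap_eq fun _ ↦ rfl
    obtain ⟨ū, hu⟩ := exists_trunc_algHom (I := I) (N := N) u
    let p' : E →ₐ[A ⧸ I ^ N] C :=
      { toRingHom := p.toRingHom
        commutes' := fun x ↦ by
          obtain ⟨a, rfl⟩ := Ideal.Quotient.mk_surjective x
          exact p.commutes a }
    let v := Algebra.FormallySmooth.liftOfSurjective ū p' hp ⟨M, hM⟩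
    refine ⟨(v.restrictScalars A).comp (Ideal.Quotient.mkₐ A _), AlgHom.ext fun b ↦ ?_⟩
    exact (Algebra.FormallySmooth.liftOfSurjective_apply ū p' hp ⟨M, hM⟩ _).trans (hu b)

theorem hLiftUnique_iff :
    HLiftUnique I B ↔
      ∀ r : ℕ, 1 ≤ r → Algebra.FormallyUnramified (A ⧸ I ^ r) (B ⧸ (I ^ r).map (algebraMap A B)) := by
  refine ⟨fun h r hr ↦ ?_, fun h E C _ _ _ _ N hN hE hC p hp hM v w hvw ↦ ?_⟩
  · rw [Algebra.FormallyUnramified.iff_comp_injective]
    intro B' _ _ J hJ f g hfg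
    let : Algebra A B' := ((algebraMap (A ⧸ I ^ r) B').comp (algebraMap A _)).toAlgebra
    have : IsScalarTower A (A ⧸ I ^ r) B' := .of_algebraMap_eq fun _ ↦ rfl
    have hE : (I ^ r).map (algebraMap A B') = ⊥ := by
      rw [IsScalarTower.algebraMap_eq A (A ⧸ I ^ r) B', ← Ideal.map_map, Ideal.Quotient.algebraMap_eq,
        Ideal.map_quotient_self, Ideal.map_bot]
    have hC : (I ^ r).map (algebraMap A (B' ⧸ J)) = ⊥ := by
      rw [IsScalarTower.algebraMap_eq A B' (B' ⧸ J), ← Ideal.map_map, hE, Ideal.map_bot]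
    have := h B' (B' ⧸ J) r hr hE hC (Ideal.Quotient.mkₐ A J) Ideal.Quotient.mk_surjective
      ⟨2, one_le_two, (congrArg (· ^ 2) Ideal.mk_ker).trans hJ⟩
      ((f.restrictScalars A).comp (Ideal.Quotient.mkₐ A _))
      ((g.restrictScalars A).comp (Ideal.Quotient.mkₐ A _))
      (AlgHom.ext fun b ↦ DFunLike.congr_fun hfg (Ideal.Quotient.mk _ b))
    refine AlgHom.ext fun x ↦ ?_
    obtain ⟨b, rfl⟩ := Ideal.Quotient.mk_surjective x
    exact DFunLike.congr_fun this b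
  · obtain ⟨M, -, hM⟩ := hM
    have := h N hN
    let : Algebra (A ⧸ I ^ N) E := (Ideal.Quotient.lift (I ^ N) (algebraMap A E) fun a ha ↦
      Ideal.mem_bot.mp (hE ▸ Ideal.mem_map_of_mem _ ha)).toAlgebra
    have : IsScalarTower A (A ⧸ I ^ N) E := .of_algebraMap_eq fun _ ↦ rfl
    obtain ⟨v', hv⟩ := exists_trunc_algHom (I := I) (N := N) v
    obtain ⟨w', hw⟩ := exists_trunc_algHom (I := I) (N := N) w
    have : v' = w' := Algebra.FormallyUnramified.ext' (p : E →+* C) ⟨M, hM⟩ v' w' fun x ↦ by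
      obtain ⟨b, rfl⟩ := Ideal.Quotient.mk_surjective x
      rw [hv, hw]
      exact DFunLike.congr_fun hvw b
    exact AlgHom.ext fun b ↦ by rw [← hv, ← hw, this]

end Groth.Agent.Hensel
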