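import Mathlib
import Groth.Agent.CAlgPureIdeal.Basic

/-!
Finite flat modules over nil thickenings, and limits of finite projective modules.
-/

set_option autoImplicit false
universe u

namespace Groth.Agent.Hensel.LimitProj

open scoped TensorProduct

theorem le_jacobson_of_nil {R : Type u} [CommRing R] {I : Ideal R} (h : ∀ x ∈ I, IsNilpotent x) :
    I ≤ Ideal.jacobson ⊥ := fun x hx =>
  Ideal.mem_jacobson_bot.2 fun y =>
    ((Commute.all x y).isNilpotent_mul_right (h x hx)).isUnit_add_one

variable {R R' : Type u} [CommRing R] [CommRing R'] (t : R →+* R') (ht : Function.Surjective t)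
  (hnil : ∀ x, t x = 0 → IsNilpotent x) {M M' : Type u} [AddCommGroup M] [Module R M] [AddCommGroup M']
  [Module R' M'] (u : M →ₛₗ[t] M') (hu : Function.Surjective u)
  (hker : LinearMap.ker u = RingHom.ker t • (⊤ : Submodule R M))

include hnil hker in
theorem eq_top_of_map [Module.Finite R M] (N : Submodule R M) (h : ∀ m, ∃ x ∈ N, u x = u m) : N = ⊤ :=
  eq_top_iff.2 (Submodule.le_of_le_smul_of_le_jacobson_bot Module.Finite.fg_top
    (le_jacobson_of_nil fun x hx => hnil x hx) (fun m _ => by
      obtain ⟨x, hx, hxm⟩ := h m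
      refine Submodule.mem_sup.2 ⟨x, hx, m - x, ?_, add_sub_cancel x m⟩
      rw [← hker, LinearMap.mem_ker, map_sub, hxm, sub_self]))

include ht hnil hu hker in
/-- A finite flat module whose reduction modulo a nil ideal is projective is projective. -/
theorem projective_of_nil [Module.Finite R M] [Module.Flat R M] [Module.Projective R' M'] : Module.Projective R M := by
  letI : Algebra R R' := t.toAlgebra
  letI : Module R M' := Module.compHom M' t
  haveI : IsScalarTower R R' M' := ⟨fun r s m => by change (t r * s) • m = t r • s • m; rw [mul_smul]⟩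
  let uR : M →ₗ[R] M' := { toFun := u, map_add' := u.map_add, map_smul' := fun r m => u.map_smulₛₗ r m }
  let e : R' ⊗[R] M →ₗ[R'] M' := uR.liftBaseChange R'
  have hpure : ∀ z : R' ⊗[R] M, ∃ m : M, z = (1 : R') ⊗ₜ[R] m := by
    intro z
    induction z using TensorProduct.induction_on with
    | zero => exact ⟨0, (TensorProduct.tmul_zero _ _).symm⟩
    | add a b ha hb =>
      obtain ⟨m, rfl⟩ := ha
      obtain ⟨m', rfl⟩ := hb
      exact ⟨m + m', (TensorProduct.tmul_add _ _ _).symm⟩
    | tmul s m =>
      obtain ⟨r, rfl⟩ := ht s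
      refine ⟨r • m, ?_⟩
      rw [TensorProduct.tmul_smul, TensorProduct.smul_tmul']
      congr 1
      rw [Algebra.smul_def, mul_one]; rfl
  have hzero : ∀ m ∈ RingHom.ker t • (⊤ : Submodule R M), (1 : R') ⊗ₜ[R] m = 0 := by
    intro m hm
    refine Submodule.smul_induction_on hm (fun r hr n _ => ?_) (fun x y hx hy => by rw [TensorProduct.tmul_add, hx, hy, add_zero])
    rw [← TensorProduct.smul_tmul, Algebra.smul_def, show algebraMap R R' r = 0 from hr, zero_mul, TensorProduct.zero_tmul]
  have hbij : Function.Bijective e := by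
    refine ⟨(injective_iff_map_eq_zero e).2 fun z hz => ?_, fun m' => ?_⟩
    · obtain ⟨m, rfl⟩ := hpure z
      have : u m = 0 := by simpa [e, uR] using hz
      exact hzero m (hker ▸ LinearMap.mem_ker.2 this)
    · obtain ⟨m, rfl⟩ := hu m'
      exact ⟨(1 : R') ⊗ₜ[R] m, by simp [e, uR]⟩
  haveI : Module.Projective R' (R' ⊗[R] M) := Module.Projective.of_equiv (LinearEquiv.ofBijective e hbij).symm
  have hemb := PrimeSpectrum.isClosedEmbedding_comap_of_surjective R' (algebraMap R R') ht
  have hsurj : Function.Surjective (PrimeSpectrum.comap (algebraMap R R')) := fun p => by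
    have : p ∈ Set.range (PrimeSpectrum.comap (algebraMap R R')) := by
      rw [show algebraMap R R' = t from rfl, range_comap_of_surjective _ _ ht, PrimeSpectrum.mem_zeroLocus]
      intro x hx
      obtain ⟨n, hn⟩ := hnil x hx
      exact p.isPrime.mem_of_pow_mem n (hn ▸ p.asIdeal.zero_mem)
    exact this
  refine Groth.Agent.CAlgPureIdeal.projective_of_isLocallyConstant M ?_
  have hc : IsLocallyConstant (Module.rankAtStalk (R := R) M ∘ PrimeSpectrum.comap (algebraMap R R')) := by
    haveI : Module.FinitePresentation R' (R' ⊗[R] M) := Module.finitePresentation_of_projective R' _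
    convert Module.isLocallyConstant_rankAtStalk (R := R') (M := R' ⊗[R] M) using 1
    exact funext fun p => (Module.rankAtStalk_baseChange p).symm
  intro s
  have := (hc s)
  rw [Set.preimage_comp] at this
  exact ((isHomeomorph_iff_isEmbedding_surjective.2 ⟨hemb.isEmbedding, hsurj⟩).isQuotientMap.isOpen_preimage).1 this

theorem exists_compatible (j : ℕ) : ∀ (X : ℕ → Type u) (f : ∀ n, X (n + 1) → X n), (∀ n, Function.Surjective (f n)) →
    ∀ b : X j, ∃ y : ∀ n, X n, (∀ n, f n (y (n + 1)) = y n) ∧ y j = b := by
  induction j with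
  | zero => exact fun X f hf b => ⟨fun l => Nat.rec b (fun i y => (hf i y).choose) l, fun l => (hf l _).choose_spec, rfl⟩
  | succ j ih =>
    intro X f hf b
    obtain ⟨z, hz, hzb⟩ := ih (fun n => X (n + 1)) (fun n => f (n + 1)) (fun n => hf (n + 1)) b
    refine ⟨fun n => match n with | 0 => f 0 (z 0) | l + 1 => z l, fun n => ?_, hzb⟩
    cases n with
    | zero => rfl
    | succ n => exact hz n

end Groth.Agent.Hensel.LimitProj
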