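import Groth.Agent.Hensel.HenselizationBasic

/-!
# The henselization of a pair as a colimit of étale algebras which are trivial modulo `I`
-/

set_option autoImplicit false

universe u

namespace Groth.Agent.Hensel

variable {A : Type u} [CommRing A] {I : Ideal A}

/-- Étale `A`-algebras with `A/I = A'/IA'`. -/
abbrev IsTrivialModI (I : Ideal A) (A' : Type u) [CommRing A'] [Algebra A A'] : Prop :=
  Function.Bijective (Ideal.quotientMap (I.map (algebraMap A A')) (algebraMap A A') Ideal.le_comap_map)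

theorem IsTrivialModI.exists_sub_mem {A' : Type u} [CommRing A'] [Algebra A A']
    (h : IsTrivialModI I A') (x : A') :
    ∃ a, x - algebraMap A A' a ∈ I.map (algebraMap A A') := by
  obtain ⟨a, ha⟩ := h.2 (Ideal.Quotient.mk _ x)
  obtain ⟨a, rfl⟩ := Ideal.Quotient.mk_surjective a
  rw [Ideal.quotientMap_mk, Ideal.Quotient.eq] at ha
  exact ⟨a, by simpa using neg_mem ha⟩

theorem IsTrivialModI.exists_point {A' : Type u} [CommRing A'] [Algebra A A']
    (h : IsTrivialModI I A') : Nonempty (A' →ₐ[A] A ⧸ I) := by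
  let e := RingEquiv.ofBijective _ h
  exact ⟨{ toRingHom := e.symm.toRingHom.comp (Ideal.Quotient.mk _)
           commutes' := fun a ↦ e.injective (by simp; rfl) }⟩

theorem IsTrivialModI.algHom_ext {A' : Type u} [CommRing A'] [Algebra A A'] [Algebra.Etale A A']
    (h : IsTrivialModI I A') {B : Type u} [CommRing B] [Algebra A B]
    (hB : I.map (algebraMap A B) ≤ Ideal.jacobson ⊥) (f g : A' →ₐ[A] B) : f = g := by
  refine algHom_ext_of_unramified hB fun s ↦ ?_
  obtain ⟨a, ha⟩ := h.exists_sub_mem s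
  have key : ∀ φ : A' →ₐ[A] B, φ s - algebraMap A B a ∈ I.map (algebraMap A B) := fun φ ↦ by
    have := Ideal.mem_map_of_mem φ.toRingHom ha
    rw [Ideal.map_map, AlgHom.toRingHom_eq_coe, φ.comp_algebraMap] at this
    simpa using this
  simpa using sub_mem (key f) (key g)

/-- Every neighbourhood of `A/I` maps to one which is trivial modulo `I`. -/
theorem exists_trivial_nbhd (X : Nbhd A (A ⧸ I)) :
    ∃ (E : Type u) (_ : CommRing E) (_ : Algebra A E) (_ : Algebra.Etale A E) (σ : E →ₐ[A] A ⧸ I)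
      (ψ : X.carrier →ₐ[A] E), IsTrivialModI I E ∧ ∀ x, σ (ψ x) = X.point x := by
  obtain ⟨η, h1, h2⟩ := Hens.exists_cutting A I X
  let E := Localization.Away η
  let σ : E →ₐ[A] A ⧸ I := IsLocalization.liftAlgHom (M := Submonoid.powers η)
    (f := X.point) fun ⟨_, n, hn⟩ ↦ by subst hn; simp [h1]
  let ψ := IsScalarTower.toAlgHom A X.carrier E
  have hσ : ∀ x, σ (ψ x) = X.point x := fun x ↦ IsLocalization.lift_eq _ x
  have hker : ∀ z, σ z = 0 → z ∈ I.map (algebraMap A E) := by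
    intro z hz
    obtain ⟨x, ⟨_, n, rfl⟩, rfl⟩ := IsLocalization.exists_mk'_eq (Submonoid.powers η) z
    have e1 : IsLocalization.mk' E x (⟨η ^ n, n, rfl⟩ : Submonoid.powers η) * ψ (η ^ n) = ψ x :=
      IsLocalization.mk'_spec E x (⟨η ^ n, n, rfl⟩ : Submonoid.powers η)
    have hx : X.point x = 0 := by rw [← hσ, ← e1, map_mul, hz, zero_mul]
    have h3 := Ideal.mem_map_of_mem ψ.toRingHom (h2 x hx)
    rw [Ideal.map_map, AlgHom.toRingHom_eq_coe, ψ.comp_algebraMap] at h3
    simp only [AlgHom.coe_toRingHom, map_mul] at h3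
    have hu : IsUnit (ψ η) := IsLocalization.Away.algebraMap_isUnit η
    rw [Ideal.unit_mul_mem_iff_mem _ hu, ← e1, map_pow, mul_comm,
      Ideal.unit_mul_mem_iff_mem _ (hu.pow n)] at h3
    exact h3
  refine ⟨E, inferInstance, inferInstance, inferInstance, σ, ψ, ⟨?_, ?_⟩, hσ⟩
  · rw [injective_iff_map_eq_zero]
    intro a ha
    obtain ⟨a, rfl⟩ := Ideal.Quotient.mk_surjective a
    rw [Ideal.quotientMap_mk, Ideal.Quotient.eq_zero_iff_mem] at ha
    have hle : I.map (algebraMap A E) ≤ RingHom.ker σ.toRingHom :=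
      Ideal.map_le_iff_le_comap.mpr fun i hi ↦ by
        rw [Ideal.mem_comap, RingHom.mem_ker]
        exact (σ.commutes i).trans (Ideal.Quotient.eq_zero_iff_mem.mpr hi)
    exact (σ.commutes a).symm.trans (hle ha)
  · intro z
    obtain ⟨z, rfl⟩ := Ideal.Quotient.mk_surjective z
    obtain ⟨a, ha⟩ := Ideal.Quotient.mk_surjective (σ z)
    refine ⟨Ideal.Quotient.mk I a, ?_⟩
    rw [Ideal.quotientMap_mk, eq_comm, Ideal.Quotient.eq]
    exact hker _ (by rw [map_sub, AlgHom.commutes, ← ha, Ideal.Quotient.algebraMap_eq, sub_self])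

variable {B : Type u} [CommRing B] [Algebra A B]

theorem pairHenselization_jacobson (hB : Hens2.IsPairHenselization A I B) :
    I.map (algebraMap A B) ≤ Ideal.jacobson ⊥ :=
  hB.1.jac

theorem exists_algEquiv_hens_pair (hB : Hens2.IsPairHenselization A I B) :
    Nonempty (Hens A (A ⧸ I) ≃ₐ[A] B) :=
  exists_algEquiv_of_isPairHenselization (isPairHenselization_hens A I) hB

/-- Colimit description of a pair henselization. -/
theorem pairHenselization_colimit (hB : Hens2.IsPairHenselization A I B) :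
    (∀ (A' : Type u) [CommRing A'] [Algebra A A'] [Algebra.Etale A A'],
        IsTrivialModI I A' → Nonempty (Unique (A' →ₐ[A] B))) ∧
    (∀ x : B, ∃ (A' : Type u) (_ : CommRing A') (_ : Algebra A A') (_ : Algebra.Etale A A'),
        IsTrivialModI I A' ∧ ∃ (φ : A' →ₐ[A] B) (s : A'), φ s = x) ∧
    (∀ (A' : Type u) [CommRing A'] [Algebra A A'] [Algebra.Etale A A'],
        IsTrivialModI I A' → ∀ (φ : A' →ₐ[A] B) (s : A'), φ s = 0 →
            ∃ (A'' : Type u) (_ : CommRing A'') (_ : Algebra A A'') (_ : Algebra.Etale A A''),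
              IsTrivialModI I A'' ∧ ∃ ψ : A' →ₐ[A] A'', ψ s = 0) := by
  obtain ⟨e⟩ := exists_algEquiv_hens_pair hB
  have ha : ∀ (A' : Type u) [CommRing A'] [Algebra A A'] [Algebra.Etale A A'],
      IsTrivialModI I A' → ∃ σ : A' →ₐ[A] A ⧸ I, ∀ φ : A' →ₐ[A] B,
        φ = (e.toAlgHom.comp (Hens.of (Nbhd.mk' A' σ))).comp (Nbhd.equiv A' σ).symm.toAlgHom := by
    intro A' _ _ _ h
    obtain ⟨σ⟩ := h.exists_point
    exact ⟨σ, fun φ ↦ h.algHom_ext (pairHenselization_jacobson hB) _ _⟩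
  refine ⟨fun A' _ _ _ h ↦ ?_, fun x ↦ ?_, fun A' _ _ _ h φ s hs ↦ ?_⟩
  · obtain ⟨σ, hσ⟩ := ha A' h
    exact ⟨⟨⟨_⟩, hσ⟩⟩
  · obtain ⟨z, rfl⟩ := e.surjective x
    obtain ⟨X, x, rfl⟩ := Hens.exists_rep z
    obtain ⟨E, _, _, _, σ, ψ, hE, hψ⟩ := exists_trivial_nbhd X
    refine ⟨E, inferInstance, inferInstance, inferInstance, hE,
      (e.toAlgHom.comp (Hens.of (Nbhd.mk' E σ))).comp (Nbhd.equiv E σ).symm.toAlgHom, ψ x, ?_⟩
    exact congrArg e (Hens.of_hom (Nbhd.homMk' ψ hψ) x)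
  · obtain ⟨σ, hσ⟩ := ha A' h
    rw [hσ φ] at hs
    simp only [AlgHom.comp_apply, AlgEquiv.coe_toAlgHom, EmbeddingLike.map_eq_zero_iff] at hs
    rw [← map_zero (Hens.of (Nbhd.mk' A' σ)), Hens.of_eq_iff] at hs
    obtain ⟨Y, f, hf⟩ := hs
    obtain ⟨E, _, _, _, -, ψ, hE, -⟩ := exists_trivial_nbhd Y
    refine ⟨E, inferInstance, inferInstance, inferInstance, hE,
      (ψ.comp f.1).comp (Nbhd.equiv A' σ).symm.toAlgHom, ?_⟩
    change ψ (f.1 ((Nbhd.equiv A' σ).symm s)) = 0
    rw [hf, map_zero, map_zero]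

end Groth.Agent.Hensel

namespace Groth.Agent.Hensel

variable {A : Type u} [CommRing A] {I : Ideal A} {B : Type u} [CommRing B] [Algebra A B]

theorem pairHenselization_exists_sub_mem (hB : Hens2.IsPairHenselization A I B) (x : B) :
    ∃ a, x - algebraMap A B a ∈ I.map (algebraMap A B) := by
  obtain ⟨e⟩ := exists_algEquiv_hens_pair hB
  obtain ⟨z, rfl⟩ := e.surjective x
  obtain ⟨a, ha⟩ := eq_algebraMap_add_of_ker (R := A) (K := A ⧸ I) Ideal.Quotient.mk_surjective z
  refine ⟨a, ?_⟩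
  rw [Hens.ker_π_quotient] at ha
  have := Ideal.mem_map_of_mem e.toAlgHom.toRingHom ha
  rw [Ideal.map_map, AlgHom.toRingHom_eq_coe, AlgHom.comp_algebraMap] at this
  simpa using this

theorem pairHenselization_flat (hB : Hens2.IsPairHenselization A I B) : Module.Flat A B := by
  obtain ⟨e⟩ := exists_algEquiv_hens_pair hB
  exact Module.Flat.of_linearEquiv e.symm.toLinearEquiv

end Groth.Agent.Hensel
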