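import Groth.Agent.Hensel.Product
import Groth.Agent.Hensel.EtaleLift
import Mathlib.RingTheory.ZariskisMainTheorem
import Mathlib.RingTheory.LocalRing.ResidueField.Fiber
import Mathlib.RingTheory.LocalRing.Module
import Mathlib.RingTheory.Ideal.MinimalPrime.Noetherian

/-!
# Splitting finite type algebras over henselian local rings (ZMT)
-/

set_option autoImplicit false

universe u

open IsLocalRing TensorProduct

namespace Groth.Agent.Hensel

variable {R S : Type u} [CommRing R] [CommRing S] [Algebra R S]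

theorem finite_quasiFiniteAt_fiber [Algebra.FiniteType R S] (p : Ideal R) [p.IsPrime] :
    {q : PrimeSpectrum S | q.asIdeal.LiesOver p ∧ Algebra.QuasiFiniteAt R q.asIdeal}.Finite := by
  let P : PrimeSpectrum R := ⟨p, inferInstance⟩
  have : IsNoetherianRing (p.Fiber S) := Algebra.FiniteType.isNoetherianRing p.ResidueField _
  set Q := {q : PrimeSpectrum S | q.asIdeal.LiesOver p ∧ Algebra.QuasiFiniteAt R q.asIdeal}
  let e := PrimeSpectrum.preimageHomeomorphFiber R S P
  have hmem : ∀ q : Q, PrimeSpectrum.comap (algebraMap R S) q.1 = P := fun q ↦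
    PrimeSpectrum.ext (q.2.1.over).symm
  let f : Q → PrimeSpectrum (p.Fiber S) := fun q ↦ e ⟨q.1, hmem q⟩
  have hf : Function.Injective f := fun a b h ↦ by
    have := congrArg Subtype.val (e.injective h)
    exact Subtype.ext this
  have hmin : ∀ q, (f q).asIdeal ∈ minimalPrimes (p.Fiber S) := by
    intro q
    have := q.2.2
    have hopen := (Algebra.quasiFiniteAt_iff_isOpen_singleton_fiber (R := R) q.1).mp this
    have hopen' : IsOpen ({f q} : Set (PrimeSpectrum (p.Fiber S))) := by
      have h : IsOpen (X := PrimeSpectrum.comap (algebraMap R S) ⁻¹' {P}) {⟨q.1, hmem q⟩} := by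
        have hP : PrimeSpectrum.comap (algebraMap R S) q.1 = P := hmem q
        generalize hmem q = hh
        revert hh
        rw [← hP]
        intro hh
        exact hopen
      have := e.isOpenMap _ h
      rwa [Set.image_singleton] at this
    rw [← PrimeSpectrum.isMin_iff]
    intro y hy
    have := hopen'.stableUnderGeneralization ((PrimeSpectrum.le_iff_specializes _ _).mp hy) rfl
    exact (Set.mem_singleton_iff.mp this).ge
  have : Finite Q := by
    have := (minimalPrimes.finite_of_isNoetherianRing (p.Fiber S)).to_subtype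
    exact Finite.of_injective (fun q ↦ (⟨(f q).asIdeal, hmin q⟩ : minimalPrimes (p.Fiber S)))
      fun a b h ↦ hf (PrimeSpectrum.ext congr(Subtype.val $h))
  exact Set.toFinite Q

/-- Quasi-finiteness at a prime of an idempotent quotient passes to the ring. -/
theorem quasiFiniteAt_of_idem_quotient {ε : S} (hε : IsIdempotentElem ε)
    (q' : Ideal (S ⧸ Ideal.span {ε})) [q'.IsPrime] [Algebra.QuasiFiniteAt R q'] :
    Algebra.QuasiFiniteAt R (q'.comap (Ideal.Quotient.mk (Ideal.span {ε}))) := by
  set q := q'.comap (Ideal.Quotient.mk (Ideal.span {ε})) with hq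
  have hεq : ε ∈ q := by simp [hq, Ideal.Quotient.eq_zero_iff_mem.mpr (Ideal.mem_span_singleton_self ε)]
  have hε0 : algebraMap S (Localization.AtPrime q) ε = 0 := by
    refine (IsLocalization.map_eq_zero_iff q.primeCompl _ _).mpr ⟨⟨1 - ε, fun h ↦ ?_⟩, ?_⟩
    · exact (inferInstance : q.IsPrime).ne_top ((Ideal.eq_top_iff_one q).mpr
        (by simpa using add_mem h hεq))
    · change (1 - ε) * ε = 0
      rw [sub_mul, one_mul, hε.eq, sub_self]
  let g : (S ⧸ Ideal.span {ε}) →ₐ[R] Localization.AtPrime q :=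
    Ideal.Quotient.liftₐ _ (IsScalarTower.toAlgHom R S _) (fun a ha ↦ by
      obtain ⟨c, rfl⟩ := Ideal.mem_span_singleton.mp ha
      simp [hε0])
  have hg : ∀ x, g (Ideal.Quotient.mk _ x) = algebraMap S (Localization.AtPrime q) x := fun x ↦ rfl
  let φ : Localization.AtPrime q' →ₐ[R] Localization.AtPrime q :=
    IsLocalization.liftAlgHom (M := q'.primeCompl) (f := g) fun ⟨y, hy⟩ ↦ by
      obtain ⟨y, rfl⟩ := Ideal.Quotient.mk_surjective y
      rw [hg]
      exact IsLocalization.map_units (M := q.primeCompl) _ ⟨y, hy⟩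
  refine Algebra.QuasiFinite.of_surjective_algHom φ fun z ↦ ?_
  obtain ⟨x, ⟨s, hs⟩, rfl⟩ := IsLocalization.exists_mk'_eq q.primeCompl z
  refine ⟨IsLocalization.mk' _ (Ideal.Quotient.mk _ x) (⟨Ideal.Quotient.mk _ s, hs⟩ : q'.primeCompl), ?_⟩
  change IsLocalization.lift _ _ = _
  rw [IsLocalization.lift_mk'_spec, eq_comm]
  change algebraMap S _ s * IsLocalization.mk' _ x _ = algebraMap S _ x
  rw [mul_comm]
  exact IsLocalization.mk'_spec _ x _

/-- Zariski's main theorem over a henselian local ring: split off the quasi-finite part. -/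
theorem exists_idem_split [HenselianLocalRing R] [Algebra.FiniteType R S] :
    ∃ e : S, IsIdempotentElem e ∧ Module.Finite R (S ⧸ Ideal.span ({1 - e} : Set S)) ∧
      (∀ q : PrimeSpectrum S, q.asIdeal.LiesOver (maximalIdeal R) →
        Algebra.QuasiFiniteAt R q.asIdeal → e ∉ q.asIdeal) ∧
      ∀ (q : Ideal (S ⧸ Ideal.span ({e} : Set S))) [q.IsPrime],
        q.LiesOver (maximalIdeal R) → ¬ Algebra.QuasiFiniteAt R q := by
  classical
  set Q := {q : PrimeSpectrum S | q.asIdeal.LiesOver (maximalIdeal R) ∧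
    Algebra.QuasiFiniteAt R q.asIdeal}
  have : Finite Q := (finite_quasiFiniteAt_fiber (maximalIdeal R)).to_subtype
  let := Fintype.ofFinite Q
  have hz : ∀ q : Q, ∃ (B' : Subalgebra R S), B'.toSubmodule.FG ∧ ∃ r ∈ B', r ∉ q.1.asIdeal ∧
      ∀ x, ∃ k, r ^ k * x ∈ B' := by
    intro q
    have := q.2.2
    obtain ⟨B', hB', r, hr, hbij⟩ :=
      Algebra.QuasiFiniteAt.exists_fg_and_exists_notMem_and_awayMap_bijective (R := R) q.1.asIdeal
    refine ⟨B', hB', r, r.2, hr, fun x ↦ ?_⟩
    obtain ⟨z, hz⟩ := hbij.2 (algebraMap S (Localization.Away (r.1)) x)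
    obtain ⟨m', y, hy⟩ := IsLocalization.Away.surj r z
    have : algebraMap S (Localization.Away (r.1)) (x * r.1 ^ m') =
        algebraMap S (Localization.Away (r.1)) y.1 := by
      have e := congr(Localization.awayMap B'.val.toRingHom r $hy)
      simp only [map_mul, map_pow, hz] at e
      simp only [Localization.awayMap, IsLocalization.Away.map, IsLocalization.map_eq] at e
      rw [map_mul, map_pow]
      exact e
    obtain ⟨⟨_, j, rfl⟩, hj⟩ :=
      (IsLocalization.eq_iff_exists (Submonoid.powers r.1) _).mp this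
    refine ⟨j + m', ?_⟩
    rw [show r.1 ^ (j + m') * x = r.1 ^ j * (x * r.1 ^ m') by ring, hj]
    exact mul_mem (pow_mem r.2 j) y.2
  choose Bf hBf r hrB hrq hloc using hz
  choose G hG using fun q : Q ↦ hBf q
  let B : Subalgebra R S := Algebra.adjoin R (⋃ q : Q, (G q : Set S))
  have hGB : ∀ q, Bf q ≤ B := fun q ↦ by
    have : (Bf q).toSubmodule ≤ B.toSubmodule := by
      rw [← hG q, Submodule.span_le]
      exact fun y hy ↦ Algebra.subset_adjoin (Set.mem_iUnion.mpr ⟨q, hy⟩)
    exact this
  have hBfg : B.toSubmodule.FG := by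
    refine fg_adjoin_of_finite (Set.finite_iUnion fun x ↦ (G x).finite_toSet) fun y hy ↦ ?_
    obtain ⟨x, hx⟩ := Set.mem_iUnion.mp hy
    exact IsIntegral.of_mem_of_fg (Bf x) (hBf x) y
      (show y ∈ (Bf x).toSubmodule from hG x ▸ Submodule.subset_span hx)
  have : Module.Finite R B := ⟨(Submodule.fg_top _).mpr hBfg⟩
  obtain ⟨hfin, h'⟩ := exists_idem_of_surjOn (A := R) (B := B)
    (idempotents_bijOn gabberRoot_of_henselianLocalRing B).surjOn
  let := Fintype.ofFinite (MaximalSpectrum B)
  obtain ⟨e, he, hne⟩ := h'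
  have hover : ∀ q : Q, (q.1.asIdeal.comap (algebraMap R S)) = maximalIdeal R := fun q ↦ q.2.1.over.symm
  have hmaxB : ∀ q : Q, (q.1.asIdeal.comap B.val.toRingHom).IsMaximal := fun q ↦ by
    refine Ideal.isMaximal_of_isIntegral_of_isMaximal_comap (R := R) _ ?_
    rw [Ideal.comap_comap, show B.val.toRingHom.comp (algebraMap R B) = algebraMap R S from rfl, hover]
    exact maximalIdeal.isMaximal R
  let n : Q → MaximalSpectrum B := fun q ↦ ⟨_, hmaxB q⟩
  let F : Finset (MaximalSpectrum B) := Finset.univ.image n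
  set ε : B := ∑ m ∈ F, e m
  have hεi : IsIdempotentElem ε := he.toOrthogonalIdempotents.isIdempotentElem_sum
  have hεS : IsIdempotentElem ε.1 := congr(Subtype.val $hεi.eq)
  have hnot : ∀ q : Q, ε.1 ∉ q.1.asIdeal := fun q hmem ↦ by
    have hm : ε * e (n q) ∈ (n q).asIdeal := Ideal.mul_mem_right _ _ hmem
    rw [mul_comm, he.toOrthogonalIdempotents.mul_sum_of_mem
      (Finset.mem_image_of_mem n (Finset.mem_univ q))] at hm
    exact hne _ hm
  have hmul : ∀ x : S, ε.1 * x ∈ B := by
    intro x
    rw [show ε.1 = ∑ m ∈ F, (e m).1 from AddSubmonoidClass.coe_finsetSum _ _, Finset.sum_mul]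
    refine sum_mem fun m hm ↦ ?_
    obtain ⟨q, -, rfl⟩ := Finset.mem_image.mp hm
    let rq : B := ⟨r q, hGB q (hrB q)⟩
    have := isLocalRing_quotient_one_sub he hne (n q)
    obtain ⟨z, hz⟩ : ∃ z, e (n q) * (z * rq) = e (n q) := by
      have hu : IsUnit (Ideal.Quotient.mk (Ideal.span {1 - e (n q)}) rq) := by
        by_contra hns
        rw [← mem_nonunits_iff, ← IsLocalRing.mem_maximalIdeal] at hns
        have hQmax : ((maximalIdeal _).comap
            (Ideal.Quotient.mk (Ideal.span {1 - e (n q)}))).IsMaximal :=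
          Ideal.comap_isMaximal_of_surjective _ Ideal.Quotient.mk_surjective
        have hne' : (⟨_, hQmax⟩ : MaximalSpectrum B) ≠ n q := fun h' ↦
          hrq q (show rq ∈ (n q).asIdeal from (congrArg MaximalSpectrum.asIdeal h') ▸ hns)
        refine hQmax.ne_top ((Ideal.eq_top_iff_one _).mpr ?_)
        have h1 : 1 - e (n q) ∈ (maximalIdeal _).comap (Ideal.Quotient.mk (Ideal.span {1 - e (n q)})) := by
          simp [Ideal.Quotient.eq_zero_iff_mem.mpr (Ideal.mem_span_singleton_self (1 - e (n q)))]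
        simpa using add_mem h1 ((idem_notMem_iff he hne (n q) ⟨_, hQmax⟩).mpr hne'.symm)
      obtain ⟨u, hu'⟩ := hu
      obtain ⟨z, hz⟩ := Ideal.Quotient.mk_surjective (u⁻¹).1
      have h2 : Ideal.Quotient.mk (Ideal.span {1 - e (n q)}) (z * rq) = 1 := by
        rw [map_mul, hz, ← hu', Units.inv_mul]
      rw [← map_one (Ideal.Quotient.mk (Ideal.span {1 - e (n q)})), Ideal.Quotient.eq,
        Ideal.mem_span_singleton] at h2
      obtain ⟨c, hc⟩ := h2
      exact ⟨z, by linear_combination (e (n q)) * hc - c * (he.idem (n q)).eq⟩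
    obtain ⟨k, hk⟩ := hloc q x
    have hpow : e (n q) * (z * rq) ^ k = e (n q) := by
      induction k generalizing x with
      | zero => simp
      | succ k ih =>
        clear ih hk
        induction k with
        | zero => simpa using hz
        | succ j ih => rw [pow_succ, ← mul_assoc, ih, hz]
    have heq : (e (n q)).1 * x = (e (n q)).1 * z.1 ^ k * (r q ^ k * x) := by
      conv_lhs => rw [← hpow]
      simp [mul_pow, rq]; ring
    rw [heq]
    exact mul_mem (mul_mem (e (n q)).2 (pow_mem z.2 k)) (hGB q hk)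
  refine ⟨ε.1, hεS, ?_, fun q h1 h2 ↦ hnot ⟨q, h1, h2⟩, fun q' _ hq' hQF ↦ ?_⟩
  · refine Module.Finite.of_surjective
      (((Ideal.Quotient.mkₐ R (Ideal.span {1 - ε.1})).comp B.val).toLinearMap) fun y ↦ ?_
    obtain ⟨x, rfl⟩ := Ideal.Quotient.mk_surjective y
    refine ⟨⟨ε.1 * x, hmul x⟩, ?_⟩
    change Ideal.Quotient.mk _ (ε.1 * x) = Ideal.Quotient.mk _ x
    rw [Ideal.Quotient.eq, Ideal.mem_span_singleton]
    exact ⟨-x, by ring⟩
  · set q := q'.comap (Ideal.Quotient.mk (Ideal.span {ε.1})) with hq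
    have hQF' : Algebra.QuasiFiniteAt R q := quasiFiniteAt_of_idem_quotient hεS q'
    have hl : q.LiesOver (maximalIdeal R) := ⟨by
      rw [hq'.over, hq, Ideal.under_def, Ideal.under_def, Ideal.comap_comap]; rfl⟩
    exact hnot ⟨⟨q, inferInstance⟩, hl, hQF'⟩
      (by simp [hq, Ideal.Quotient.eq_zero_iff_mem.mpr (Ideal.mem_span_singleton_self ε.1)])

/-- Localization of the finite factor at one of its primes over the closed point. -/
theorem finite_localization_of_quasiFiniteAt [HenselianLocalRing R] [Algebra.FiniteType R S]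
    (q : Ideal S) [q.IsPrime] [hq : q.LiesOver (maximalIdeal R)] [Algebra.QuasiFiniteAt R q] :
    Module.Finite R (Localization.AtPrime q) := by
  obtain ⟨e, he, hfin, hmem, -⟩ := exists_idem_split (R := R) (S := S)
  have heq : e ∉ q := hmem ⟨q, inferInstance⟩ hq inferInstance
  let T := S ⧸ Ideal.span ({1 - e} : Set S)
  have he1 : algebraMap S (Localization.AtPrime q) (1 - e) = 0 := by
    refine (IsLocalization.map_eq_zero_iff q.primeCompl _ _).mpr ⟨⟨e, heq⟩, ?_⟩
    change e * (1 - e) = 0
    rw [mul_sub, mul_one, he.eq, sub_self]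
  let g : T →ₐ[R] Localization.AtPrime q :=
    Ideal.Quotient.liftₐ _ (IsScalarTower.toAlgHom R S _) (fun a ha ↦ by
      obtain ⟨c, rfl⟩ := Ideal.mem_span_singleton.mp ha
      simp [he1])
  set n : Ideal T := q.map (Ideal.Quotient.mk _)
  have hle : Ideal.span ({1 - e} : Set S) ≤ q := by
    rw [Ideal.span_singleton_le_iff_mem]
    exact ((inferInstance : q.IsPrime).mem_or_mem (show e * (1 - e) ∈ q by
      rw [mul_sub, mul_one, he.eq, sub_self]; exact zero_mem _)).resolve_left heq
  have hcomap : n.comap (Ideal.Quotient.mk _) = q := by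
    rw [Ideal.comap_map_of_surjective _ Ideal.Quotient.mk_surjective, ← RingHom.ker_eq_comap_bot,
      Ideal.mk_ker, sup_eq_left.mpr hle]
  have : n.IsPrime := Ideal.map_isPrime_of_surjective Ideal.Quotient.mk_surjective (by rw [Ideal.mk_ker]; exact hle)
  have hnmax : n.IsMaximal := by
    refine Ideal.isMaximal_of_isIntegral_of_isMaximal_comap (R := R) n ?_
    rw [show n.comap (algebraMap R T) = (n.comap (Ideal.Quotient.mk _)).comap (algebraMap R S) from
      (Ideal.comap_comap _ _).symm, hcomap, ← Ideal.under_def, ← hq.over]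
    exact maximalIdeal.isMaximal R
  obtain ⟨-, hb⟩ := bijective_pi_localization_of_surjOn (A := R) (B := T)
    (idempotents_bijOn gabberRoot_of_henselianLocalRing T).surjOn
  refine Module.Finite.of_surjective g.toLinearMap fun z ↦ ?_
  obtain ⟨x, ⟨s, hs⟩, rfl⟩ := IsLocalization.exists_mk'_eq q.primeCompl z
  have hs' : Ideal.Quotient.mk _ s ∈ n.primeCompl := fun h ↦ hs (hcomap ▸ h)
  obtain ⟨t, ht⟩ : ∃ t, algebraMap T (Localization.AtPrime n) t =
      IsLocalization.mk' _ (Ideal.Quotient.mk _ x) (⟨_, hs'⟩ : n.primeCompl) := by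
    classical
    obtain ⟨t, ht⟩ := hb.2 (Pi.single (M := fun m : MaximalSpectrum T ↦ Localization.AtPrime m.asIdeal)
      ⟨n, hnmax⟩ (IsLocalization.mk' _ (Ideal.Quotient.mk _ x) (⟨_, hs'⟩ : n.primeCompl)))
    exact ⟨t, (congrFun ht ⟨n, hnmax⟩).trans (Pi.single_eq_same _ _)⟩
  rw [IsLocalization.eq_mk'_iff_mul_eq, ← map_mul] at ht
  obtain ⟨⟨w, hw⟩, hw'⟩ := (IsLocalization.eq_iff_exists n.primeCompl _).mp ht
  refine ⟨t, ?_⟩
  change g t = _
  rw [IsLocalization.eq_mk'_iff_mul_eq]
  obtain ⟨w, rfl⟩ := Ideal.Quotient.mk_surjective w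
  have hwq : w ∈ q.primeCompl := fun h ↦ hw (Ideal.mem_map_of_mem _ h)
  have h2 := congr(g $hw')
  simp only [map_mul] at h2
  exact (IsLocalization.map_units (Localization.AtPrime q) (⟨w, hwq⟩ : q.primeCompl)).mul_left_cancel h2

/-- A finite flat retraction: `R → T` surjective with `T` finite flat nonzero is bijective. -/
theorem bijective_of_surjective_of_finite_flat [IsLocalRing R] {T : Type u} [CommRing T] [Algebra R T]
    [Nontrivial T] [Module.Flat R T] (hs : Function.Surjective (algebraMap R T)) :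
    Function.Bijective (algebraMap R T) := by
  have : Module.Finite R T := Module.Finite.of_surjective (Algebra.linearMap R T) hs
  have : Module.Free R T := Module.free_of_flat_of_isLocalRing
  refine ⟨(injective_iff_map_eq_zero _).mpr fun x hx ↦ ?_, hs⟩
  let b := Module.Free.chooseBasis R T
  have hne : Nonempty (Module.Free.ChooseBasisIndex R T) := b.index_nonempty
  obtain ⟨i⟩ := hne
  have h0 : x • b i = 0 := by rw [Algebra.smul_def, hx, zero_mul]
  simpa using congr(b.repr $h0 i)

set_option maxHeartbeats 800000 in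
/-- A finite type splitting property gives henselianity. -/
theorem henselianLocalRing_of_split [IsLocalRing R]
    (h : ∀ (E : Type u) [CommRing E] [Algebra R E] [Algebra.Etale R E] (q : Ideal E) [q.IsPrime],
      q.LiesOver (maximalIdeal R) → Module.Finite R (Localization.AtPrime q)) :
    HenselianLocalRing R := by
  refine henselianLocalRing_of_retraction fun E _ _ _ σ ↦ ?_
  set q := RingHom.ker σ.toRingHom with hq
  have hqp : q.IsPrime := RingHom.ker_isPrime _
  have hl : q.LiesOver (maximalIdeal R) := ⟨by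
    ext r
    simp [hq, Ideal.under_def, RingHom.mem_ker, IsLocalRing.ResidueField.algebraMap_eq]⟩
  have := h E q hl
  -- the section of the closed fibre is cut out by an element which is `1` at `q`
  obtain ⟨η, hση, hη⟩ : ∃ η : E, σ η = 1 ∧ ∀ x, σ x = 0 → η * x ∈ (maximalIdeal R).map (algebraMap R E) := by
    let σ₀ : E →ₐ[R] R ⧸ maximalIdeal R := σ
    let σ' : (R ⧸ maximalIdeal R) ⊗[R] E →ₐ[(R ⧸ maximalIdeal R)] (R ⧸ maximalIdeal R) :=
      Algebra.TensorProduct.lift (AlgHom.id _ _) σ₀ fun _ _ ↦ .all _ _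
    have hσ' : ∀ x, σ' (1 ⊗ₜ x) = σ x := fun x ↦ (Algebra.TensorProduct.lift_tmul _ _ _ 1 x).trans (one_mul _)
    have hsurj : Function.Surjective σ' := fun x ↦ ⟨algebraMap _ _ x, σ'.commutes x⟩
    let := σ'.toAlgebra
    have : IsScalarTower (R ⧸ maximalIdeal R) ((R ⧸ maximalIdeal R) ⊗[R] E) (R ⧸ maximalIdeal R) := .of_algebraMap_eq' σ'.comp_algebraMap.symm
    obtain ⟨e, he, hspan⟩ :=
      (Ideal.isIdempotentElem_iff_of_fg _
        (Algebra.FinitePresentation.ker_fG_of_surjective σ' hsurj)).mp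
        ((Algebra.FormallyEtale.iff_of_surjective hsurj).mp (.of_restrictScalars (R := (R ⧸ maximalIdeal R))))
    obtain ⟨ε, rfl⟩ := Algebra.TensorProduct.includeRight_surjective E
      (Ideal.Quotient.mk_surjective (I := maximalIdeal R) : Function.Surjective (algebraMap R (R ⧸ maximalIdeal R))) e
    refine ⟨1 - ε, ?_, fun x hx ↦ ?_⟩
    · have h0 : σ ε = 0 := (hσ' ε).symm.trans (hspan.ge (Ideal.mem_span_singleton_self _))
      rw [map_sub, map_one, h0, sub_zero]
    · have h1 : ((1 : (R ⧸ maximalIdeal R)) ⊗ₜ[R] x) ∈ RingHom.ker σ'.toRingHom := (hσ' x).trans hx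
      rw [hspan] at h1
      obtain ⟨z, hz⟩ := Ideal.mem_span_singleton'.mp h1
      have h2 : (1 - Algebra.TensorProduct.includeRight ε) * ((1 : (R ⧸ maximalIdeal R)) ⊗ₜ[R] x) = 0 := by
        rw [← hz]; linear_combination -z * he.eq
      have h3 : (1 : (R ⧸ maximalIdeal R)) ⊗ₜ[R] ((1 - ε) * x) = 0 := by
        rw [← h2]; simp [sub_mul, TensorProduct.tmul_sub]
      have h4 := congr(TensorProduct.quotTensorEquivQuotSMul E (maximalIdeal R) $h3)
      rw [TensorProduct.quotTensorEquivQuotSMul_mk_one_tmul, map_zero,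
        Submodule.Quotient.mk_eq_zero, Ideal.smul_top_eq_map] at h4
      exact h4
  set T := Localization.AtPrime q
  have hηu : IsUnit (algebraMap E T η) :=
    IsLocalization.map_units (M := q.primeCompl) _ ⟨η, fun hh ↦ one_ne_zero (hση.symm.trans hh)⟩
  have hqT : ∀ x, σ x = 0 → algebraMap E T x ∈ (maximalIdeal R).map (algebraMap R T) := by
    intro x hx
    have h1 := Ideal.mem_map_of_mem (algebraMap E T) (hη x hx)
    rw [Ideal.map_map, ← IsScalarTower.algebraMap_eq, map_mul] at h1
    exact (Ideal.unit_mul_mem_iff_mem _ hηu).mp h1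
  have hs : Function.Surjective (Algebra.linearMap R T) := by
    rw [← LinearMap.range_eq_top]
    refine eq_top_iff.mpr (Submodule.le_of_le_smul_of_le_jacobson_bot Module.Finite.fg_top
      (jacobson_eq_maximalIdeal ⊥ bot_ne_top).ge fun z _ ↦ ?_)
    obtain ⟨x, ⟨s, hs⟩, rfl⟩ := IsLocalization.exists_mk'_eq q.primeCompl z
    obtain ⟨a, ha⟩ := residue_surjective (R := R) (σ x)
    obtain ⟨b, hb⟩ := residue_surjective (R := R) (σ s)
    have hb0 : IsUnit b := (residue_ne_zero_iff_isUnit b).mp (by rw [hb]; exact hs)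
    obtain ⟨c, hc⟩ := hb0.exists_left_inv
    have hsx : σ (x - algebraMap R E (a * c) * s) = 0 := by
      rw [map_sub, map_mul, σ.commutes, ← hb, ← ha, sub_eq_zero]
      change residue R a = residue R (a * c) * residue R b
      rw [← map_mul, mul_assoc, hc, mul_one]
    have hmem : IsLocalization.mk' T x ⟨s, hs⟩ - algebraMap R T (a * c) ∈
        (maximalIdeal R).map (algebraMap R T) := by
      refine (Ideal.unit_mul_mem_iff_mem _ (IsLocalization.map_units T (⟨s, hs⟩ : q.primeCompl))).mp ?_
      have := hqT _ hsx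
      rw [map_sub, map_mul, ← IsScalarTower.algebraMap_apply] at this
      rwa [mul_sub, IsLocalization.mk'_spec', mul_comm (algebraMap E T s) (algebraMap R T (a * c))]
    rw [show IsLocalization.mk' T x ⟨s, hs⟩ = algebraMap R T (a * c) +
      (IsLocalization.mk' T x ⟨s, hs⟩ - algebraMap R T (a * c)) by ring]
    refine Submodule.add_mem_sup ⟨a * c, rfl⟩ ?_
    rw [Ideal.smul_top_eq_map]
    exact hmem
  have : Module.Flat R T := Module.Flat.trans R E T
  let e₁ : R ≃ₐ[R] T := AlgEquiv.ofBijective (Algebra.ofId R T)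
    (bijective_of_surjective_of_finite_flat hs)
  exact ⟨e₁.symm.toAlgHom.comp (IsScalarTower.toAlgHom R E T)⟩

end Groth.Agent.Hensel

namespace Groth.Agent.Hensel

variable {R S : Type u} [CommRing R] [CommRing S] [Algebra R S]

/-- A quasi-finite algebra with no quasi-finite prime over the closed point has empty closed fibre. -/
theorem map_maximalIdeal_eq_top [IsLocalRing R] [Algebra.QuasiFinite R S]
    (h : ∀ (q : Ideal S) [q.IsPrime], q.LiesOver (maximalIdeal R) → ¬ Algebra.QuasiFiniteAt R q) :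
    (maximalIdeal R).map (algebraMap R S) = ⊤ := by
  by_contra hne
  obtain ⟨M, hM, hle⟩ := Ideal.exists_le_maximal _ hne
  have hl : M.LiesOver (maximalIdeal R) := ⟨(Ideal.IsMaximal.eq_of_le
    (maximalIdeal.isMaximal R) (Ideal.comap_ne_top _ hM.ne_top) (Ideal.map_le_iff_le_comap.mp hle))⟩
  exact h M hl inferInstance

/-- If every finite type algebra splits, quasi-finite local rings are finite. -/
theorem finite_localization_of_split [IsLocalRing R]
    (h : ∀ (S : Type u) [CommRing S] [Algebra R S] [Algebra.FiniteType R S],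
      ∃ e : S, IsIdempotentElem e ∧ Module.Finite R (S ⧸ Ideal.span ({1 - e} : Set S)) ∧
        ∀ (q : Ideal (S ⧸ Ideal.span ({e} : Set S))) [q.IsPrime],
          q.LiesOver (maximalIdeal R) → ¬ Algebra.QuasiFiniteAt R q)
    [Algebra.FiniteType R S] [Algebra.QuasiFinite R S]
    (q : Ideal S) [q.IsPrime] [q.LiesOver (maximalIdeal R)] :
    Module.Finite R (Localization.AtPrime q) := by
  obtain ⟨g, hgq, hg⟩ := Ideal.exists_not_mem_forall_mem_of_ne_of_liesOver (maximalIdeal R) q
  let E' := Localization.Away g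
  let g₁ : E' →ₐ[R] Localization.AtPrime q := IsLocalization.liftAlgHom (M := Submonoid.powers g)
    (f := IsScalarTower.toAlgHom R S (Localization.AtPrime q)) fun ⟨_, n, hn⟩ ↦ by
      subst hn
      exact IsLocalization.map_units (M := q.primeCompl) _
        ⟨g ^ n, fun h ↦ hgq ((inferInstance : q.IsPrime).mem_of_pow_mem n h)⟩
  have hg₁ : ∀ x : S, g₁ (algebraMap S E' x) = algebraMap S _ x := fun x ↦
    IsLocalization.lift_eq _ x
  have : Algebra.FiniteType R E' := .trans (S := S) inferInstance inferInstance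
  have : Algebra.QuasiFinite R E' := Algebra.QuasiFinite.of_isLocalization (Submonoid.powers g)
  obtain ⟨e, he, hfin, hno⟩ := h E'
  have he' : g₁ e = 1 := by
    rcases IsLocalRing.isUnit_or_isUnit_one_sub_self (g₁ e) with hu | hu
    · exact hu.mul_left_cancel (by rw [mul_one]; exact (he.map g₁).eq)
    · exfalso
      have h0 : g₁ e = 0 := hu.mul_left_cancel (by rw [sub_mul, one_mul, (he.map g₁).eq]; simp)
      let g₂ : E' ⧸ Ideal.span {e} →ₐ[R] Localization.AtPrime q :=
        Ideal.Quotient.liftₐ _ g₁ (fun a ha ↦ by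
          obtain ⟨c, rfl⟩ := Ideal.mem_span_singleton.mp ha
          simp [h0])
      refine hno ((maximalIdeal _).comap g₂.toRingHom) ⟨?_⟩ inferInstance
      rw [Ideal.under_def, Ideal.comap_comap, AlgHom.toRingHom_eq_coe, g₂.comp_algebraMap,
        IsScalarTower.algebraMap_eq R S, ← Ideal.comap_comap,
        ← Ideal.under_def, ← Ideal.under_def, IsLocalization.AtPrime.under_maximalIdeal (Localization.AtPrime q) q]
      exact Ideal.LiesOver.over
  let T := E' ⧸ Ideal.span ({1 - e} : Set E')
  let φ : T →ₐ[R] Localization.AtPrime q :=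
    Ideal.Quotient.liftₐ _ g₁ (fun a ha ↦ by
      obtain ⟨c, rfl⟩ := Ideal.mem_span_singleton.mp ha
      simp [he'])
  refine Module.Finite.of_surjective φ.toLinearMap fun z ↦ ?_
  obtain ⟨x, ⟨s, hs⟩, rfl⟩ := IsLocalization.exists_mk'_eq q.primeCompl z
  let ψ : S →ₐ[R] T := (Ideal.Quotient.mkₐ R _).comp (IsScalarTower.toAlgHom R S E')
  have hψ : ∀ y, φ (ψ y) = algebraMap S _ y := hg₁
  have hu : IsUnit (ψ s) := by
    by_contra hns
    obtain ⟨n, hn, hsn⟩ := exists_max_ideal_of_mem_nonunits hns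
    let P := n.comap ψ.toRingHom
    have hP : P.LiesOver (maximalIdeal R) := ⟨by
      rw [Ideal.under_def, Ideal.comap_comap, AlgHom.toRingHom_eq_coe, ψ.comp_algebraMap]
      exact (eq_maximalIdeal (Ideal.isMaximal_comap_of_isIntegral_of_isMaximal n)).symm⟩
    have hgP : g ∉ P := fun hh ↦ by
      refine hn.ne_top (n.eq_top_of_isUnit_mem hh ?_)
      exact (IsLocalization.Away.algebraMap_isUnit (S := E') g).map (Ideal.Quotient.mk _)
    have hPq : P = q := by
      by_contra hne
      exact hgP (hg P inferInstance hne hP)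
    exact hs (hPq ▸ (hsn : s ∈ P))
  obtain ⟨w, hw⟩ := hu.exists_left_inv
  refine ⟨w * ψ x, ?_⟩
  change φ (w * ψ x) = _
  rw [IsLocalization.eq_mk'_iff_mul_eq, map_mul, hψ, mul_right_comm]
  have h1 := congr(φ $hw)
  rw [map_mul, map_one, hψ] at h1
  rw [h1, one_mul]

end Groth.Agent.Hensel
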