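import Mathlib
import Groth.Prelude.Def_Hensel
import Groth.Agent.Hensel.IntegralSub

/-!
Integrality of the maps between strict henselizations of quasi-finite algebras.
-/

set_option autoImplicit false
universe u

namespace Groth.Agent.Hensel.StrictMap

open IsLocalRing

theorem isUnit_map {B : Type u} [CommRing B] (q : Ideal B) [q.IsPrime] {T : Type u} [CommRing T]
    [Algebra (Localization.AtPrime q) T] [Algebra B T] [IsScalarTower B (Localization.AtPrime q) T]
    {g : B} (hg : g ∉ q) : IsUnit (algebraMap B T g) := by
  rw [IsScalarTower.algebraMap_apply B (Localization.AtPrime q) T]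
  exact (IsLocalization.map_units (Localization.AtPrime q) (⟨g, hg⟩ : q.primeCompl)).map _

/-- Integrality of `Ash → Bsh` when all elements of `B` give integral elements. -/
theorem isIntegral_of_forall {A : Type u} [CommRing A] (pA : Ideal A) [pA.IsPrime]
    {Ash : Type u} [CommRing Ash] [IsLocalRing Ash] [Algebra (Localization.AtPrime pA) Ash]
    [IsLocalHom (algebraMap (Localization.AtPrime pA) Ash)]
    [_root_.Hensel.IsStrictHenselization (Localization.AtPrime pA) Ash]
    {B : Type u} [CommRing B] (pB : Ideal B) [pB.IsPrime]
    {Bsh : Type u} [CommRing Bsh] [IsLocalRing Bsh] [Algebra (Localization.AtPrime pB) Bsh]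
    [IsLocalHom (algebraMap (Localization.AtPrime pB) Bsh)]
    [_root_.Hensel.IsStrictHenselization (Localization.AtPrime pB) Bsh]
    [Algebra Ash Bsh] [IsLocalHom (algebraMap Ash Bsh)]
    (hb : ∀ b : B, IsIntegral Ash (algebraMap (Localization.AtPrime pB) Bsh (algebraMap B _ b))) :
    Algebra.IsIntegral Ash Bsh := by
  haveI := _root_.Hensel.IsStrictHenselization.henselian (R := Localization.AtPrime pA) (S := Ash)
  haveI := (_root_.Hensel.IsStrictHenselization.isSepClosure (R := Localization.AtPrime pA) (S := Ash)).sep_closed
  exact IntegralSub.isIntegral_of_strictHenselization (H := Ash) (R := Localization.AtPrime pB) fun r =>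
    IntegralSub.localization_mem (integralClosure Ash Bsh) pB (Localization.AtPrime pB)
      (algebraMap (Localization.AtPrime pB) Bsh) hb r

end Groth.Agent.Hensel.StrictMap
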