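import Mathlib
import Groth.Agent.Hensel.IntegralSub

/-!
Tensor products of strict henselizations, when one of them is integral over the base one.
-/

set_option autoImplicit false
universe u

namespace Groth.Agent.Hensel.TensorSH

open IsLocalRing TensorProduct

theorem henselianLocalRing_of_isIntegral (H L : Type u) [CommRing H] [HenselianLocalRing H] [CommRing L]
    [IsLocalRing L] [Algebra H L] [IsLocalHom (algebraMap H L)] [Algebra.IsIntegral H L] : HenselianLocalRing L := by
  rw [henselianLocalRing_iff_henselianRing]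
  haveI : HenselianRing H (maximalIdeal H) := (henselianLocalRing_iff_henselianRing).1 inferInstance
  haveI := henselianRing_of_isIntegral (A := H) (I := maximalIdeal H) L
  have hrad : ((maximalIdeal H).map (algebraMap H L)).radical = maximalIdeal L := by
    refine le_antisymm ?_ ?_
    · refine ((maximalIdeal.isMaximal L).isPrime.radical_le_iff).2 (Ideal.map_le_iff_le_comap.2 ?_)
      rw [IsLocalRing.maximalIdeal_comap]
    · rw [Ideal.radical_eq_sInf]
      refine le_sInf fun P ⟨hle, hP⟩ => ?_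
      haveI := hP
      have hc : P.comap (algebraMap H L) = maximalIdeal H :=
        ((maximalIdeal.isMaximal H).eq_of_le (Ideal.IsPrime.ne_top inferInstance)
          (Ideal.map_le_iff_le_comap.1 hle)).symm
      haveI : (P.comap (algebraMap H L)).IsMaximal := hc ▸ maximalIdeal.isMaximal H
      exact (IsLocalRing.eq_maximalIdeal (Ideal.isMaximal_of_isIntegral_of_isMaximal_comap (R := H) P this)).ge
  rw [← hrad]
  exact henselianRing_radical_iff.2 inferInstance

variable (Ash Bsh Csh : Type u) [CommRing Ash] [IsLocalRing Ash] [IsSepClosed (ResidueField Ash)]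
  [CommRing Bsh] [IsLocalRing Bsh] [CommRing Csh] [IsLocalRing Csh]
  [Algebra Ash Bsh] [IsLocalHom (algebraMap Ash Bsh)] [Algebra Ash Csh] [IsLocalHom (algebraMap Ash Csh)]
  [Algebra.IsIntegral Ash Bsh]

theorem right_isIntegral :
    (Algebra.TensorProduct.includeRight : Csh →ₐ[Ash] Bsh ⊗[Ash] Csh).toRingHom.IsIntegral := by
  letI : Algebra Csh (Bsh ⊗[Ash] Csh) :=
    (Algebra.TensorProduct.includeRight : Csh →ₐ[Ash] Bsh ⊗[Ash] Csh).toRingHom.toAlgebra
  haveI : IsScalarTower Ash Csh (Bsh ⊗[Ash] Csh) :=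
    IsScalarTower.of_algebraMap_eq fun a => ((Algebra.TensorProduct.includeRight : Csh →ₐ[Ash] Bsh ⊗[Ash] Csh).commutes a).symm
  intro x
  change IsIntegral Csh x
  induction x using TensorProduct.induction_on with
  | zero => exact isIntegral_zero
  | add a b ha hb => exact ha.add hb
  | tmul b c =>
    rw [show b ⊗ₜ[Ash] c = (b ⊗ₜ[Ash] (1 : Csh)) * algebraMap Csh (Bsh ⊗[Ash] Csh) c from by
      change _ = _ * ((1 : Bsh) ⊗ₜ[Ash] c)
      rw [Algebra.TensorProduct.tmul_mul_tmul, mul_one, one_mul]]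
    refine IsIntegral.mul ?_ isIntegral_algebraMap
    exact (((Algebra.IsIntegral.isIntegral (R := Ash) b).map
      (Algebra.TensorProduct.includeLeft : Bsh →ₐ[Ash] Bsh ⊗[Ash] Csh))).tower_top

/-- Maximal ideals of the tensor product contract to the maximal ideals. -/
theorem comap_eq_maximal (n : Ideal (Bsh ⊗[Ash] Csh)) [hn : n.IsMaximal] :
    n.comap (Algebra.TensorProduct.includeRight : Csh →ₐ[Ash] Bsh ⊗[Ash] Csh).toRingHom = maximalIdeal Csh ∧
      n.comap (Algebra.TensorProduct.includeLeft : Bsh →ₐ[Ash] Bsh ⊗[Ash] Csh).toRingHom = maximalIdeal Bsh := by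
  have h1 : n.comap (Algebra.TensorProduct.includeRight : Csh →ₐ[Ash] Bsh ⊗[Ash] Csh).toRingHom = maximalIdeal Csh :=
    IsLocalRing.eq_maximalIdeal (Ideal.isMaximal_comap_of_isIntegral_of_isMaximal' _ (right_isIntegral Ash Bsh Csh) n)
  refine ⟨h1, ?_⟩
  let P := n.comap (Algebra.TensorProduct.includeLeft : Bsh →ₐ[Ash] Bsh ⊗[Ash] Csh).toRingHom
  haveI : P.IsPrime := Ideal.comap_isPrime _ n
  have hc : P.comap (algebraMap Ash Bsh) = maximalIdeal Ash := by
    rw [← IsLocalRing.maximalIdeal_comap (algebraMap Ash Csh), ← h1, Ideal.comap_comap, Ideal.comap_comap]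
    congr 1
    exact RingHom.ext fun a => by
      change (algebraMap Ash Bsh a) ⊗ₜ[Ash] (1 : Csh) = (1 : Bsh) ⊗ₜ[Ash] (algebraMap Ash Csh a)
      rw [Algebra.algebraMap_eq_smul_one, Algebra.algebraMap_eq_smul_one, TensorProduct.smul_tmul]
  exact IsLocalRing.eq_maximalIdeal (Ideal.isMaximal_of_isIntegral_of_isMaximal_comap (R := Ash) P
    (hc ▸ maximalIdeal.isMaximal Ash))

theorem isLocalRing_tensor : IsLocalRing (Bsh ⊗[Ash] Csh) := by
  haveI : Nontrivial (Bsh ⊗[Ash] Csh) := by
    let Ω := AlgebraicClosure (ResidueField Csh)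
    haveI : Algebra.IsAlgebraic (ResidueField Ash) (ResidueField Bsh) := by
      refine ⟨fun x => ?_⟩
      obtain ⟨y, rfl⟩ := residue_surjective x
      obtain ⟨P, hP, hPy⟩ := Algebra.IsIntegral.isIntegral (R := Ash) y
      refine IsIntegral.isAlgebraic ⟨P.map (residue Ash), hP.map _, ?_⟩
      rw [Polynomial.eval₂_map, show (algebraMap (ResidueField Ash) (ResidueField Bsh)).comp (residue Ash) =
        (residue Bsh).comp (algebraMap Ash Bsh) from RingHom.ext fun _ => rfl, ← Polynomial.hom_eval₂, hPy, map_zero]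
    letI : Algebra (ResidueField Ash) Ω :=
      ((algebraMap (ResidueField Csh) Ω).comp (algebraMap (ResidueField Ash) (ResidueField Csh))).toAlgebra
    let e : ResidueField Bsh →ₐ[ResidueField Ash] Ω := IsAlgClosed.lift
    letI : Algebra Ash Ω := ((algebraMap (ResidueField Ash) Ω).comp (residue Ash)).toAlgebra
    let f : Bsh ⊗[Ash] Csh →ₐ[Ash] Ω := Algebra.TensorProduct.lift
      ⟨e.toRingHom.comp (residue Bsh), fun a => by
        change e (algebraMap (ResidueField Ash) (ResidueField Bsh) (residue Ash a)) = _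
        rw [e.commutes]; rfl⟩
      ⟨(algebraMap (ResidueField Csh) Ω).comp (residue Csh), fun a => rfl⟩ (fun _ _ => Commute.all _ _)
    exact f.toRingHom.domain_nontrivial
  refine IsLocalRing.of_unique_max_ideal ?_
  obtain ⟨n₀, hn₀⟩ := Ideal.exists_maximal (Bsh ⊗[Ash] Csh)
  refine ⟨n₀, hn₀, fun n hn => ?_⟩
  let Ω := AlgebraicClosure (ResidueField Csh)
  letI : Algebra (ResidueField Ash) Ω :=
    ((algebraMap (ResidueField Csh) Ω).comp (algebraMap (ResidueField Ash) (ResidueField Csh))).toAlgebra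
  -- the point of a maximal ideal in `Ω`
  have hpt : ∀ m : Ideal (Bsh ⊗[Ash] Csh), m.IsMaximal → ∃ (f : Bsh ⊗[Ash] Csh →+* Ω)
      (g : ResidueField Bsh →ₐ[ResidueField Ash] Ω), RingHom.ker f = m ∧
      (∀ c, f ((1 : Bsh) ⊗ₜ c) = algebraMap (ResidueField Csh) Ω (residue Csh c)) ∧
      ∀ b, f (b ⊗ₜ (1 : Csh)) = g (residue Bsh b) := by
    intro m hm
    haveI := hm
    obtain ⟨hC, hB⟩ := comap_eq_maximal Ash Bsh Csh m
    letI := Ideal.Quotient.field m
    let iC : Csh →+* (Bsh ⊗[Ash] Csh) ⧸ m :=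
      (Ideal.Quotient.mk m).comp (Algebra.TensorProduct.includeRight : Csh →ₐ[Ash] Bsh ⊗[Ash] Csh).toRingHom
    have hiC : ∀ c ∈ maximalIdeal Csh, iC c = 0 := fun c hc =>
      Ideal.Quotient.eq_zero_iff_mem.2 (by rw [← hC] at hc; exact hc)
    letI : Algebra (ResidueField Csh) ((Bsh ⊗[Ash] Csh) ⧸ m) := (Ideal.Quotient.lift (maximalIdeal Csh) iC hiC).toAlgebra
    haveI : Algebra.IsAlgebraic (ResidueField Csh) ((Bsh ⊗[Ash] Csh) ⧸ m) := by
      refine ⟨fun x => ?_⟩
      obtain ⟨y, rfl⟩ := Ideal.Quotient.mk_surjective x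
      obtain ⟨P, hP, hPy⟩ := right_isIntegral Ash Bsh Csh y
      refine IsIntegral.isAlgebraic ⟨P.map (residue Csh), hP.map _, ?_⟩
      rw [Polynomial.eval₂_map, show (algebraMap (ResidueField Csh) ((Bsh ⊗[Ash] Csh) ⧸ m)).comp (residue Csh) =
        (Ideal.Quotient.mk m).comp (Algebra.TensorProduct.includeRight : Csh →ₐ[Ash] Bsh ⊗[Ash] Csh).toRingHom
          from RingHom.ext fun _ => rfl, ← Polynomial.hom_eval₂, hPy, map_zero]
    let e : ((Bsh ⊗[Ash] Csh) ⧸ m) →ₐ[ResidueField Csh] Ω := IsAlgClosed.lift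
    let f : Bsh ⊗[Ash] Csh →+* Ω := e.toRingHom.comp (Ideal.Quotient.mk m)
    have hfC : ∀ c, f ((1 : Bsh) ⊗ₜ c) = algebraMap (ResidueField Csh) Ω (residue Csh c) := fun c =>
      e.commutes (residue Csh c)
    have hfB : ∀ b ∈ maximalIdeal Bsh,
        (f.comp (Algebra.TensorProduct.includeLeft : Bsh →ₐ[Ash] Bsh ⊗[Ash] Csh).toRingHom) b = 0 := fun b hb => by
      change e (Ideal.Quotient.mk m (b ⊗ₜ 1)) = 0
      rw [← hB] at hb
      rw [Ideal.Quotient.eq_zero_iff_mem.2 (show b ⊗ₜ[Ash] (1 : Csh) ∈ m from hb), map_zero]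
    let g₀ : ResidueField Bsh →+* Ω := Ideal.Quotient.lift (maximalIdeal Bsh) _ hfB
    refine ⟨f, ⟨g₀, fun a => ?_⟩, ?_, hfC, fun b => rfl⟩
    · obtain ⟨a, rfl⟩ := residue_surjective a
      change f ((algebraMap Ash Bsh a) ⊗ₜ[Ash] (1 : Csh)) = algebraMap (ResidueField Csh) Ω (residue Csh (algebraMap Ash Csh a))
      rw [← hfC, Algebra.algebraMap_eq_smul_one, Algebra.algebraMap_eq_smul_one, TensorProduct.smul_tmul]
    · ext z
      rw [RingHom.mem_ker, ← Ideal.Quotient.eq_zero_iff_mem]
      exact map_eq_zero_iff e e.toRingHom.injective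
  haveI : Algebra.IsAlgebraic (ResidueField Ash) (ResidueField Bsh) := by
    refine ⟨fun x => ?_⟩
    obtain ⟨y, rfl⟩ := residue_surjective x
    obtain ⟨P, hP, hPy⟩ := Algebra.IsIntegral.isIntegral (R := Ash) y
    refine IsIntegral.isAlgebraic ⟨P.map (residue Ash), hP.map _, ?_⟩
    rw [Polynomial.eval₂_map, show (algebraMap (ResidueField Ash) (ResidueField Bsh)).comp (residue Ash) =
      (residue Bsh).comp (algebraMap Ash Bsh) from RingHom.ext fun _ => rfl, ← Polynomial.hom_eval₂, hPy, map_zero]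
  obtain ⟨f, g, hf, hfC, hfB⟩ := hpt n hn
  obtain ⟨f', g', hf', hfC', hfB'⟩ := hpt n₀ hn₀
  have hg : g = g' := Subsingleton.elim _ _
  rw [← hf, ← hf']
  congr 1
  refine RingHom.ext fun z => ?_
  induction z using TensorProduct.induction_on with
  | zero => simp
  | add a b ha hb => simp [ha, hb]
  | tmul b c =>
    rw [show b ⊗ₜ[Ash] c = (b ⊗ₜ[Ash] (1 : Csh)) * ((1 : Bsh) ⊗ₜ[Ash] c) from by
      rw [Algebra.TensorProduct.tmul_mul_tmul, mul_one, one_mul], map_mul, map_mul, hfB, hfB', hfC, hfC', hg]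

section Main

variable {A B C : Type u} [CommRing A] [CommRing B] [CommRing C] [Algebra A B] [Algebra A C]

theorem lift_bijective
    (pA : Ideal A) [pA.IsPrime] (pB : Ideal B) [pB.IsPrime] (pC : Ideal C) [pC.IsPrime]
    (pD : Ideal (B ⊗[A] C)) [pD.IsPrime]
    {Ash : Type u} [CommRing Ash] [IsLocalRing Ash] [Algebra (Localization.AtPrime pA) Ash]
    [IsLocalHom (algebraMap (Localization.AtPrime pA) Ash)]
    [_root_.Hensel.IsStrictHenselization (Localization.AtPrime pA) Ash] [Algebra A Ash]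
    {Bsh : Type u} [CommRing Bsh] [IsLocalRing Bsh] [Algebra (Localization.AtPrime pB) Bsh]
    [IsLocalHom (algebraMap (Localization.AtPrime pB) Bsh)]
    [_root_.Hensel.IsStrictHenselization (Localization.AtPrime pB) Bsh] [Algebra B Bsh]
    [IsScalarTower B (Localization.AtPrime pB) Bsh] [Algebra A Bsh] [IsScalarTower A B Bsh]
    [Algebra Ash Bsh] [IsScalarTower A Ash Bsh] [IsLocalHom (algebraMap Ash Bsh)]
    {Csh : Type u} [CommRing Csh] [IsLocalRing Csh] [Algebra (Localization.AtPrime pC) Csh]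
    [IsLocalHom (algebraMap (Localization.AtPrime pC) Csh)]
    [_root_.Hensel.IsStrictHenselization (Localization.AtPrime pC) Csh] [Algebra C Csh]
    [IsScalarTower C (Localization.AtPrime pC) Csh] [Algebra A Csh] [IsScalarTower A C Csh]
    [Algebra Ash Csh] [IsScalarTower A Ash Csh] [IsLocalHom (algebraMap Ash Csh)]
    {Dsh : Type u} [CommRing Dsh] [IsLocalRing Dsh] [Algebra (Localization.AtPrime pD) Dsh]
    [IsLocalHom (algebraMap (Localization.AtPrime pD) Dsh)]
    [_root_.Hensel.IsStrictHenselization (Localization.AtPrime pD) Dsh] [Algebra (B ⊗[A] C) Dsh]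
    [IsScalarTower (B ⊗[A] C) (Localization.AtPrime pD) Dsh]
    [Algebra Bsh Dsh] [IsLocalHom (algebraMap Bsh Dsh)] [Algebra B Dsh] [IsScalarTower B Bsh Dsh]
    [IsScalarTower B (B ⊗[A] C) Dsh]
    [Algebra Csh Dsh] [IsLocalHom (algebraMap Csh Dsh)]
    (hC : ∀ c : C, algebraMap Csh Dsh (algebraMap C Csh c) = algebraMap (B ⊗[A] C) Dsh (1 ⊗ₜ[A] c))
    [Algebra Ash Dsh] [IsScalarTower Ash Bsh Dsh] [IsScalarTower Ash Csh Dsh]
    [hint : Algebra.IsIntegral Ash Bsh] :
    Function.Bijective (Algebra.TensorProduct.lift (IsScalarTower.toAlgHom Ash Bsh Dsh)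
      (IsScalarTower.toAlgHom Ash Csh Dsh) (fun _ _ => Commute.all _ _)) := by
  haveI := (_root_.Hensel.IsStrictHenselization.isSepClosure (R := Localization.AtPrime pA) (S := Ash)).sep_closed
  haveI := (_root_.Hensel.IsStrictHenselization.isSepClosure (R := Localization.AtPrime pC) (S := Csh)).sep_closed
  haveI := _root_.Hensel.IsStrictHenselization.henselian (R := Localization.AtPrime pC) (S := Csh)
  haveI := _root_.Hensel.IsStrictHenselization.henselian (R := Localization.AtPrime pD) (S := Dsh)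
  haveI := _root_.Hensel.IsStrictHenselization.henselian (R := Localization.AtPrime pB) (S := Bsh)
  haveI := isLocalRing_tensor Ash Bsh Csh
  let L := Bsh ⊗[Ash] Csh
  let iB : Bsh →+* L := (Algebra.TensorProduct.includeLeft : Bsh →ₐ[Ash] L).toRingHom
  let iC : Csh →+* L := (Algebra.TensorProduct.includeRight : Csh →ₐ[Ash] L).toRingHom
  obtain ⟨hcC, hcB⟩ := comap_eq_maximal Ash Bsh Csh (maximalIdeal L)
  haveI hlB : IsLocalHom iB := ((IsLocalRing.local_hom_TFAE iB).out 4 0 rfl rfl).1 hcB
  haveI hlC : IsLocalHom iC := ((IsLocalRing.local_hom_TFAE iC).out 4 0 rfl rfl).1 hcC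
  letI : Algebra Csh L := iC.toAlgebra
  haveI : IsLocalHom (algebraMap Csh L) := hlC
  haveI : Algebra.IsIntegral Csh L := ⟨fun x => right_isIntegral Ash Bsh Csh x⟩
  haveI : HenselianLocalRing L := henselianLocalRing_of_isIntegral Csh L
  let Ψ : L →+* Dsh := (Algebra.TensorProduct.lift (IsScalarTower.toAlgHom Ash Bsh Dsh)
    (IsScalarTower.toAlgHom Ash Csh Dsh) (fun _ _ => Commute.all _ _)).toRingHom
  have hΨB : ∀ b, Ψ (iB b) = algebraMap Bsh Dsh b := fun b =>
    (Algebra.TensorProduct.lift_tmul _ _ _ b 1).trans (by rw [map_one, mul_one]; rfl)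
  have hΨC : ∀ c, Ψ (iC c) = algebraMap Csh Dsh c := fun c =>
    (Algebra.TensorProduct.lift_tmul _ _ _ 1 c).trans (by rw [map_one, one_mul]; rfl)
  haveI hlΨ : IsLocalHom Ψ := by
    refine ((IsLocalRing.local_hom_TFAE Ψ).out 4 0 rfl rfl).1 (IsLocalRing.eq_maximalIdeal ?_)
    haveI : ((maximalIdeal Dsh).comap Ψ).IsPrime := Ideal.comap_isPrime _ _
    refine Ideal.isMaximal_of_isIntegral_of_isMaximal_comap (R := Csh) _ ?_
    have h : ((maximalIdeal Dsh).comap Ψ).comap (algebraMap Csh L) = maximalIdeal Csh := by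
      rw [Ideal.comap_comap, show Ψ.comp (algebraMap Csh L) = algebraMap Csh Dsh from RingHom.ext hΨC,
        IsLocalRing.maximalIdeal_comap]
    rw [h]
    exact maximalIdeal.isMaximal Csh
  -- the map from the tensor product
  have hswap : ∀ x : Ash, (algebraMap Ash Bsh x) ⊗ₜ[Ash] (1 : Csh) = (1 : Bsh) ⊗ₜ[Ash] (algebraMap Ash Csh x) := fun x => by
    rw [Algebra.algebraMap_eq_smul_one, Algebra.algebraMap_eq_smul_one, TensorProduct.smul_tmul]
  let θ₀ : B ⊗[A] C →ₐ[A] L :=
    Algebra.TensorProduct.lift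
      ({ iB.comp (algebraMap B Bsh) with
          commutes' := fun a => by
            change (algebraMap B Bsh (algebraMap A B a)) ⊗ₜ[Ash] (1 : Csh) = (algebraMap A Bsh a) ⊗ₜ[Ash] (1 : Csh)
            rw [← IsScalarTower.algebraMap_apply] } : B →ₐ[A] L)
      ({ iC.comp (algebraMap C Csh) with
          commutes' := fun a => by
            change (1 : Bsh) ⊗ₜ[Ash] (algebraMap C Csh (algebraMap A C a)) = (algebraMap A Bsh a) ⊗ₜ[Ash] (1 : Csh)
            rw [← IsScalarTower.algebraMap_apply, IsScalarTower.algebraMap_apply A Ash Csh,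
              IsScalarTower.algebraMap_apply A Ash Bsh, hswap] } : C →ₐ[A] L)
      (fun _ _ => Commute.all _ _)
  have hθ : ∀ b c, θ₀ (b ⊗ₜ c) = iB (algebraMap B Bsh b) * iC (algebraMap C Csh c) := fun b c =>
    Algebra.TensorProduct.lift_tmul _ _ _ b c
  have hΨθ : ∀ x, Ψ (θ₀ x) = algebraMap (B ⊗[A] C) Dsh x := by
    intro x
    induction x using TensorProduct.induction_on with
    | zero => simp
    | add a b ha hb => simp [ha, hb]
    | tmul b c =>
      rw [hθ, map_mul, hΨB, hΨC, hC, ← IsScalarTower.algebraMap_apply B Bsh Dsh,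
        IsScalarTower.algebraMap_apply B (B ⊗[A] C) Dsh, ← map_mul]
      congr 1
      rw [Algebra.TensorProduct.algebraMap_apply, Algebra.algebraMap_self, RingHom.id_apply,
        Algebra.TensorProduct.tmul_mul_tmul, mul_one, one_mul]
  let f : Localization.AtPrime pD →+* L := IsLocalization.lift (M := pD.primeCompl) (g := θ₀.toRingHom) fun y => by
    refine isUnit_of_map_unit Ψ _ ?_
    change IsUnit (Ψ (θ₀ y))
    rw [hΨθ, IsScalarTower.algebraMap_apply (B ⊗[A] C) (Localization.AtPrime pD) Dsh]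
    exact (IsLocalization.map_units (Localization.AtPrime pD) y).map _
  have hΨf : Ψ.comp f = algebraMap (Localization.AtPrime pD) Dsh := by
    refine IsLocalization.ringHom_ext pD.primeCompl (RingHom.ext fun x => ?_)
    simp only [RingHom.comp_apply, f, IsLocalization.lift_eq]
    rw [← IsScalarTower.algebraMap_apply]
    exact hΨθ x
  haveI hlf : IsLocalHom f := ⟨fun a ha => isUnit_of_map_unit (algebraMap (Localization.AtPrime pD) Dsh) a (by
    rw [← hΨf]; exact ha.map Ψ)⟩
  -- residue fields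
  haveI : Algebra.IsAlgebraic (ResidueField Csh) (ResidueField L) := by
    refine ⟨fun x => ?_⟩
    obtain ⟨y, rfl⟩ := residue_surjective x
    obtain ⟨P, hP, hPy⟩ := Algebra.IsIntegral.isIntegral (R := Csh) y
    refine IsIntegral.isAlgebraic ⟨P.map (residue Csh), hP.map _, ?_⟩
    rw [Polynomial.eval₂_map, show (algebraMap (ResidueField Csh) (ResidueField L)).comp (residue Csh) =
      (residue L).comp (algebraMap Csh L) from RingHom.ext fun _ => rfl, ← Polynomial.hom_eval₂, hPy, map_zero]
  haveI : IsSepClosed (ResidueField L) := Algebra.IsAlgebraic.isSepClosed (F := ResidueField Csh)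
  let j : ResidueField L →+* ResidueField Dsh := ResidueField.map Ψ
  letI : Algebra (ResidueField (Localization.AtPrime pD)) (ResidueField L) := (ResidueField.map f).toAlgebra
  letI : Algebra (ResidueField L) (ResidueField Dsh) := j.toAlgebra
  haveI : IsScalarTower (ResidueField (Localization.AtPrime pD)) (ResidueField L) (ResidueField Dsh) :=
    IsScalarTower.of_algebraMap_eq fun x => by
      obtain ⟨r, rfl⟩ := residue_surjective x
      change residue Dsh (algebraMap (Localization.AtPrime pD) Dsh r) = residue Dsh (Ψ (f r))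
      rw [← RingHom.comp_apply Ψ f, hΨf]
  haveI := (_root_.Hensel.IsStrictHenselization.isSepClosure (R := Localization.AtPrime pD) (S := Dsh)).separable
  haveI : Algebra.IsSeparable (ResidueField L) (ResidueField Dsh) :=
    Algebra.isSeparable_tower_top_of_isSeparable (ResidueField (Localization.AtPrime pD)) (ResidueField L) (ResidueField Dsh)
  have hj : Function.Bijective j := IsSepClosed.algebraMap_bijective (k := ResidueField L) (ResidueField Dsh)
  let τ : ResidueField Dsh →+* ResidueField L := (RingEquiv.ofBijective j hj).symm.toRingHom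
  have hτj : ∀ z, j (τ z) = z := fun z => (RingEquiv.ofBijective j hj).apply_symm_apply z
  have hjτ : ∀ z, τ (j z) = z := fun z => (RingEquiv.ofBijective j hj).symm_apply_apply z
  have hτ : τ.comp (ResidueField.map (algebraMap (Localization.AtPrime pD) Dsh)) = ResidueField.map f := by
    refine RingHom.ext fun x => hj.1 ?_
    rw [RingHom.comp_apply, hτj]
    obtain ⟨r, rfl⟩ := residue_surjective x
    change residue Dsh (algebraMap (Localization.AtPrime pD) Dsh r) = residue Dsh (Ψ (f r))
    rw [← RingHom.comp_apply Ψ f, hΨf]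
  obtain ⟨G, ⟨hG, hGres⟩, -⟩ :=
    _root_.Hensel.IsStrictHenselization.universal (R := Localization.AtPrime pD) (S := Dsh) L f τ hτ
  have h1 : Ψ.comp G = RingHom.id Dsh := by
    refine (_root_.Hensel.IsStrictHenselization.universal (R := Localization.AtPrime pD) (S := Dsh) Dsh
      (algebraMap (Localization.AtPrime pD) Dsh) (RingHom.id _) (RingHom.id_comp _)).unique ⟨?_, fun x => ?_⟩
      ⟨rfl, fun x => rfl⟩
    · rw [RingHom.comp_assoc, hG, hΨf]
    · rw [RingHom.comp_apply, ← ResidueField.map_residue, hGres]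
      exact hτj _
  have hGB : ∀ b : B, G (algebraMap B Dsh b) = iB (algebraMap B Bsh b) := fun b => by
    rw [IsScalarTower.algebraMap_apply B (B ⊗[A] C) Dsh,
      IsScalarTower.algebraMap_apply (B ⊗[A] C) (Localization.AtPrime pD) Dsh, ← RingHom.comp_apply G, hG]
    simp only [f, IsLocalization.lift_eq]
    change θ₀ (b ⊗ₜ (1 : C)) = _
    rw [hθ, map_one, map_one, mul_one]
  have hGC : ∀ c : C, G (algebraMap Csh Dsh (algebraMap C Csh c)) = iC (algebraMap C Csh c) := fun c => by
    rw [hC, IsScalarTower.algebraMap_apply (B ⊗[A] C) (Localization.AtPrime pD) Dsh, ← RingHom.comp_apply G, hG]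
    simp only [f, IsLocalization.lift_eq]
    change θ₀ ((1 : B) ⊗ₜ c) = _
    rw [hθ, map_one, map_one, one_mul]
  have hres : ∀ l : L, residue L (G (Ψ l)) = residue L l := fun l => by
    rw [hGres]; exact hjτ (residue L l)
  have hB' : ∀ b : Bsh, G (algebraMap Bsh Dsh b) = iB b := by
    haveI : IsLocalHom (iB.comp (algebraMap (Localization.AtPrime pB) Bsh)) := RingHom.isLocalHom_comp _ _
    have h := (_root_.Hensel.IsStrictHenselization.universal (R := Localization.AtPrime pB) (S := Bsh) L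
      (iB.comp (algebraMap (Localization.AtPrime pB) Bsh)) (ResidueField.map iB)
      (ResidueField.map_comp _ _).symm).unique (y₁ := G.comp (algebraMap Bsh Dsh)) (y₂ := iB)
      ⟨?_, fun x => ?_⟩ ⟨rfl, fun x => rfl⟩
    · exact fun b => RingHom.congr_fun h b
    · refine IsLocalization.ringHom_ext pB.primeCompl (RingHom.ext fun b => ?_)
      simp only [RingHom.comp_apply]
      rw [← IsScalarTower.algebraMap_apply B (Localization.AtPrime pB) Bsh, ← IsScalarTower.algebraMap_apply B Bsh Dsh]
      exact hGB b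
    · rw [RingHom.comp_apply, ← hΨB, hres]; rfl
  have hC' : ∀ c : Csh, G (algebraMap Csh Dsh c) = iC c := by
    haveI : IsLocalHom (iC.comp (algebraMap (Localization.AtPrime pC) Csh)) := RingHom.isLocalHom_comp _ _
    have h := (_root_.Hensel.IsStrictHenselization.universal (R := Localization.AtPrime pC) (S := Csh) L
      (iC.comp (algebraMap (Localization.AtPrime pC) Csh)) (ResidueField.map iC)
      (ResidueField.map_comp _ _).symm).unique (y₁ := G.comp (algebraMap Csh Dsh)) (y₂ := iC)
      ⟨?_, fun x => ?_⟩ ⟨rfl, fun x => rfl⟩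
    · exact fun b => RingHom.congr_fun h b
    · refine IsLocalization.ringHom_ext pC.primeCompl (RingHom.ext fun c => ?_)
      simp only [RingHom.comp_apply]
      rw [← IsScalarTower.algebraMap_apply C (Localization.AtPrime pC) Csh]
      exact hGC c
    · rw [RingHom.comp_apply, ← hΨC, hres]; rfl
  have h2 : ∀ l : L, G (Ψ l) = l := by
    intro l
    induction l using TensorProduct.induction_on with
    | zero => simp
    | add a b ha hb => simp [ha, hb]
    | tmul b c =>
      have hbc : b ⊗ₜ[Ash] c = iB b * iC c := by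
        change _ = (b ⊗ₜ[Ash] (1 : Csh)) * ((1 : Bsh) ⊗ₜ[Ash] c)
        rw [Algebra.TensorProduct.tmul_mul_tmul, mul_one, one_mul]
      rw [hbc, map_mul, map_mul, hΨB, hΨC, hB', hC']
  exact ⟨Function.LeftInverse.injective (g := G) h2, fun y => ⟨G y, RingHom.congr_fun h1 y⟩⟩

end Main

end Groth.Agent.Hensel.TensorSH
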